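import Mathlib
import Cfsg.Agent.LargeExtra.Local

/-!
Products of numbered elements over the bits of a code, and coordinates in an extraspecial group of order `2 ^ 9`.
-/

set_option autoImplicit false

namespace Cfsg.Agent.TypeOMinusEight.Code

open Cfsg.Agent.Co2Type.Quad

variable {G : Type*} [Group G]

/-- `x` or `1` -/
def cb (b : Bool) (x : G) : G := cond b x 1

theorem cb_true (x : G) : cb true x = x := rfl
theorem cb_false (x : G) : cb false x = 1 := rfl

theorem cb_xor {x : G} (hx : x * x = 1) (b b' : Bool) : cb (b ^^ b') x = cb b x * cb b' x := by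
  cases b <;> cases b' <;> simp [cb, hx]

theorem cb_comm {x y : G} (h : x * y = y * x) (b : Bool) : cb b x * y = y * cb b x := by
  cases b <;> simp [cb, h]

/-- bit `n` of `c` (kernel friendly) -/
def bt (c n : ℕ) : Bool := Nat.beq (Nat.land (Nat.shiftRight c n) 1) 1

theorem bt_eq (c n : ℕ) : bt c n = c.testBit n := by
  rw [bt, Nat.testBit_eq_decide_div_mod_eq]
  have h1 : Nat.land (Nat.shiftRight c n) 1 = c / 2 ^ n % 2 := by
    show (c >>> n) &&& 1 = _
    rw [Nat.and_one_is_mod, Nat.shiftRight_eq_div_pow]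
  rw [h1]
  rcases Nat.mod_two_eq_zero_or_one (c / 2 ^ n) with h | h <;> rw [h] <;> rfl

theorem bt_zero (n : ℕ) : bt 0 n = false := by rw [bt_eq, Nat.zero_testBit]

theorem bt_xor (c d n : ℕ) : bt (c ^^^ d) n = (bt c n ^^ bt d n) := by
  rw [bt_eq, bt_eq, bt_eq, Nat.testBit_xor]

/-- product of the `f i`, `i < n`, over the bits of `c` -/
def io (f : ℕ → G) (c : ℕ) (n : ℕ) : G := Nat.rec 1 (fun i x => x * cb (bt c i) (f i)) n

theorem io_zero (f : ℕ → G) (c : ℕ) : io f c 0 = 1 := rfl
theorem io_succ (f : ℕ → G) (c n : ℕ) : io f c (n + 1) = io f c n * cb (bt c n) (f n) := rfl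

theorem io_code_zero (f : ℕ → G) (n : ℕ) : io f 0 n = 1 := by
  induction n with
  | zero => rfl
  | succ n ih => rw [io_succ, ih, bt_zero, cb_false, mul_one]

theorem io_mem {f : ℕ → G} {Q : Subgroup G} {n : ℕ} (hf : ∀ i < n, f i ∈ Q) (c : ℕ) : io f c n ∈ Q := by
  induction n with
  | zero => exact Q.one_mem
  | succ n ih =>
    rw [io_succ]
    refine Q.mul_mem (ih fun i hi => hf i (by omega)) ?_
    cases bt c n
    · exact Q.one_mem
    · exact hf n (by omega)

theorem io_mem_of_bits {f : ℕ → G} {A : Subgroup G} {n : ℕ} {c : ℕ}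
    (hf : ∀ i < n, bt c i = true → f i ∈ A) : io f c n ∈ A := by
  induction n with
  | zero => exact A.one_mem
  | succ n ih =>
    rw [io_succ]
    refine A.mul_mem (ih fun i hi => hf i (by omega)) ?_
    rcases hb : bt c n with _ | _
    · exact A.one_mem
    · exact hf n (by omega) hb

theorem io_congr {f g : ℕ → G} {n : ℕ} (h : ∀ i < n, f i = g i) (c : ℕ) : io f c n = io g c n := by
  induction n with
  | zero => rfl
  | succ n ih => rw [io_succ, io_succ, ih fun i hi => h i (by omega), h n (by omega)]

theorem io_comm {f : ℕ → G} {n : ℕ} {y : G} (hf : ∀ i < n, f i * y = y * f i) (c : ℕ) :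
    io f c n * y = y * io f c n := by
  induction n with
  | zero => rw [io_zero, one_mul, mul_one]
  | succ n ih =>
    rw [io_succ, mul_assoc, cb_comm (hf n (by omega)), ← mul_assoc, ih fun i hi => hf i (by omega),
      mul_assoc]

/-- commuting involutions: `io` is a homomorphism for `xor` -/
theorem io_xor {f : ℕ → G} {n : ℕ} (h2 : ∀ i < n, f i * f i = 1)
    (hc : ∀ i < n, ∀ j < n, f i * f j = f j * f i) (c d : ℕ) :
    io f (c ^^^ d) n = io f c n * io f d n := by
  induction n with
  | zero => rw [io_zero, io_zero, io_zero, one_mul]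
  | succ n ih =>
    rw [io_succ, io_succ, io_succ, ih (fun i hi => h2 i (by omega))
      (fun i hi j hj => hc i (by omega) j (by omega)), bt_xor, cb_xor (h2 n (by omega))]
    have h3 : io f d n * cb (bt c n) (f n) = cb (bt c n) (f n) * io f d n := by
      apply io_comm
      intro i hi
      exact (cb_comm (hc n (by omega) i (by omega)) _).symm
    calc io f c n * io f d n * (cb (bt c n) (f n) * cb (bt d n) (f n))
        = io f c n * (io f d n * cb (bt c n) (f n)) * cb (bt d n) (f n) := by group
      _ = _ := by rw [h3]; group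

theorem io_sq {f : ℕ → G} {n : ℕ} (h2 : ∀ i < n, f i * f i = 1)
    (hc : ∀ i < n, ∀ j < n, f i * f j = f j * f i) (c : ℕ) : io f c n * io f c n = 1 := by
  rw [← io_xor h2 hc, Nat.xor_self, io_code_zero]

/-- xor of the codes `L i` over the bits of `c` -/
def ap (L : ℕ → ℕ) (c : ℕ) (n : ℕ) : ℕ :=
  Nat.rec 0 (fun i x => Nat.xor x (cond (bt c i) (L i) 0)) n

theorem ap_succ (L : ℕ → ℕ) (c n : ℕ) :
    ap L c (n + 1) = ap L c n ^^^ (cond (bt c n) (L n) 0) := rfl

/-- conjugation in coordinates -/
theorem io_conj {f : ℕ → G} {n : ℕ} (h2 : ∀ i < n, f i * f i = 1)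
    (hc : ∀ i < n, ∀ j < n, f i * f j = f j * f i) {g : G} {L : ℕ → ℕ}
    (hL : ∀ i < n, g * f i * g⁻¹ = io f (L i) n) (c : ℕ) :
    g * io f c n * g⁻¹ = io f (ap L c n) n := by
  have key : ∀ l ≤ n, g * io f c l * g⁻¹ = io f (ap L c l) n := by
    intro l
    induction l with
    | zero =>
      intro _
      rw [io_zero, mul_one, mul_inv_cancel]
      exact (io_code_zero f n).symm
    | succ l ih =>
      intro hl
      rw [io_succ, ap_succ, io_xor h2 hc, ← ih (by omega)]
      have e : g * (io f c l * cb (bt c l) (f l)) * g⁻¹ =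
          g * io f c l * g⁻¹ * (g * cb (bt c l) (f l) * g⁻¹) := by group
      rw [e]
      congr 1
      cases bt c l
      · rw [cb_false, mul_one, mul_inv_cancel]
        exact (io_code_zero f n).symm
      · exact hL l (by omega)
  exact key n le_rfl

/-- commutation bits -/
def xs (β : ℕ → Bool) (c : ℕ) (n : ℕ) : Bool :=
  Nat.rec false (fun i x => bif (bif bt c i then β i else false) then (!x) else x) n

theorem xs_succ (β : ℕ → Bool) (c n : ℕ) : xs β c (n + 1) = (xs β c n ^^ (bt c n && β n)) := by
  show (bif (bif bt c n then β n else false) then (!xs β c n) else xs β c n) = _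
  cases bt c n <;> cases β n <;> cases xs β c n <;> rfl

section Large

variable {Q : Subgroup G} {z : G}

theorem io_gram (h : Large Q z) {f : ℕ → G} {n : ℕ} (hf : ∀ i < n, f i ∈ Q) {y : G}
    {β : ℕ → Bool} (hβ : ∀ i < n, f i * y = y * f i * cb (β i) z) (c : ℕ) :
    io f c n * y = y * io f c n * cb (xs β c n) z := by
  induction n with
  | zero => rw [io_zero, one_mul, mul_one]; exact (mul_one y).symm
  | succ n ih =>
    have h1 := ih (fun i hi => hf i (by omega)) (fun i hi => hβ i (by omega))
    have h2 := hβ n (by omega)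
    have hn := hf n (by omega)
    rw [io_succ, xs_succ, cb_xor h.z_sq]
    have hz : ∀ (b : Bool) (x : G), x ∈ Q → cb b z * x = x * cb b z := fun b x hx =>
      cb_comm (h.comm_z x hx).symm b
    rcases hb : bt c n with _ | _
    · rw [cb_false, mul_one, Bool.false_and, cb_false, mul_one, h1]
    · rw [cb_true, Bool.true_and]
      calc io f c n * f n * y = io f c n * (f n * y) := by group
        _ = (io f c n * y) * f n * cb (β n) z := by rw [h2]; group
        _ = y * io f c n * (cb (xs β c n) z * f n) * cb (β n) z := by rw [h1]; group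
        _ = y * (io f c n * f n) * (cb (xs β c n) z * cb (β n) z) := by rw [hz _ _ hn]; group

/-- the key of a code: its commutation bits with the eight elements -/
def key (gram : ℕ → ℕ → Bool) (c : ℕ) (n : ℕ) : ℕ :=
  Nat.rec 0 (fun j x => Nat.add x (cond (xs (fun i => gram i j) c 8) (Nat.pow 2 j) 0)) n

theorem key_congr {gram : ℕ → ℕ → Bool} {c d : ℕ} :
    ∀ n, (∀ j < n, xs (fun i => gram i j) c 8 = xs (fun i => gram i j) d 8) →
      key gram c n = key gram d n := by
  intro n
  induction n with
  | zero => intro _; rfl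
  | succ n ih =>
    intro hj
    show Nat.add (key gram c n) _ = Nat.add (key gram d n) _
    rw [ih fun j hjn => hj j (by omega), hj n (by omega)]

theorem cb_inj (hz : (z : G) ≠ 1) {b b' : Bool} (hb : cb b z = cb b' z) : b = b' := by
  cases b <;> cases b'
  · rfl
  · exact absurd hb.symm hz
  · exact absurd hb hz
  · rfl

/-- the commutation bit of `x = io c` or `io c * z` -/
theorem bit_gen (h : Large Q z) {f : ℕ → G} (hf : ∀ i < 8, f i ∈ Q) {gram : ℕ → ℕ → Bool}
    (hg : ∀ i < 8, ∀ j < 8, f i * f j = f j * f i * cb (gram i j) z) {c : ℕ} {x : G}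
    (hx : x = io f c 8 ∨ x = io f c 8 * z) {j : ℕ} (hj : j < 8) {β : Bool}
    (hc : x * f j = f j * x * cb β z) : xs (fun i => gram i j) c 8 = β := by
  have h1 := io_gram h hf (y := f j) (β := fun i => gram i j) (fun i hi => hg i hi j hj) c
  have hz := h.comm_z _ (hf j hj)
  rcases hx with rfl | rfl
  · rw [h1] at hc
    exact cb_inj h.z_ne (mul_left_cancel hc)
  · have h2 : io f c 8 * z * f j = f j * (io f c 8 * z) * cb (xs (fun i => gram i j) c 8) z := by
      rw [mul_assoc, ← hz, ← mul_assoc, h1, mul_assoc _ _ z,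
        cb_comm (rfl : z * z = z * z) (xs (fun i => gram i j) c 8)]
      group
    rw [h2] at hc
    exact cb_inj h.z_ne (mul_left_cancel hc)

/-- Eight elements with nondegenerate commutator matrix generate `Q / ⟨z⟩`. -/
theorem exists_code [Finite Q] (h : Large Q z) (hc : Nat.card Q = 2 ^ 9) {f : ℕ → G}
    (hf : ∀ i < 8, f i ∈ Q) {gram : ℕ → ℕ → Bool}
    (hg : ∀ i < 8, ∀ j < 8, f i * f j = f j * f i * cb (gram i j) z)
    {u : ℕ → ℕ} (hnd : ∀ c < 256, u (key gram c 8) = c) {x : G} (hx : x ∈ Q) :
    ∃ c < 256, x = io f c 8 ∨ x = io f c 8 * z := by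
  classical
  let F : Fin 256 → h.V := fun c => h.pr ⟨io f c 8, io_mem hf c⟩
  have hF : Function.Injective F := by
    intro c d hcd
    have h1 : ∀ j < 8, xs (fun i => gram i j) c 8 = xs (fun i => gram i j) d 8 := by
      intro j hj
      have e1 := io_gram h (n := 8) hf (y := f j) (β := fun i => gram i j) (fun i hi => hg i hi j hj) (c : ℕ)
      have e2 := io_gram h (n := 8) hf (y := f j) (β := fun i => gram i j) (fun i hi => hg i hi j hj) (d : ℕ)
      rcases h.pr_eq_pr.1 hcd with h3 | h3
      · have h3' : io f c 8 = io f d 8 := h3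
        rw [h3', e2] at e1
        exact (cb_inj h.z_ne (mul_left_cancel e1)).symm
      · have h3' : io f c 8 = io f d 8 * z := h3
        rw [h3'] at e1
        have e3 : io f d 8 * z * f j = f j * io f d 8 * cb (xs (fun i => gram i j) d 8) z * z := by
          rw [mul_assoc, ← h.comm_z _ (hf j hj), ← mul_assoc, e2]
        rw [e3] at e1
        have e4 : f j * io f d 8 * cb (xs (fun i => gram i j) d 8) z * z =
            f j * (io f d 8 * z) * cb (xs (fun i => gram i j) d 8) z := by
          have : cb (xs (fun i => gram i j) d 8) z * z = z * cb (xs (fun i => gram i j) d 8) z :=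
            cb_comm rfl _
          rw [mul_assoc _ _ z, this]; group
        rw [e4] at e1
        exact (cb_inj h.z_ne (mul_left_cancel e1)).symm
    apply Fin.ext
    rw [← hnd c c.2, ← hnd d d.2, key_congr 8 h1]
  have hV : Nat.card h.V = 256 := by
    have := h.card_eq
    rw [hc] at this
    omega
  have hVf : Finite h.V := Nat.finite_of_card_ne_zero (by rw [hV]; norm_num)
  have hsurj : Function.Surjective F := by
    have := Fintype.ofFinite h.V
    have hb : Function.Bijective F := by
      rw [Fintype.bijective_iff_injective_and_card]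
      exact ⟨hF, by rw [Fintype.card_fin, ← Nat.card_eq_fintype_card, hV]⟩
    exact hb.2
  obtain ⟨c, hc'⟩ := hsurj (h.pr ⟨x, hx⟩)
  refine ⟨c, c.2, ?_⟩
  exact h.pr_eq_pr.1 hc'.symm

end Large

end Cfsg.Agent.TypeOMinusEight.Code
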