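import Cfsg.Agent.TypeOMinusEight.Words
import Cfsg.Agent.TypeOMinusEight.Code
import Cfsg.Agent.LargeExtra.Perp

/-!
The interface `CData` (structure of `C_G(z)`, helper43) and coordinates in `Q` (helper46).
-/

set_option autoImplicit false
set_option maxRecDepth 100000

namespace Cfsg.Agent.TypeOMinusEight.Data

open Cfsg.Agent.SporadicRecognition.CosetCert Cfsg.Agent.TypeO8Minus.Rel
  Cfsg.Agent.Co2Type.Quad Cfsg.Agent.LargeExtra.Base Cfsg.Agent.TypeOMinusEight.Words
  Cfsg.Agent.TypeOMinusEight.Code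

/-- **Interface**: what the analysis of `C_G(z)` provides. -/
structure CData {G : Type*} [Group G] {Q A : Subgroup G} {z a : G} (p : Pair Q z A a)
    (t w r k n s : G) : Prop where
  rels : RelsC t w r k n z s
  card : Nat.card Q = 2 ^ 9
  s_mem : s ∈ Q
  a_eq : w * (n * s * n) * w = a
  e_mem : w * s * w ∈ A
  d_mem : n * (s * (t * s * t) * (w * s * w)) * n ∈ A
  kX : ∃ x ∈ A, x * z = z * x ∧ k * x ∈ Q
  tX : ∃ x ∈ A, x * z = z * x ∧ t * x ∈ Q
  zQ : ∀ x ∈ Q, IsConj z x → x = z ∨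
    ∃ g ∈ Subgroup.closure ({t, w, r, k, n} : Set G), x = g * s * g⁻¹ ∨ x = g * s * g⁻¹ * z

/-! ### words -/

def wU : List ℕ := [7,0,7,0,1,7,1]
def wN : List ℕ := [5,7,0,7,0,1,7,1,5]

/-- the eight elements of `Q`: `a, α, ν, ν', e, s, u, u'` -/
def wQ (i : ℕ) : List ℕ :=
  bif Nat.beq i 0 then [1,5,7,5,1] else bif Nat.beq i 1 then [5,7,5] else
  bif Nat.beq i 2 then wN else bif Nat.beq i 3 then 2 :: (wN ++ [3]) else
  bif Nat.beq i 4 then [1,7,1] else bif Nat.beq i 5 then [7] else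
  bif Nat.beq i 6 then wU else 2 :: (wU ++ [3])

/-- the six generators of `E`: `z, a, α, ν, ν', k` -/
def wE (i : ℕ) : List ℕ :=
  bif Nat.beq i 0 then [6] else bif Nat.beq i 1 then [1,5,7,5,1] else bif Nat.beq i 2 then [5,7,5] else
  bif Nat.beq i 3 then wN else bif Nat.beq i 4 then 2 :: (wN ++ [3]) else [4]

/-- word of a product over a code -/
def iw (ws : ℕ → List ℕ) (c : ℕ) (n : ℕ) : List ℕ :=
  Nat.rec [] (fun i a => a ++ (bif bt c i then ws i else [])) n

theorem iw_succ (ws : ℕ → List ℕ) (c n : ℕ) :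
    iw ws c (n + 1) = iw ws c n ++ (bif bt c n then ws n else []) := rfl

/-- inverse letter -/
def ix (x : ℕ) : ℕ := bif Nat.beq x 2 then 3 else bif Nat.beq x 3 then 2 else x

section ev

variable {G : Type*} [Group G]

theorem ev_iw (L : ℕ → G) (ws : ℕ → List ℕ) (c n : ℕ) :
    ev L (iw ws c n) = io (fun i => ev L (ws i)) c n := by
  induction n with
  | zero => rfl
  | succ n ih =>
    rw [iw_succ, ev_append, ih, io_succ]
    congr 1
    cases bt c n <;> rfl

variable {t w r k n z s : G}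

theorem lt_ix (h : RelsC t w r k n z s) (m : G) {x : ℕ} (hx : x < 8) :
    lt t w r k n z s m (ix x) = (lt t w r k n z s m x)⁻¹ := by
  interval_cases x
  · exact (inv_eq_of_mul_eq_one_left h.t2).symm
  · exact (inv_eq_of_mul_eq_one_left h.w2).symm
  · rfl
  · exact (inv_inv r).symm
  · exact (inv_eq_of_mul_eq_one_left h.k2).symm
  · exact (inv_eq_of_mul_eq_one_left h.n2).symm
  · exact (inv_eq_of_mul_eq_one_left h.z2).symm
  · exact (inv_eq_of_mul_eq_one_left h.s2).symm

/-- inverse word -/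
def iv (u : List ℕ) : List ℕ := (u.map ix).reverse

theorem ev_iv (h : RelsC t w r k n z s) (m : G) {u : List ℕ} (hu : (u.all fun x => Nat.ble x 7) = true) :
    ev (lt t w r k n z s m) (iv u) = (ev (lt t w r k n z s m) u)⁻¹ := by
  induction u with
  | nil => simp [iv, ev]
  | cons x u ih =>
    rw [List.all_cons, Bool.and_eq_true] at hu
    have hx : x < 8 := Nat.lt_succ_of_le (Nat.le_of_ble_eq_true hu.1)
    have : iv (x :: u) = iv u ++ [ix x] := by simp [iv]
    rw [this, ev_append, ih hu.2, ev_cons _ x u, mul_inv_rev, ev_cons, ev_nil, mul_one, lt_ix h m hx]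

/-- check of `g (ws i) g⁻¹ = ws (T i)` for all `i < n` -/
def chkConj (ws : ℕ → List ℕ) (n : ℕ) (g : List ℕ) (T : List ℕ) : Bool :=
  g.all (fun x => Nat.ble x 7) &&
    (List.range n).all fun i => chk (g ++ (ws i ++ iv g)) (iw ws (T.getD i 0) n)

theorem conj_of_chk (h : RelsC t w r k n z s) (m : G) {ws : ℕ → List ℕ} {n' : ℕ} {g T : List ℕ}
    (hc : chkConj ws n' g T = true) (i : ℕ) (hi : i < n') :
    ev (lt t w r k n z s m) g * ev (lt t w r k n z s m) (ws i) * (ev (lt t w r k n z s m) g)⁻¹ =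
      io (fun i => ev (lt t w r k n z s m) (ws i)) (T.getD i 0) n' := by
  rw [chkConj, Bool.and_eq_true] at hc
  have h1 := ev_of_chk h m (Cfsg.Agent.TypeO8Minus.Model.allB_sound hc.2 i hi)
  rw [ev_append, ev_append, ev_iv h m hc.1, ev_iw, ← mul_assoc] at h1
  exact h1

/-- all letters commute with `z` -/
theorem comm_z (h : RelsC t w r k n z s) (m : G) (x : ℕ) (hx : x < 8) :
    lt t w r k n z s m x * z = z * lt t w r k n z s m x := by
  have hc : (List.range 8).all (fun x => chk [x, 6] [6, x]) = true := by decide +kernel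
  have h1 := ev_of_chk h m (Cfsg.Agent.TypeO8Minus.Model.allB_sound hc x hx)
  simpa [ev, lt] using h1

theorem ev_comm_z (h : RelsC t w r k n z s) (m : G) {u : List ℕ} (hu : ∀ x ∈ u, x < 8) :
    ev (lt t w r k n z s m) u * z = z * ev (lt t w r k n z s m) u := by
  induction u with
  | nil => rw [ev_nil, one_mul, mul_one]
  | cons x u ih =>
    rw [ev_cons, mul_assoc, ih fun y hy => hu y (by simp [hy]), ← mul_assoc,
      comm_z h m x (hu x (by simp)), mul_assoc]

end ev

/-- the fifteen vectors `u ⊗ v` -/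
def S15 : List ℕ := [1, 2, 7, 11, 15, 16, 17, 32, 34, 112, 119, 176, 187, 240, 255]

/-- short words for the fifteen elements -/
def sw (c : ℕ) : List ℕ :=
  bif Nat.beq c 1 then [5,1,7,1,5] else bif Nat.beq c 2 then [5,7,5] else bif Nat.beq c 7 then
  [5,0,7,0,5] else bif Nat.beq c 11 then [5,2,0,7,0,3,5] else bif Nat.beq c 15 then [5,3,0,7,0,2,5]
  else bif Nat.beq c 16 then [1,7,1] else bif Nat.beq c 17 then [4,1,7,1,4] else bif Nat.beq c 32 then
  [7] else bif Nat.beq c 34 then [4,7,4] else bif Nat.beq c 112 then [0,7,0] else bif Nat.beq c 119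
  then [4,0,7,0,4] else bif Nat.beq c 176 then [2,0,7,0,3] else bif Nat.beq c 187 then [4,2,0,7,0,3,4]
  else bif Nat.beq c 240 then [3,0,7,0,2] else bif Nat.beq c 255 then [4,3,0,7,0,2,4] else []

/-- tables of the letters on `V` -/
def tabV (x : ℕ) : List ℕ :=
  bif Nat.beq x 0 then [1,7,4,9,16,112,64,144] else bif Nat.beq x 1 then [2,1,4,12,32,16,64,192] else
  bif Nat.beq x 2 then [1,2,8,12,16,32,128,192] else bif Nat.beq x 3 then [1,2,12,4,16,32,192,64] else
  bif Nat.beq x 4 then [1,2,4,8,17,34,68,136] else [16,32,64,128,1,2,4,8]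

/-- commutator matrix of the eight elements of `Q` -/
def gramQ (i j : ℕ) : Bool :=
  (Nat.beq i 0 && Nat.beq j 5) || ((Nat.beq i 5 && Nat.beq j 0) || ((Nat.beq i 1 && Nat.beq j 4) ||
  ((Nat.beq i 4 && Nat.beq j 1) || ((Nat.beq i 2 && Nat.beq j 7) || ((Nat.beq i 7 && Nat.beq j 2) ||
  ((Nat.beq i 3 && Nat.beq j 6) || (Nat.beq i 6 && Nat.beq j 3)))))))

theorem S15_check : (List.range 6).all (fun x => S15.all fun c =>
    S15.any (fun d => Nat.beq d (ap (fun i => (tabV x).getD i 0) c 8)) &&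
    chk (x :: (sw c ++ [ix x])) (sw (ap (fun i => (tabV x).getD i 0) c 8))) = true := by
  decide +kernel

theorem sw_check : S15.all (fun c => chk (sw c) (iw wQ c 8)) = true := by
  decide +kernel

theorem gram_check : (List.range 8).all (fun i => (List.range 8).all fun j =>
    chk (wQ i ++ wQ j) (wQ j ++ (wQ i ++ (bif gramQ i j then [6] else [])))) = true := by
  decide +kernel

theorem key_check : (List.range 256).all (fun c => Nat.beq (key gramQ (key gramQ c 8) 8) c) = true := by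
  decide +kernel

/-! ### consequences -/

section

variable {G : Type*} [Group G] {Q A : Subgroup G} {z a : G} {t w r k n s : G}

/-- the eight elements of `Q` -/
def fQ (t w r k n z s : G) (i : ℕ) : G := ev (lt t w r k n z s 1) (wQ i)

/-- the six generators of `E` -/
def fE (t w r k n z s : G) (i : ℕ) : G := ev (lt t w r k n z s 1) (wE i)

theorem fQ0 : fQ t w r k n z s 0 = w * (n * s * n) * w := by
  show ev (lt t w r k n z s 1) [1,5,7,5,1] = _
  simp [ev, lt, mul_assoc]
theorem fQ1 : fQ t w r k n z s 1 = n * s * n := by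
  show ev (lt t w r k n z s 1) [5,7,5] = _
  simp [ev, lt, mul_assoc]
theorem fQ2 : fQ t w r k n z s 2 = n * (s * (t * s * t) * (w * s * w)) * n := by
  show ev (lt t w r k n z s 1) [5,7,0,7,0,1,7,1,5] = _
  simp [ev, lt, mul_assoc]
theorem fQ3 : fQ t w r k n z s 3 = r * (n * (s * (t * s * t) * (w * s * w)) * n) * r⁻¹ := by
  show ev (lt t w r k n z s 1) [2,5,7,0,7,0,1,7,1,5,3] = _
  simp [ev, lt, mul_assoc]
theorem fQ4 : fQ t w r k n z s 4 = w * s * w := by
  show ev (lt t w r k n z s 1) [1,7,1] = _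
  simp [ev, lt, mul_assoc]
theorem fQ5 : fQ t w r k n z s 5 = s := by
  show ev (lt t w r k n z s 1) [7] = _
  simp [ev, lt, mul_assoc]
theorem fQ6 : fQ t w r k n z s 6 = s * (t * s * t) * (w * s * w) := by
  show ev (lt t w r k n z s 1) [7,0,7,0,1,7,1] = _
  simp [ev, lt, mul_assoc]
theorem fQ7 : fQ t w r k n z s 7 = r * (s * (t * s * t) * (w * s * w)) * r⁻¹ := by
  show ev (lt t w r k n z s 1) [2,7,0,7,0,1,7,1,3] = _
  simp [ev, lt, mul_assoc]

theorem comm_t (h : RelsC t w r k n z s) : t * z = z * t := comm_z h 1 0 (by norm_num)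
theorem comm_w (h : RelsC t w r k n z s) : w * z = z * w := comm_z h 1 1 (by norm_num)
theorem comm_r (h : RelsC t w r k n z s) : r * z = z * r := comm_z h 1 2 (by norm_num)
theorem comm_k (h : RelsC t w r k n z s) : k * z = z * k := comm_z h 1 4 (by norm_num)
theorem comm_n (h : RelsC t w r k n z s) : n * z = z * n := comm_z h 1 5 (by norm_num)

theorem conj_invol (h : Large Q z) {x y : G} (hx : x * x = 1) (hxz : x * z = z * x) (hy : y ∈ Q) :
    x * y * x ∈ Q := by
  have h1 := h.conj_mem x hxz y hy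
  rwa [inv_eq_of_mul_eq_one_left hx] at h1

theorem u_mem (h : Large Q z) (R : RelsC t w r k n z s) (hs : s ∈ Q) :
    s * (t * s * t) * (w * s * w) ∈ Q :=
  Q.mul_mem (Q.mul_mem hs (conj_invol h R.t2 (comm_t R) hs)) (conj_invol h R.w2 (comm_w R) hs)

theorem fQ_mem (h : Large Q z) (R : RelsC t w r k n z s) (hs : s ∈ Q) :
    ∀ i < 8, fQ t w r k n z s i ∈ Q := by
  intro i hi
  have hu := u_mem h R hs
  have hn := conj_invol h R.n2 (comm_n R) hu
  interval_cases i
  · rw [fQ0]; exact conj_invol h R.w2 (comm_w R) (conj_invol h R.n2 (comm_n R) hs)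
  · rw [fQ1]; exact conj_invol h R.n2 (comm_n R) hs
  · rw [fQ2]; exact hn
  · rw [fQ3]; exact h.conj_mem r (comm_r R) _ hn
  · rw [fQ4]; exact conj_invol h R.w2 (comm_w R) hs
  · rw [fQ5]; exact hs
  · rw [fQ6]; exact hu
  · rw [fQ7]; exact h.conj_mem r (comm_r R) _ hu

theorem gramQ_eq (R : RelsC t w r k n z s) : ∀ i < 8, ∀ j < 8, fQ t w r k n z s i * fQ t w r k n z s j =
    fQ t w r k n z s j * fQ t w r k n z s i * cb (gramQ i j) z := by
  intro i hi j hj
  have h1 := ev_of_chk R 1 (Cfsg.Agent.TypeO8Minus.Model.allB_sound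
    (Cfsg.Agent.TypeO8Minus.Model.allB_sound gram_check i hi) j hj)
  rw [ev_append, ev_append, ev_append] at h1
  rw [fQ, fQ, h1, ← mul_assoc]
  congr 1
  cases gramQ i j
  · rfl
  · simp [ev, lt, cb]

/-- coordinates in `Q` -/
theorem code_Q [Finite Q] (h : Large Q z) (R : RelsC t w r k n z s) (hc : Nat.card Q = 2 ^ 9) (hs : s ∈ Q)
    {x : G} (hx : x ∈ Q) :
    ∃ c < 256, x = io (fQ t w r k n z s) c 8 ∨ x = io (fQ t w r k n z s) c 8 * z :=
  exists_code h hc (fQ_mem h R hs) (gramQ_eq R) (u := fun c => key gramQ c 8)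
    (fun c hc => Nat.eq_of_beq_eq_true (Cfsg.Agent.TypeO8Minus.Model.allB_sound key_check c hc)) hx

/-- the commutator of a product with one of the eight elements -/
theorem io_gramQ (h : Large Q z) (R : RelsC t w r k n z s) (hs : s ∈ Q) (c : ℕ) {j : ℕ} (hj : j < 8) :
    io (fQ t w r k n z s) c 8 * fQ t w r k n z s j = fQ t w r k n z s j * io (fQ t w r k n z s) c 8 *
      cb (xs (fun i => gramQ i j) c 8) z :=
  io_gram h (fQ_mem h R hs) (fun i hi => gramQ_eq R i hi j hj) c

/-- `x = io c` or `io c * z`, `x` commutes with `f j`: the bit vanishes -/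
theorem bit_of_comm (h : Large Q z) (R : RelsC t w r k n z s) (hs : s ∈ Q) {c : ℕ} {x : G}
    (hx : x = io (fQ t w r k n z s) c 8 ∨ x = io (fQ t w r k n z s) c 8 * z) {j : ℕ} (hj : j < 8)
    {β : Bool} (hc : x * fQ t w r k n z s j = fQ t w r k n z s j * x * cb β z) :
    xs (fun i => gramQ i j) c 8 = β := by
  have h1 := io_gramQ h R hs c hj
  have hz := h.comm_z _ (fQ_mem h R hs j hj)
  rcases hx with rfl | rfl
  · rw [h1] at hc
    exact cb_inj h.z_ne (mul_left_cancel hc)
  · have h2 : io (fQ t w r k n z s) c 8 * z * fQ t w r k n z s j =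
        fQ t w r k n z s j * (io (fQ t w r k n z s) c 8 * z) * cb (xs (fun i => gramQ i j) c 8) z := by
      rw [mul_assoc, ← hz, ← mul_assoc, h1, mul_assoc _ _ z,
        cb_comm (rfl : z * z = z * z) (xs (fun i => gramQ i j) c 8)]
      group
    rw [h2] at hc
    exact cb_inj h.z_ne (mul_left_cancel hc)

theorem io_sw (R : RelsC t w r k n z s) {c : ℕ} (hc : c ∈ S15) :
    ev (lt t w r k n z s 1) (sw c) = io (fQ t w r k n z s) c 8 := by
  rw [ev_of_chk R 1 (List.all_eq_true.1 sw_check c hc), ev_iw]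
  rfl

theorem letter_S15 (R : RelsC t w r k n z s) {x : ℕ} (hx : x < 6) {c : ℕ} (hc : c ∈ S15) :
    ∃ d ∈ S15, lt t w r k n z s 1 x * io (fQ t w r k n z s) c 8 * (lt t w r k n z s 1 x)⁻¹ =
      io (fQ t w r k n z s) d 8 := by
  have h1 := List.all_eq_true.1 (Cfsg.Agent.TypeO8Minus.Model.allB_sound S15_check x hx) c hc
  rw [Bool.and_eq_true] at h1
  obtain ⟨d, hd, hd'⟩ := List.any_eq_true.1 h1.1
  have hd'' := Nat.eq_of_beq_eq_true hd'
  refine ⟨d, hd, ?_⟩
  have h2 := ev_of_chk R 1 h1.2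
  rw [← hd'', ev_cons, ev_append, io_sw R hc, io_sw R hd] at h2
  rw [← h2, mul_assoc]
  congr 2
  rw [ev_cons, ev_nil, mul_one, lt_ix R 1 (by omega)]

theorem closure_S15 (R : RelsC t w r k n z s) {g : G}
    (hg : g ∈ Subgroup.closure ({t, w, r, k, n} : Set G)) :
    (∀ c ∈ S15, ∃ d ∈ S15, g * io (fQ t w r k n z s) c 8 * g⁻¹ = io (fQ t w r k n z s) d 8) ∧
    (∀ c ∈ S15, ∃ d ∈ S15, g⁻¹ * io (fQ t w r k n z s) c 8 * g = io (fQ t w r k n z s) d 8) := by
  induction hg using Subgroup.closure_induction with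
  | mem x hx =>
    simp only [Set.mem_insert_iff, Set.mem_singleton_iff] at hx
    have key : ∀ y < 6, (∀ c ∈ S15, ∃ d ∈ S15, lt t w r k n z s 1 y * io (fQ t w r k n z s) c 8 *
        (lt t w r k n z s 1 y)⁻¹ = io (fQ t w r k n z s) d 8) ∧
        (∀ c ∈ S15, ∃ d ∈ S15, (lt t w r k n z s 1 y)⁻¹ * io (fQ t w r k n z s) c 8 *
        lt t w r k n z s 1 y = io (fQ t w r k n z s) d 8) := by
      intro y hy
      refine ⟨fun c hc => letter_S15 R hy hc, fun c hc => ?_⟩
      have h1 : ix y < 6 := by interval_cases y <;> decide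
      have h2 := letter_S15 R h1 hc
      rw [lt_ix R 1 (by omega), inv_inv] at h2
      exact h2
    rcases hx with rfl | rfl | rfl | rfl | rfl
    · exact key 0 (by norm_num)
    · exact key 1 (by norm_num)
    · exact key 2 (by norm_num)
    · exact key 4 (by norm_num)
    · exact key 5 (by norm_num)
  | one =>
    refine ⟨fun c hc => ⟨c, hc, ?_⟩, fun c hc => ⟨c, hc, ?_⟩⟩
    · rw [one_mul, inv_one, mul_one]
    · rw [mul_one, inv_one, one_mul]
  | mul x y _ _ hx hy =>
    constructor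
    · intro c hc
      obtain ⟨d, hd, h1⟩ := hy.1 c hc
      obtain ⟨e, he, h2⟩ := hx.1 d hd
      refine ⟨e, he, ?_⟩
      rw [← h2, ← h1]; group
    · intro c hc
      obtain ⟨d, hd, h1⟩ := hx.2 c hc
      obtain ⟨e, he, h2⟩ := hy.2 d hd
      refine ⟨e, he, ?_⟩
      rw [← h2, ← h1]; group
  | inv x _ hx =>
    rw [inv_inv]; exact ⟨hx.2, hx.1⟩

theorem mem32 : 32 ∈ S15 := by decide

theorem io32 (R : RelsC t w r k n z s) : io (fQ t w r k n z s) 32 8 = s := by
  rw [← io_sw R mem32]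
  show ev (lt t w r k n z s 1) [7] = _
  simp [ev, lt]

end

/-- internal form of the interface -/
structure Loc {G : Type*} [Group G] {Q A : Subgroup G} {z a : G} (p : Pair Q z A a)
    (t w r k n s : G) : Prop where
  rels : RelsC t w r k n z s
  card : Nat.card Q = 2 ^ 9
  s_mem : s ∈ Q
  a_eq : w * (n * s * n) * w = a
  e_mem : w * s * w ∈ A
  d_mem : n * (s * (t * s * t) * (w * s * w)) * n ∈ A
  kA : k ∈ A
  tA : t ∈ A
  zQ : ∀ x ∈ Q, IsConj z x → x = z ∨ ∃ c ∈ S15, x = io (fQ t w r k n z s) c 8 ∨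
    x = io (fQ t w r k n z s) c 8 * z

end Cfsg.Agent.TypeOMinusEight.Data
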