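import Cfsg.Agent.TypeOMinusEight.EGrp
import Cfsg.Agent.Lib.ClosingTI

/-!
`C_G(ν) ≤ G₀`, `ν = T(e₁, g + h)` (closing argument for `Ω₈⁻(2)`, step [B]).
-/

set_option autoImplicit false
set_option maxRecDepth 100000

namespace Cfsg.Agent.TypeOMinusEight.CBeta

open QuadraticMap Cfsg.Agent.LieClassical.OrthCore Cfsg.Agent.LieClassical.OrthForms
  Cfsg.Agent.SporadicRecognition.CosetCert Cfsg.Agent.TypeO8Minus Cfsg.Agent.TypeO8Minus.Rel
  Cfsg.Agent.TypeO8Minus.Model
  Cfsg.Agent.Co2Type.Quad Cfsg.Agent.LargeExtra.Base Cfsg.Agent.TypeOMinusEight.Words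
  Cfsg.Agent.TypeOMinusEight.Code Cfsg.Agent.TypeOMinusEight.Data
  Cfsg.Agent.TypeOMinusEight.Basic Cfsg.Agent.TypeOMinusEight.Cent Cfsg.Agent.TypeOMinusEight.EGrp

/-! ### nine letters -/

section nine

variable {G : Type*} [Group G] {t w r k n z s m : G}

theorem ev_mem_J {u : List ℕ} (hu : ∀ x ∈ u, x < 9) :
    ev (lt t w r k n z s m) u ∈ Subgroup.closure (gens t w r k n z s m) := by
  rw [← closure_eq]
  exact ev_mem_closure _ hu

theorem ne_bot (hz : z ≠ 1) : Subgroup.closure (gens t w r k n z s m) ≠ ⊥ := by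
  intro h
  apply hz
  have h1 : z ∈ Subgroup.closure (gens t w r k n z s m) := Subgroup.subset_closure (by simp [gens])
  rwa [h, Subgroup.mem_bot] at h1

/-- the isomorphism with the model -/
theorem exists_iso (R : Rels t w r k n z s m) (hz : z ≠ 1) :
    ∃ e : Subgroup.closure (gens t w r k n z s m) ≃* E Qm,
      ∀ (u : List ℕ) (hu : ∀ x ∈ u, x < 9),
        ((e ⟨ev (lt t w r k n z s m) u, ev_mem_J hu⟩ : E Qm) : V ≃ₗ[ZMod 2] V) = ev ltM u := by
  obtain ⟨e, he⟩ := Ident.exists_equiv R (ne_bot hz)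
  refine ⟨e, ?_⟩
  intro u
  induction u with
  | nil =>
    intro hu
    have h1 : (⟨ev (lt t w r k n z s m) [], ev_mem_J hu⟩ :
        Subgroup.closure (gens t w r k n z s m)) = 1 := rfl
    rw [h1, map_one]
    rfl
  | cons x u ih =>
    intro hu
    have hu' : ∀ y ∈ u, y < 9 := fun y hy => hu y (by simp [hy])
    have hx : x < 9 := hu x (by simp)
    have h1 : (⟨ev (lt t w r k n z s m) (x :: u), ev_mem_J hu⟩ :
        Subgroup.closure (gens t w r k n z s m)) =
        ⟨lt t w r k n z s m x, Ident.lt_mem_closure t w r k n z s m hx⟩ *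
          ⟨ev (lt t w r k n z s m) u, ev_mem_J hu'⟩ := Subtype.ext (ev_cons _ x u)
    rw [h1, map_mul, Subgroup.coe_mul, he x hx, ih hu', ev_cons]

/-- the checker for nine letters -/
def chk9 (u v : List ℕ) : Bool :=
  u.all (fun x => Nat.ble x 8) && (v.all (fun x => Nat.ble x 8) &&
    [1, 2, 4, 8, 16, 32, 64, 128].all fun i => Nat.beq (wd1 u i) (wd1 v i))

theorem of_chk9 {u v : List ℕ} (hc : chk9 u v = true) :
    (∀ x ∈ u, x < 9) ∧ (∀ x ∈ v, x < 9) ∧ ev ltM u = ev ltM v := by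
  rw [chk9, Bool.and_eq_true, Bool.and_eq_true] at hc
  obtain ⟨h1, h2, h3⟩ := hc
  have h1' : ∀ x ∈ u, x < 9 := fun x hx => Nat.lt_succ_of_le (Nat.le_of_ble_eq_true (List.all_eq_true.1 h1 x hx))
  have h2' : ∀ x ∈ v, x < 9 := fun x hx => Nat.lt_succ_of_le (Nat.le_of_ble_eq_true (List.all_eq_true.1 h2 x hx))
  refine ⟨h1', h2', ?_⟩
  apply ext_code
  intro i hi
  have hc : 1 <<< i < 256 := by interval_cases i <;> decide
  rw [ev_vec h1' hc, ev_vec h2' hc, ← wd1_eq h1' hc, ← wd1_eq h2' hc]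
  have h4 : (1 <<< i) ∈ [1, 2, 4, 8, 16, 32, 64, 128] := by interval_cases i <;> decide
  rw [Nat.eq_of_beq_eq_true (List.all_eq_true.1 h3 _ h4)]

/-- the word principle for nine letters -/
theorem ev_of_chk9 (R : Rels t w r k n z s m) (hz : z ≠ 1) {u v : List ℕ} (hc : chk9 u v = true) :
    ev (lt t w r k n z s m) u = ev (lt t w r k n z s m) v := by
  obtain ⟨e, he⟩ := exists_iso R hz
  obtain ⟨hu, hv, huv⟩ := of_chk9 hc
  have h1 := he u hu
  rw [huv, ← he v hv] at h1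
  exact congrArg Subtype.val (e.injective (Subtype.ext h1))

theorem lt_one {x : ℕ} (hx : x < 8) : lt t w r k n z s m x = lt t w r k n z s 1 x := by
  interval_cases x <;> rfl

theorem ev_one {u : List ℕ} (hu : ∀ x ∈ u, x < 8) :
    ev (lt t w r k n z s m) u = ev (lt t w r k n z s 1) u := by
  induction u with
  | nil => rfl
  | cons x u ih => rw [ev_cons, ev_cons, lt_one (hu x (by simp)), ih fun y hy => hu y (by simp [hy])]

theorem wE_lt (i : ℕ) : ∀ x ∈ wE i, x < 8 := by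
  intro x hx
  have h : ∀ i < 6, ((wE i).all fun x => Nat.ble x 7) = true := by decide
  have h5 : ∀ i, 5 ≤ i → wE i = wE 5 := by
    intro i hi
    rcases i with _ | _ | _ | _ | _ | i
    · omega
    · omega
    · omega
    · omega
    · omega
    · rfl
  have hi : ((wE i).all fun x => Nat.ble x 7) = true := by
    by_cases hi : i < 6
    · exact h i hi
    · rw [h5 i (by omega)]; exact h 5 (by norm_num)
  exact Nat.lt_succ_of_le (Nat.le_of_ble_eq_true (List.all_eq_true.1 hi x hx))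

theorem iw_lt {ws : ℕ → List ℕ} {l : ℕ} (h : ∀ i, ∀ x ∈ ws i, x < l) (c n' : ℕ) :
    ∀ x ∈ iw ws c n', x < l := by
  induction n' with
  | zero => intro x hx; simp [iw] at hx
  | succ n' ih =>
    intro x hx
    rw [iw_succ, List.mem_append] at hx
    rcases hx with hx | hx
    · exact ih x hx
    · rcases hb : bt c n' with _ | _
      · rw [hb] at hx; simp at hx
      · rw [hb] at hx; exact h n' x hx

theorem fE_ev (m : G) (i : ℕ) : fE t w r k n z s i = ev (lt t w r k n z s m) (wE i) :=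
  (ev_one (wE_lt i)).symm

theorem io_ev (m : G) (c : ℕ) : io (fE t w r k n z s) c 6 = ev (lt t w r k n z s m) (iw wE c 6) := by
  rw [ev_one (iw_lt wE_lt c 6), ev_iw]
  rfl

/-! ### the classes in `E` -/

/-- the quadratic form on the codes of `E` -/
def qE (c : ℕ) : Bool :=
  (bt c 0 && bt c 5) ^^ ((bt c 1 && bt c 2) ^^ (bt c 3 ^^ ((bt c 3 && bt c 4) ^^ bt c 4)))

/-- words mapping `z` or `ν` to the element with code `c` -/
def gw (c : ℕ) : List ℕ := [[], [], [8], [7, 8], [1, 8], [1, 7, 8], [0, 2, 1, 0, 2], [7, 0, 2, 1, 0, 2], [], [8, 3, 0, 2],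
  [3, 0, 2], [7, 3, 0, 2], [2, 1, 0, 2], [1, 7, 3, 0, 2], [0, 1, 8], [7, 0, 1, 8], [2], [8, 0, 2], [0, 2],
  [7, 0, 2], [1, 0, 3], [1, 7, 0, 3], [2, 0, 1, 8], [7, 2, 0, 1, 8], [3], [8, 0, 3], [0, 3], [7, 0, 3],
  [1, 0, 2], [1, 7, 0, 2], [3, 0, 1, 8], [7, 3, 0, 1, 8], [8, 1, 8], [8, 0, 2, 1, 0, 2], [8, 1, 7, 8],
  [8, 7, 0, 2, 1, 0, 2], [7, 8, 1, 8], [7, 8, 0, 2, 1, 0, 2], [0, 7, 8, 2, 1, 0, 2], [7, 8, 1, 7, 8],
  [8, 2, 1, 0, 2], [8, 0, 1, 8], [2, 0, 8, 1, 0, 2], [8, 7, 0, 1, 8], [7, 8, 2, 1, 0, 2], [7, 8, 0, 1, 8],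
  [0, 7, 8, 1, 8], [7, 2, 0, 8, 1, 0, 2], [8, 1, 0, 3], [8, 2, 0, 1, 8], [0, 8, 1, 0, 3], [8, 7, 2, 0, 1, 8],
  [7, 8, 1, 0, 3], [7, 8, 2, 0, 1, 8], [2, 0, 7, 8, 1, 8], [7, 0, 8, 1, 0, 3], [8, 1, 0, 2],
  [8, 3, 0, 1, 8], [0, 8, 1, 0, 2], [8, 7, 3, 0, 1, 8], [7, 8, 1, 0, 2], [7, 8, 3, 0, 1, 8],
  [3, 0, 7, 8, 1, 8], [7, 0, 8, 1, 0, 2]].getD c []

theorem gw_check : (List.range 64).all (fun c => Nat.beq c 0 ||
    chk9 (gw c ++ (bif qE c then wE 3 else wE 0)) (iw wE c 6 ++ gw c)) = true := by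
  decide +kernel

theorem conj_E (R : Rels t w r k n z s m) (hz : z ≠ 1) {c : ℕ} (hc : c < 64) (h0 : c ≠ 0) :
    (qE c = false → IsConj z (io (fE t w r k n z s) c 6)) ∧
    (qE c = true → IsConj (fE t w r k n z s 3) (io (fE t w r k n z s) c 6)) := by
  have h1 := allB_sound gw_check c hc
  rw [Bool.or_eq_true] at h1
  rcases h1 with h1 | h1
  · exact absurd (Nat.eq_of_beq_eq_true h1) h0
  have h2 := ev_of_chk9 R hz h1
  rw [ev_append, ev_append, ← io_ev] at h2
  constructor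
  · intro hq
    rw [hq, cond_false, ← fE_ev, fE0] at h2
    rw [isConj_iff]
    exact ⟨ev (lt t w r k n z s m) (gw c), by rw [h2, mul_inv_cancel_right]⟩
  · intro hq
    rw [hq, cond_true, ← fE_ev] at h2
    rw [isConj_iff]
    exact ⟨ev (lt t w r k n z s m) (gw c), by rw [h2, mul_inv_cancel_right]⟩

end nine

/-! ### the model -/

section model

/-- code of the element `T(e₁, y)` of `E` -/
def yc (y : ℕ) : ℕ :=
  Nat.xor (cond (bt y 1) 1 0) (Nat.xor (cond (bt y 2) 2 0) (Nat.xor (cond (bt y 5) 4 0)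
    (Nat.xor (cond (bt y 6) 24 0) (Nat.xor (cond (bt y 7) 16 0) (cond (bt y 4) 32 0)))))

/-- the vector of an element of `E` -/
def cy (c : ℕ) : ℕ :=
  Nat.xor (cond (bt c 0) 2 0) (Nat.xor (cond (bt c 1) 4 0) (Nat.xor (cond (bt c 2) 32 0)
    (Nat.xor (cond (bt c 3) 192 0) (Nat.xor (cond (bt c 4) 128 0) (cond (bt c 5) 16 0)))))

theorem yc_check : (List.range 256).all (fun y => Bn 1 y || (Nat.blt (yc y) 64 &&
    [1, 2, 4, 8, 16, 32, 64, 128].all fun i => Nat.beq (wd1 (iw wE (yc y) 6) i) (sie 1 y i))) = true := by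
  decide +kernel

theorem cy_check : (List.range 64).all (fun c => Nat.blt (cy c) 256 && (!(Bn 1 (cy c)) &&
    Nat.beq (yc (cy c)) c)) = true := by
  decide +kernel

theorem one_sing : Qm (vec 1) = 0 := by rw [Q_vec]; rfl

theorem siegel_code {y : ℕ} (hy : y < 256) (hp : polar Qm (vec 1) (vec y) = 0) :
    yc y < 64 ∧ siegel Qm (vec 1) (vec y) one_sing hp = ev ltM (iw wE (yc y) 6) := by
  have h0 := hp
  rw [polar_vec, bz_eq_zero] at h0
  have h1 := allB_sound yc_check y hy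
  rw [h0, Bool.false_or, Bool.and_eq_true] at h1
  refine ⟨Nat.le_of_ble_eq_true h1.1, ?_⟩
  have h3 : ∀ x ∈ iw wE (yc y) 6, x < 9 := fun x hx =>
    Nat.lt_trans (iw_lt wE_lt (yc y) 6 x hx) (by norm_num)
  apply ext_code
  intro i hi
  have hi' : 1 <<< i < 256 := by interval_cases i <;> decide
  have h4 : (1 <<< i) ∈ [1, 2, 4, 8, 16, 32, 64, 128] := by interval_cases i <;> decide
  rw [ev_vec h3 hi', siegel_vec, ← wd1_eq h3 hi', Nat.eq_of_beq_eq_true (List.all_eq_true.1 h1.2 _ h4)]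

theorem siegel_E {y : V} (hp : polar Qm (vec 1) y = 0) :
    ∃ c < 64, siegel Qm (vec 1) y one_sing hp = ev ltM (iw wE c 6) := by
  obtain ⟨c, hc, rfl⟩ := exists_vec y
  exact ⟨yc c, siegel_code hc hp⟩

theorem E_siegel {c : ℕ} (hc : c < 64) :
    ∃ (y : V) (hp : polar Qm (vec 1) y = 0),
      ev ltM (iw wE c 6) = siegel Qm (vec 1) y one_sing hp := by
  have h1 := allB_sound cy_check c hc
  rw [Bool.and_eq_true, Bool.and_eq_true, Bool.not_eq_true'] at h1
  obtain ⟨h2, h3, h4⟩ := h1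
  have hp : polar Qm (vec 1) (vec (cy c)) = 0 := by rw [polar_vec, h3]; rfl
  refine ⟨vec (cy c), hp, ?_⟩
  rw [(siegel_code (Nat.le_of_ble_eq_true h2) hp).2, Nat.eq_of_beq_eq_true h4]

theorem nu_check : (List.range 256).all (fun c => qn (Nat.xor (wd1 (wE 3) c) c) ||
    (Nat.beq (Nat.xor (wd1 (wE 3) c) c) 0 || Nat.beq (Nat.xor (wd1 (wE 3) c) c) 1)) = true := by
  decide +kernel

theorem nu_vec {c : ℕ} (hc : c < 256) : ev ltM (wE 3) (vec c) + vec c =
    vec (Nat.xor (wd1 (wE 3) c) c) := by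
  have h3 : ∀ x ∈ wE 3, x < 9 := fun x hx => Nat.lt_trans (wE_lt 3 x hx) (by norm_num)
  rw [ev_vec h3 hc, ← wd1_eq h3 hc, ← vec_xor]
  rfl

theorem comm_apply {P N : V ≃ₗ[ZMod 2] V} (h : P * N = N * P) (x : V) : P (N x) = N (P x) := by
  rw [← LinearEquiv.mul_apply, h, LinearEquiv.mul_apply]

theorem fix_one {P : V ≃ₗ[ZMod 2] V} (hP : P ∈ O Qm)
    (h : P * ev ltM (wE 3) = ev ltM (wE 3) * P) : P (vec 1) = vec 1 := by
  have h1 : vec 1 = ev ltM (wE 3) (vec 64) + vec 64 := by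
    rw [nu_vec (by norm_num), show Nat.xor (wd1 (wE 3) 64) 64 = 1 by decide +kernel]
  obtain ⟨c, hc, hcP⟩ := exists_vec (P (vec 64))
  have h2 : P (vec 1) = vec (Nat.xor (wd1 (wE 3) c) c) := by
    have h5 : P (ev ltM (wE 3) (vec 64)) = ev ltM (wE 3) (P (vec 64)) := comm_apply h _
    rw [← nu_vec hc, ← hcP, h1, map_add, h5]
  have h3 : Qm (P (vec 1)) = 0 := by rw [mem_O.1 hP]; exact one_sing
  rw [h2, Q_vec, bz_eq_zero] at h3
  have h4 := allB_sound nu_check c hc
  rw [h3, Bool.false_or, Bool.or_eq_true] at h4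
  rcases h4 with h4 | h4
  · exfalso
    rw [Nat.eq_of_beq_eq_true h4, vec_zero] at h2
    have h5 : vec 1 = 0 := by
      have := P.injective (h2.trans (map_zero P).symm)
      exact this
    have h6 : (1 : ℕ) = 0 := vec_inj (by norm_num) (by norm_num) (by rw [h5, vec_zero])
    exact absurd h6 (by norm_num)
  · rw [h2, Nat.eq_of_beq_eq_true h4]

/-- an isometry commuting with `ν` normalises `E` -/
theorem model_norm {P : V ≃ₗ[ZMod 2] V} (hP : P ∈ O Qm)
    (h : P * ev ltM (wE 3) = ev ltM (wE 3) * P) {c : ℕ} (hc : c < 64) :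
    ∃ d < 64, P * ev ltM (iw wE c 6) * P⁻¹ = ev ltM (iw wE d 6) := by
  have hP1 := fix_one hP h
  obtain ⟨y, hp, hy⟩ := E_siegel hc
  have hp' : polar Qm (P (vec 1)) (P y) = 0 := by rw [polar_map hP]; exact hp
  have hp'' : polar Qm (vec 1) (P y) = 0 := by rwa [hP1] at hp'
  obtain ⟨d, hd, hd'⟩ := siegel_E hp''
  refine ⟨d, hd, ?_⟩
  rw [hy, siegel_conj hP one_sing hp (by rw [hP1]; exact one_sing) hp', ← hd']
  congr 1

end model

/-! ### `C_{G₀}(ν)` normalises `E` -/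

section local_

variable {G : Type*} [Group G] {t w r k n z s m : G}

theorem norm_E (R : Rels t w r k n z s m) (hz : z ≠ 1) {x : G}
    (hx : x ∈ Subgroup.closure (gens t w r k n z s m))
    (hν : x * fE t w r k n z s 3 = fE t w r k n z s 3 * x) {e : G} (he : e ∈ EE R.toRelsC) :
    x * e * x⁻¹ ∈ EE R.toRelsC := by
  obtain ⟨c, hc, rfl⟩ := he
  obtain ⟨φ, hφ⟩ := exists_iso R hz
  set P : E Qm := φ ⟨x, hx⟩ with hPdef
  have hPO : (P : V ≃ₗ[ZMod 2] V) ∈ O Qm := E_le_O P.2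
  have h3 : ∀ y ∈ wE 3, y < 9 := fun y hy => Nat.lt_trans (wE_lt 3 y hy) (by norm_num)
  have hw : ∀ c, ∀ y ∈ iw wE c 6, y < 9 := fun c y hy =>
    Nat.lt_trans (iw_lt wE_lt c 6 y hy) (by norm_num)
  have hcomm : (P : V ≃ₗ[ZMod 2] V) * ev ltM (wE 3) = ev ltM (wE 3) * P := by
    rw [← hφ (wE 3) h3, ← Subgroup.coe_mul, ← Subgroup.coe_mul, hPdef, ← map_mul, ← map_mul]
    congr 2
    apply Subtype.ext
    have := hν
    rw [fE_ev m] at this
    exact this
  obtain ⟨d, hd, h1⟩ := model_norm hPO hcomm hc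
  refine ⟨d, hd, ?_⟩
  have h2 : (⟨x, hx⟩ : Subgroup.closure (gens t w r k n z s m)) *
      ⟨ev (lt t w r k n z s m) (iw wE c 6), ev_mem_J (hw c)⟩ * (⟨x, hx⟩)⁻¹ =
      ⟨ev (lt t w r k n z s m) (iw wE d 6), ev_mem_J (hw d)⟩ := by
    apply φ.injective
    apply Subtype.ext
    rw [map_mul, map_mul, map_inv, Subgroup.coe_mul, Subgroup.coe_mul, Subgroup.coe_inv, hφ _ (hw c),
      hφ _ (hw d)]
    exact h1
  have h4 := congrArg Subtype.val h2
  rw [io_ev m, io_ev m]
  exact h4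

end local_

/-! ### Sylow 2-subgroups -/

section sylow

variable {G : Type*} [Group G]

theorem exists_sylow [Finite G] {Q : Subgroup G} {z : G} (h : Large Q z) :
    ∃ T : Sylow 2 G, ∀ x ∈ (T : Subgroup G), x * z = z * x := by
  have : Fact (Nat.Prime 2) := ⟨Nat.prime_two⟩
  obtain ⟨T, hQT⟩ := (isPGroup h).exists_le_sylow
  refine ⟨T, ?_⟩
  have hnt : Nontrivial (T : Subgroup G) := by
    refine ⟨⟨⟨z, hQT h.z_mem⟩, 1, ?_⟩⟩
    intro he
    exact h.z_ne (congrArg Subtype.val he)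
  have hc : Nontrivial (Subgroup.center (T : Subgroup G)) := T.2.center_nontrivial
  obtain ⟨⟨⟨c, hcT⟩, hcc⟩, hc1⟩ := exists_ne (1 : Subgroup.center (T : Subgroup G))
  have hc1' : c ≠ 1 := by
    rintro rfl
    exact hc1 rfl
  rw [Subgroup.mem_center_iff] at hcc
  have hcomm : ∀ y ∈ (T : Subgroup G), y * c = c * y := fun y hy => congrArg Subtype.val (hcc ⟨y, hy⟩)
  have h1 : c ∈ Q := h.self c (hcomm z (hQT h.z_mem)).symm fun y hy => (hcomm y (hQT hy)).symm
  rcases h.cent c h1 fun y hy => (hcomm y (hQT hy)).symm with h2 | h2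
  · exact absurd h2 hc1'
  · intro x hx
    have := hcomm x hx
    rwa [h2] at this

/-- every 2-subgroup is centralised by a conjugate of `z` -/
theorem exists_cent [Finite G] {Q : Subgroup G} {z : G} (h : Large Q z) {S : Subgroup G}
    (hS : IsPGroup 2 S) : ∃ y, IsConj z y ∧ ∀ x ∈ S, x * y = y * x := by
  have : Fact (Nat.Prime 2) := ⟨Nat.prime_two⟩
  obtain ⟨T, hT⟩ := exists_sylow h
  obtain ⟨S', hS'⟩ := hS.exists_le_sylow
  obtain ⟨g, hg⟩ := MulAction.exists_smul_eq G S' T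
  refine ⟨g⁻¹ * z * g, isConj_iff.2 ⟨g⁻¹, by group⟩, fun x hx => ?_⟩
  have h2 : g * x * g⁻¹ ∈ ((g • S' : Sylow 2 G) : Subgroup G) := by
    have h4 := Subgroup.smul_mem_pointwise_smul x (MulAut.conj g) (S' : Subgroup G) (hS' hx)
    exact h4
  rw [hg] at h2
  have h3 := hT _ h2
  calc x * (g⁻¹ * z * g) = g⁻¹ * ((g * x * g⁻¹) * z) * g := by group
    _ = g⁻¹ * (z * (g * x * g⁻¹)) * g := by rw [h3]
    _ = g⁻¹ * z * g * x := by group

/-- a Sylow 2-subgroup of a subgroup -/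
theorem exists_sylow_sub [Finite G] (M : Subgroup G) : ∃ S : Subgroup G, S ≤ M ∧ IsPGroup 2 S ∧
    ∀ P : Subgroup G, P ≤ M → IsPGroup 2 P → ∃ m ∈ M, ∀ x ∈ P, m * x * m⁻¹ ∈ S := by
  have : Fact (Nat.Prime 2) := ⟨Nat.prime_two⟩
  obtain ⟨T⟩ := (inferInstance : Nonempty (Sylow 2 M))
  refine ⟨(T : Subgroup M).map M.subtype, ?_, T.2.map _, ?_⟩
  · rintro _ ⟨x, -, rfl⟩
    exact x.2
  · intro P hPM hP
    have hK' : IsPGroup 2 (P.subgroupOf M) := hP.comap_of_injective M.subtype M.subtype_injective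
    obtain ⟨S, hS⟩ := hK'.exists_le_sylow
    obtain ⟨g, hg⟩ := MulAction.exists_smul_eq M S T
    refine ⟨g, g.2, fun v hv => ?_⟩
    have h1 : (⟨v, hPM hv⟩ : M) ∈ (S : Subgroup M) := hS (Subgroup.mem_subgroupOf.2 hv)
    have h2 : g * ⟨v, hPM hv⟩ * g⁻¹ ∈ ((g • S : Sylow 2 M) : Subgroup M) := by
      have h4 := Subgroup.smul_mem_pointwise_smul (⟨v, hPM hv⟩ : M) (MulAut.conj g) (S : Subgroup M) h1
      exact h4
    rw [hg] at h2
    exact ⟨_, h2, rfl⟩

end sylow

/-! ### the closing argument -/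

section closing

variable {G : Type*} [Group G] {Q A : Subgroup G} {z a : G} {t w r k n s m : G}

theorem S15_nu : S15.all (fun c => !((List.range 8).all fun j =>
    !(xs (fun i => gramQ i j) c 8 ^^ gramQ 2 j))) = true := by
  decide +kernel

theorem nu_not [Finite Q] {p : Pair Q z A a} (D : Loc p t w r k n s) :
    ¬ IsConj z (fE t w r k n z s 3) := by
  intro h
  rw [fE3] at h
  rcases D.zQ _ (f_mem D 2 (by norm_num)) h with h1 | ⟨c, hc, h1⟩
  · have h2 := gramQ_eq D.rels 2 (by norm_num) 7 (by norm_num)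
    rw [h1, show gramQ 2 7 = true by rfl, cb_true, ← p.lz.comm_z _ (f_mem D 7 (by norm_num))] at h2
    exact p.lz.z_ne (mul_left_cancel (h2.symm.trans (mul_one _).symm))
  · have h2 := List.all_eq_true.1 S15_nu c hc
    rw [Bool.not_eq_true', List.all_eq_false] at h2
    obtain ⟨j, hj, h3⟩ := h2
    apply h3
    rw [bit_of_comm p.lz D.rels D.s_mem h1 (List.mem_range.1 hj)
      (gramQ_eq D.rels 2 (by norm_num) j (List.mem_range.1 hj))]
    cases gramQ 2 j <;> rfl

/-- the elements of `E` conjugate to `z` -/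
theorem conj_iff [Finite Q] {p : Pair Q z A a} (D : Loc p t w r k n s) (R : Rels t w r k n z s m)
    {c : ℕ} (hc : c < 64) : IsConj z (io (fE t w r k n z s) c 6) ↔ c ≠ 0 ∧ qE c = false := by
  constructor
  · intro h
    have h0 : c ≠ 0 := by
      rintro rfl
      rw [io_code_zero] at h
      exact p.lz.z_ne (isConj_one_left.1 h)
    refine ⟨h0, ?_⟩
    rcases hq : qE c with _ | _
    · rfl
    · exact absurd (h.trans ((conj_E R p.lz.z_ne hc h0).2 hq).symm) (nu_not D)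
  · rintro ⟨h0, hq⟩
    exact (conj_E R p.lz.z_ne hc h0).1 hq

theorem step [Finite G] {p : Pair Q z A a} (D : Loc p t w r k n s) (R : Rels t w r k n z s m)
    (hZ : ∀ y, IsConj z y → y ∈ Subgroup.closure (gens t w r k n z s m) →
      ∀ g : G, g * y * g⁻¹ ∈ Subgroup.closure (gens t w r k n z s m) →
        g ∈ Subgroup.closure (gens t w r k n z s m))
    (B : Subgroup G) (hB : B ≤ EE D.rels) (hν : fE t w r k n z s 3 ∈ B)
    (hC : ∀ e ∈ EE D.rels, e ∉ B → (∃ a ∈ B, IsConj z (e * a)) ∨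
      (∀ k' : G, (∀ a ∈ B, k' * a * k'⁻¹ = a) → k' * e * k'⁻¹ = e →
        k' ∈ Subgroup.closure (gens t w r k n z s m))) :
    Subgroup.centralizer (B : Set G) ≤ Subgroup.closure (gens t w r k n z s m) ∨
      ∀ e ∈ EE D.rels, e ∉ B → ∀ f ∈ EE D.rels, f ∉ B →
        ∃ m' ∈ Subgroup.closure (gens t w r k n z s m) ⊓ Subgroup.centralizer (B : Set G),
          ∃ a ∈ B, m' * e * m'⁻¹ = f * a := by
  set J := Subgroup.closure (gens t w r k n z s m) with hJ
  have hz2 : ∀ y, IsConj z y → y * y = 1 := by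
    intro y hy
    obtain ⟨g, rfl⟩ := isConj_iff.1 hy
    rw [show g * z * g⁻¹ * (g * z * g⁻¹) = g * (z * z) * g⁻¹ by group, p.lz.z_sq]; group
  have hE2 : ∀ e ∈ EE D.rels, e * e = 1 := by
    rintro _ ⟨c, hc, rfl⟩
    exact io_sq (E_sq D.rels) (E_comm D.rels) c
  have hEJ : EE D.rels ≤ J := by
    rintro _ ⟨c, hc, rfl⟩
    rw [io_ev m]
    exact ev_mem_J fun x hx => Nat.lt_trans (iw_lt wE_lt c 6 x hx) (by norm_num)
  have hEn : ∀ m' ∈ J ⊓ Subgroup.centralizer (B : Set G), ∀ e ∈ EE D.rels, m' * e * m'⁻¹ ∈ EE D.rels := by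
    intro m' hm e he
    refine norm_E R p.lz.z_ne hm.1 ?_ he
    exact (Subgroup.mem_centralizer_iff.1 hm.2 _ hν).symm
  obtain ⟨S, hSM, hSp, hSyl⟩ := exists_sylow_sub (J ⊓ Subgroup.centralizer (B : Set G))
  have hEcomm : ∀ e ∈ EE D.rels, ∀ f ∈ EE D.rels, e * f = f * e := by
    have hEi : ∀ e ∈ EE D.rels, e⁻¹ = e := fun e he => inv_eq_of_mul_eq_one_left (hE2 e he)
    intro e he f hf
    have h := hEi _ (mul_mem he hf)
    rw [mul_inv_rev, hEi e he, hEi f hf] at h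
    exact h.symm
  have hEM : EE D.rels ≤ J ⊓ Subgroup.centralizer (B : Set G) := by
    refine le_inf hEJ fun e he => ?_
    rw [Subgroup.mem_centralizer_iff]
    exact fun b hb => hEcomm b (hB hb) e he
  have hEp : IsPGroup 2 (EE D.rels) := by
    rintro ⟨e, he⟩
    refine ⟨1, Subtype.ext ?_⟩
    simp only [pow_one, pow_two, Subgroup.coe_mul, Subgroup.coe_one]
    exact hE2 e he
  have hES : EE D.rels ≤ S := by
    obtain ⟨m', hm, hmS⟩ := hSyl _ hEM hEp
    intro e he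
    have h1 := hEn m'⁻¹ (inv_mem hm) e he
    have h2 := hmS _ h1
    have h3 : m' * (m'⁻¹ * e * m'⁻¹⁻¹) * m'⁻¹ = e := by group
    rwa [h3] at h2
  obtain ⟨y, hy, hyS⟩ := exists_cent p.lz hSp
  have hyE : y ∈ EE D.rels := mem_EE_of_comm D fun i hi =>
    (hyS _ (hES (fE_mem D.rels (by omega)))).symm
  exact Cfsg.Agent.Lib.ClosingTI.centralizer_le_or_transitive (Z := {y | IsConj z y}) (J := J)
    (fun y hy hyJ g hg => hZ y hy hyJ g hg) (fun y hy => hz2 y hy) B (EE D.rels) S hB hEJ hE2 hEn hSM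
    hSp hSyl y hy (hES hyE) (fun x hx => (hyS x hx).symm) hC

/-- the subgroup of `E` with codes in `L` -/
def SubL (R : RelsC t w r k n z s) (L : List ℕ) (h0 : 0 ∈ L) (hx : ∀ c ∈ L, ∀ d ∈ L, c ^^^ d ∈ L) :
    Subgroup G where
  carrier := {x | ∃ c ∈ L, x = io (fE t w r k n z s) c 6}
  one_mem' := ⟨0, h0, (io_code_zero _ _).symm⟩
  mul_mem' := by
    rintro _ _ ⟨c, hc, rfl⟩ ⟨d, hd, rfl⟩
    exact ⟨c ^^^ d, hx c hc d hd, (io_xor (E_sq R) (E_comm R) c d).symm⟩
  inv_mem' := by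
    rintro _ ⟨c, hc, rfl⟩
    exact ⟨c, hc, inv_eq_of_mul_eq_one_left (io_sq (E_sq R) (E_comm R) c)⟩

/-- the four codes of a plane -/
def pl (c : ℕ) : List ℕ := [0, 8, c, c ^^^ 8]

theorem pl_xor (c : ℕ) : ∀ x ∈ pl c, ∀ y ∈ pl c, x ^^^ y ∈ pl c := by
  intro x hx y hy
  simp only [pl, List.mem_cons, List.not_mem_nil, or_false] at hx hy ⊢
  rcases hx with rfl | rfl | rfl | rfl <;> rcases hy with rfl | rfl | rfl | rfl
  · simp
  · simp
  · simp
  · simp
  · simp
  · simp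
  · right; right; right; rw [Nat.xor_comm]
  · right; right; left; rw [Nat.xor_comm c 8, ← Nat.xor_assoc]; simp
  · simp
  · simp
  · simp
  · right; left; rw [← Nat.xor_assoc]; simp
  · simp
  · right; right; left; rw [Nat.xor_assoc]; simp
  · right; left; rw [Nat.xor_assoc, Nat.xor_comm 8, ← Nat.xor_assoc]; simp
  · simp

theorem pl_check : (List.range 64).all (fun c => !(qE c) || (!(qE (Nat.xor c 8)) ||
    ((List.range 64).all (fun d => [0, 8, c, Nat.xor c 8].any (fun x => Nat.beq d x) ||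
      [0, 8, c, Nat.xor c 8].any fun x => !(qE (Nat.xor d x))) &&
    ((List.range 64).any (fun d => !(Nat.beq d 0) && (!(qE d) &&
      [8, c, Nat.xor c 8].all fun x => qE (Nat.xor d x))) &&
    (List.range 64).any fun d => !([0, 8, c, Nat.xor c 8].any (fun x => Nat.beq d x)) &&
      (!(qE (Nat.xor d 8)) && !(qE (Nat.xor d c))))))) = true := by
  decide +kernel

theorem plane [Finite G] {p : Pair Q z A a} (D : Loc p t w r k n s) (R : Rels t w r k n z s m)
    (hZ : ∀ y, IsConj z y → y ∈ Subgroup.closure (gens t w r k n z s m) →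
      ∀ g : G, g * y * g⁻¹ ∈ Subgroup.closure (gens t w r k n z s m) →
        g ∈ Subgroup.closure (gens t w r k n z s m)) {c : ℕ} (hc : c < 64) (h1 : qE c = true)
    (h2 : qE (c ^^^ 8) = true) {g : G} (hg1 : g * fE t w r k n z s 3 = fE t w r k n z s 3 * g)
    (hg2 : g * io (fE t w r k n z s) c 6 = io (fE t w r k n z s) c 6 * g) :
    g ∈ Subgroup.closure (gens t w r k n z s m) := by
  set B := SubL R.toRelsC (pl c) (by simp [pl]) (pl_xor c) with hBdef
  have h8 : fE t w r k n z s 3 = io (fE t w r k n z s) 8 6 := fE_eq_io R.toRelsC (i := 3) (by norm_num)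
  have hmul : ∀ c d, io (fE t w r k n z s) c 6 * io (fE t w r k n z s) d 6 =
      io (fE t w r k n z s) (c ^^^ d) 6 := fun c d => (io_xor (E_sq R.toRelsC) (E_comm R.toRelsC) c d).symm
  have hlt : ∀ {c d : ℕ}, c < 64 → d < 64 → c ^^^ d < 64 := fun hc hd =>
    Nat.xor_lt_two_pow (n := 6) hc hd
  have hpl : ∀ d ∈ pl c, d < 64 := by
    intro d hd
    simp only [pl, List.mem_cons, List.not_mem_nil, or_false] at hd
    rcases hd with rfl | rfl | rfl | rfl
    · norm_num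
    · norm_num
    · exact hc
    · exact hlt hc (by norm_num)
  have hplq : ∀ d ∈ pl c, d ≠ 0 → qE d = true := by
    intro d hd hd0
    simp only [pl, List.mem_cons, List.not_mem_nil, or_false] at hd
    rcases hd with rfl | rfl | rfl | rfl
    · exact absurd rfl hd0
    · rfl
    · exact h1
    · exact h2
  have hB : B ≤ EE R.toRelsC := by
    rintro _ ⟨d, hd, rfl⟩
    exact ⟨d, hpl d hd, rfl⟩
  have hν : fE t w r k n z s 3 ∈ B := ⟨8, by simp [pl], h8⟩
  have hmem : ∀ {d : ℕ}, io (fE t w r k n z s) d 6 ∉ B → d ∉ pl c := fun h1 h2 => h1 ⟨_, h2, rfl⟩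
  have hgC : g ∈ Subgroup.centralizer (B : Set G) := by
    rw [Subgroup.mem_centralizer_iff]
    rintro _ ⟨d, hd, rfl⟩
    simp only [pl, List.mem_cons, List.not_mem_nil, or_false] at hd
    rcases hd with rfl | rfl | rfl | rfl
    · rw [io_code_zero, one_mul, mul_one]
    · rw [← h8]; exact hg1.symm
    · exact hg2.symm
    · rw [← hmul, ← h8, mul_assoc, ← hg1, ← mul_assoc, ← hg2, mul_assoc]
  have hchk := allB_sound pl_check c hc
  rw [h1, show Nat.xor c 8 = c ^^^ 8 from rfl, h2, Bool.not_true, Bool.false_or, Bool.false_or,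
    Bool.and_eq_true, Bool.and_eq_true] at hchk
  obtain ⟨hA, hz', hf⟩ := hchk
  obtain ⟨z', hz'1, hz'2⟩ := List.any_eq_true.1 hz'
  obtain ⟨f, hf1, hf2⟩ := List.any_eq_true.1 hf
  rw [Bool.and_eq_true, Bool.and_eq_true, Bool.not_eq_true', Bool.not_eq_true'] at hz'2
  rw [Bool.and_eq_true, Bool.and_eq_true, Bool.not_eq_true', Bool.not_eq_true', Bool.not_eq_true'] at hf2
  obtain ⟨hz'0, hz'q, hz'x⟩ := hz'2
  obtain ⟨hf0, hfq1, hfq2⟩ := hf2
  have hz'1' : z' < 64 := List.mem_range.1 hz'1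
  have hf1' : f < 64 := List.mem_range.1 hf1
  have key : ∀ x ∈ pl c, qE (z' ^^^ x) = false → x = 0 := by
    intro x hx hq
    simp only [pl, List.mem_cons, List.not_mem_nil, or_false] at hx
    rcases hx with hx | hx
    · exact hx
    · exfalso
      have := List.all_eq_true.1 hz'x x (by simp only [List.mem_cons, List.not_mem_nil, or_false]; exact hx)
      rw [show Nat.xor z' x = z' ^^^ x from rfl, hq] at this
      exact absurd this (by simp)
  have hfL : f ∉ pl c := by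
    intro hfL
    rw [List.any_eq_false] at hf0
    exact hf0 f hfL (Nat.beq_refl f)
  rcases step D R hZ B hB hν (by
    rintro _ ⟨d, hd, rfl⟩ hdB
    left
    have hdL := hmem hdB
    have h3 := allB_sound hA d hd
    rw [Bool.or_eq_true] at h3
    rcases h3 with h3 | h3
    · exfalso
      obtain ⟨x, hx, h4⟩ := List.any_eq_true.1 h3
      apply hdL
      rw [Nat.eq_of_beq_eq_true h4]
      exact hx
    · obtain ⟨x, hx, h4⟩ := List.any_eq_true.1 h3
      rw [Bool.not_eq_true'] at h4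
      have hxB : io (fE t w r k n z s) x 6 ∈ B := ⟨x, hx, rfl⟩
      refine ⟨_, hxB, ?_⟩
      rw [hmul, conj_iff D R (hlt hd (hpl x hx))]
      refine ⟨fun h0 => hdL ?_, h4⟩
      rw [Nat.xor_eq_zero_iff.1 h0]
      exact hx) with h | h
  · exact h hgC
  · exfalso
    have hne : ∀ x ∈ pl c, f ^^^ x ≠ 0 := by
      intro x hx h0
      apply hfL
      rw [Nat.xor_eq_zero_iff.1 h0]
      exact hx
    have hfB : io (fE t w r k n z s) f 6 ∉ B := by
      rintro ⟨x, hx, hfx⟩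
      have h8L : 8 ∈ pl c := by simp [pl]
      have h3 : IsConj z (io (fE t w r k n z s) (f ^^^ 8) 6) :=
        (conj_iff D R (hlt hf1' (by norm_num))).2 ⟨hne 8 h8L, hfq1⟩
      rw [← hmul, hfx, hmul, conj_iff D R (hlt (hpl x hx) (by norm_num))] at h3
      have h4 := hplq _ (pl_xor c x hx 8 h8L) h3.1
      rw [h3.2] at h4
      exact absurd h4 (by simp)
    have hzB : io (fE t w r k n z s) z' 6 ∉ B := by
      rintro ⟨x, hx, hfx⟩
      have h3 : IsConj z (io (fE t w r k n z s) z' 6) :=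
        (conj_iff D R hz'1').2 ⟨fun h0 => by rw [h0] at hz'0; exact absurd hz'0 (by decide), hz'q⟩
      rw [hfx, conj_iff D R (hpl x hx)] at h3
      have h4 := hplq x hx h3.1
      rw [h3.2] at h4
      exact absurd h4 (by simp)
    obtain ⟨m', hm', _, ⟨x, hx, rfl⟩, heq⟩ := h _ ⟨f, hf1', rfl⟩ hfB _ ⟨z', hz'1', rfl⟩ hzB
    have key2 : ∀ y ∈ pl c, qE (f ^^^ y) = false → x ^^^ y = 0 := by
      intro y hy hq
      have h3 : IsConj z (io (fE t w r k n z s) (f ^^^ y) 6) :=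
        (conj_iff D R (hlt hf1' (hpl y hy))).2 ⟨hne y hy, hq⟩
      have h4 : m' * io (fE t w r k n z s) (f ^^^ y) 6 * m'⁻¹ =
          io (fE t w r k n z s) (z' ^^^ (x ^^^ y)) 6 := by
        have h5 : io (fE t w r k n z s) y 6 * m' = m' * io (fE t w r k n z s) y 6 :=
          Subgroup.mem_centralizer_iff.1 hm'.2 _ (show _ ∈ B from ⟨y, hy, rfl⟩)
        calc m' * io (fE t w r k n z s) (f ^^^ y) 6 * m'⁻¹ =
            m' * (io (fE t w r k n z s) f 6 * io (fE t w r k n z s) y 6) * m'⁻¹ := by rw [hmul]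
          _ = m' * io (fE t w r k n z s) f 6 * m'⁻¹ * (m' * io (fE t w r k n z s) y 6) * m'⁻¹ := by group
          _ = io (fE t w r k n z s) z' 6 * io (fE t w r k n z s) x 6 *
              (io (fE t w r k n z s) y 6 * m') * m'⁻¹ := by rw [heq, h5]
          _ = io (fE t w r k n z s) z' 6 * (io (fE t w r k n z s) x 6 * io (fE t w r k n z s) y 6) := by
            group
          _ = _ := by rw [hmul, hmul]
      have h6 : IsConj z (io (fE t w r k n z s) (z' ^^^ (x ^^^ y)) 6) :=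
        h3.trans (isConj_iff.2 ⟨m', h4⟩)
      rw [conj_iff D R (hlt hz'1' (hpl _ (pl_xor c x hx y hy)))] at h6
      exact key _ (pl_xor c x hx y hy) h6.2
    have h3 := Nat.xor_eq_zero_iff.1 (key2 8 (by simp [pl]) hfq1)
    have h4 := Nat.xor_eq_zero_iff.1 (key2 c (by simp [pl]) hfq2)
    rw [← h4, h3] at h2
    exact absurd h2 (by decide)

/-- **[B]**: `C_G(ν) ≤ G₀`. -/
theorem cent_nu [Finite G] {p : Pair Q z A a} (D : Loc p t w r k n s) (R : Rels t w r k n z s m)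
    (hZ : ∀ y, IsConj z y → y ∈ Subgroup.closure (gens t w r k n z s m) →
      ∀ g : G, g * y * g⁻¹ ∈ Subgroup.closure (gens t w r k n z s m) →
        g ∈ Subgroup.closure (gens t w r k n z s m)) :
    ∀ g : G, g * fQ t w r k n z s 2 = fQ t w r k n z s 2 * g →
      g ∈ Subgroup.closure (gens t w r k n z s m) := by
  intro g hg
  rw [← fE3] at hg
  have hL : ∀ x ∈ [0, 8], ∀ y ∈ [0, 8], x ^^^ y ∈ [0, 8] := by decide
  set B := SubL R.toRelsC [0, 8] (by simp) hL with hBdef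
  have h8 : fE t w r k n z s 3 = io (fE t w r k n z s) 8 6 := fE_eq_io R.toRelsC (i := 3) (by norm_num)
  have h1 : z = io (fE t w r k n z s) 1 6 := by
    have := fE_eq_io R.toRelsC (i := 0) (by norm_num)
    rwa [fE0] at this
  have hmul : ∀ c d, io (fE t w r k n z s) c 6 * io (fE t w r k n z s) d 6 =
      io (fE t w r k n z s) (c ^^^ d) 6 := fun c d => (io_xor (E_sq R.toRelsC) (E_comm R.toRelsC) c d).symm
  have hlt : ∀ {c d : ℕ}, c < 64 → d < 64 → c ^^^ d < 64 := fun hc hd =>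
    Nat.xor_lt_two_pow (n := 6) hc hd
  have hB : B ≤ EE R.toRelsC := by
    rintro _ ⟨d, hd, rfl⟩
    refine ⟨d, ?_, rfl⟩
    simp only [List.mem_cons, List.not_mem_nil, or_false] at hd
    rcases hd with rfl | rfl <;> norm_num
  have hν : fE t w r k n z s 3 ∈ B := ⟨8, by simp, h8⟩
  have hgC : g ∈ Subgroup.centralizer (B : Set G) := by
    rw [Subgroup.mem_centralizer_iff]
    rintro _ ⟨d, hd, rfl⟩
    simp only [List.mem_cons, List.not_mem_nil, or_false] at hd
    rcases hd with rfl | rfl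
    · rw [io_code_zero, one_mul, mul_one]
    · rw [← h8]; exact hg.symm
  have hnz : ∀ d ∈ [0, 8], ¬ IsConj z (io (fE t w r k n z s) d 6) := by
    intro d hd h
    simp only [List.mem_cons, List.not_mem_nil, or_false] at hd
    rcases hd with rfl | rfl
    · exact ((conj_iff D R (by norm_num)).1 h).1 rfl
    · exact absurd ((conj_iff D R (by norm_num)).1 h).2 (by decide)
  have hnz' : ∀ d ∈ [16, 24], ¬ IsConj z (io (fE t w r k n z s) d 6) := by
    intro d hd h
    simp only [List.mem_cons, List.not_mem_nil, or_false] at hd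
    rcases hd with rfl | rfl
    · exact absurd ((conj_iff D R (by norm_num)).1 h).2 (by decide)
    · exact absurd ((conj_iff D R (by norm_num)).1 h).2 (by decide)
  rcases step D R hZ B hB hν (by
    rintro _ ⟨d, hd, rfl⟩ hdB
    have hd0 : d ≠ 0 := by
      rintro rfl
      exact hdB ⟨0, by simp, rfl⟩
    have hd8 : d ≠ 8 := by
      rintro rfl
      exact hdB ⟨8, by simp, rfl⟩
    rcases hq : qE d with _ | _
    · left
      exact ⟨1, B.one_mem, by rw [mul_one]; exact (conj_iff D R hd).2 ⟨hd0, hq⟩⟩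
    · rcases hq8 : qE (d ^^^ 8) with _ | _
      · left
        refine ⟨_, hν, ?_⟩
        rw [h8, hmul]
        exact (conj_iff D R (hlt hd (by norm_num))).2
          ⟨fun h0 => hd8 (Nat.xor_eq_zero_iff.1 h0), hq8⟩
      · right
        intro k' hk1 hk2
        refine plane D R hZ hd hq hq8 ?_ ?_
        · exact mul_inv_eq_iff_eq_mul.1 (hk1 _ hν)
        · exact mul_inv_eq_iff_eq_mul.1 hk2) with h | h
  · exact h hgC
  · exfalso
    have hzB : z ∉ B := by
      rintro ⟨d, hd, hd'⟩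
      exact hnz d hd (by rw [← hd'])
    have hfB : io (fE t w r k n z s) 16 6 ∉ B := by
      rintro ⟨d, hd, hd'⟩
      have h3 : IsConj z (io (fE t w r k n z s) (d ^^^ 17) 6) := by
        rw [← hmul, ← hd', hmul]
        exact (conj_iff D R (by decide)).2 ⟨by decide, by decide⟩
      simp only [List.mem_cons, List.not_mem_nil, or_false] at hd
      rcases hd with rfl | rfl
      · exact absurd ((conj_iff D R (by decide)).1 h3).2 (by decide)
      · exact absurd ((conj_iff D R (by decide)).1 h3).2 (by decide)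
    obtain ⟨m', hm', _, ⟨x, hx, rfl⟩, heq⟩ := h _ ⟨1, by norm_num, h1⟩ hzB _ ⟨16, by norm_num, rfl⟩ hfB
    have h3 : IsConj z (io (fE t w r k n z s) (16 ^^^ x) 6) := by
      rw [← hmul, ← heq]
      exact isConj_iff.2 ⟨m', rfl⟩
    simp only [List.mem_cons, List.not_mem_nil, or_false] at hx
    rcases hx with rfl | rfl
    · exact hnz' 16 (by simp) h3
    · exact hnz' 24 (by simp) h3

/-- **[B]**, interface of helper46. -/
theorem cbeta [Finite G] {p : Pair Q z A a} (D : Loc p t w r k n s) (R : Rels t w r k n z s m)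
    (hZ : ∀ g : G, g * z * g⁻¹ ∈ Subgroup.closure (gens t w r k n z s m) →
      g ∈ Subgroup.closure (gens t w r k n z s m)) :
    ∀ g : G, g * fQ t w r k n z s 2 = fQ t w r k n z s 2 * g →
      g ∈ Subgroup.closure (gens t w r k n z s m) := by
  refine cent_nu D R ?_
  intro y hy hyJ g hg
  obtain ⟨h, rfl⟩ := isConj_iff.1 hy
  have h1 := hZ h hyJ
  have h2 : g * h ∈ Subgroup.closure (gens t w r k n z s m) := by
    apply hZ
    rwa [show g * h * z * (g * h)⁻¹ = g * (h * z * h⁻¹) * g⁻¹ by group]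
  have h3 := mul_mem h2 (inv_mem h1)
  rwa [mul_inv_cancel_right] at h3

end closing

end Cfsg.Agent.TypeOMinusEight.CBeta
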