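import Mathlib

/-!
The abstract closing lemma for groups of type `Ω₈⁻(2)` (helper46).

`M` contains the centralisers of `z` and `β` and controls their fusion (`hZ`, `hB`), the product of two commuting
conjugates of `z` is conjugate to `z` or `β` (`hA`), and the involutions of `M` which are products of commuting
conjugates of `z` and `β` and not conjugate to `z` are fused to their product with some conjugate of `z` (`hF`).
Then `M = G`.
-/

set_option autoImplicit false

namespace Cfsg.Agent.TypeOMinusEight.CloseAbs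

section dihedral

variable {G : Type*} [Group G]

/-- The dihedral alternative: two involutions `x`, `y` are conjugate by an element of `⟨x, y⟩`, or there is an
involution `k` commuting with both such that `x k` is conjugate to `x` and `y k` to `y`, or `x k` is conjugate to `y`
and `y k` to `x`. -/
theorem dihedral [Finite G] {x y : G} (hx : x * x = 1) (hy : y * y = 1) :
    (∃ g ∈ Subgroup.closure ({x, y} : Set G), g * x * g⁻¹ = y) ∨
    (∃ k : G, k ≠ 1 ∧ k * k = 1 ∧ x * k = k * x ∧ y * k = k * y ∧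
      ((IsConj x (x * k)) ∨ (IsConj y (x * k) ∧ IsConj x (y * k)))) := by
  have hxi : x⁻¹ = x := inv_eq_of_mul_eq_one_left hx
  have hyi : y⁻¹ = y := inv_eq_of_mul_eq_one_left hy
  set r := x * y with hr
  have hxr : x * r * x⁻¹ = r⁻¹ := by
    rw [hr, mul_inv_rev, hxi, hyi, ← mul_assoc, hx, one_mul]
  have hyr : y * r * y⁻¹ = r⁻¹ := by
    rw [hr, mul_inv_rev, hxi, hyi, mul_assoc y (x * y) y, mul_assoc x y y, hy, mul_one]
  have hpow : ∀ n : ℕ, x * r ^ n * x⁻¹ = (r ^ n)⁻¹ := by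
    intro n
    rw [← conj_pow, hxr, inv_pow]
  have hpowy : ∀ n : ℕ, y * r ^ n * y⁻¹ = (r ^ n)⁻¹ := by
    intro n
    rw [← conj_pow, hyr, inv_pow]
  have hxp : ∀ n : ℕ, x * (r ^ n)⁻¹ = r ^ n * x := by
    intro n
    rw [← hpow n, ← mul_assoc, ← mul_assoc, hx, one_mul, hxi]
  have hrmem : r ∈ Subgroup.closure ({x, y} : Set G) :=
    Subgroup.mul_mem _ (Subgroup.subset_closure (by simp)) (Subgroup.subset_closure (by simp))
  -- `r ^ n x r ^ (-n) = r ^ (2 n) x`
  have hconj : ∀ n : ℕ, r ^ n * x * (r ^ n)⁻¹ = r ^ (2 * n) * x := by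
    intro n
    rw [mul_assoc, hxp, ← mul_assoc, two_mul, pow_add]
  have hyx : y = r⁻¹ * x := by
    rw [hr, mul_inv_rev, hxi, hyi, mul_assoc, hx, mul_one]
  rcases Nat.even_or_odd (orderOf r) with ⟨m, hm⟩ | ⟨m, hm⟩
  · right
    have hpos := orderOf_pos r
    have hm0 : 0 < m := by omega
    have hk2 : r ^ m * r ^ m = 1 := by rw [← pow_add, ← hm, pow_orderOf_eq_one]
    have hki : (r ^ m)⁻¹ = r ^ m := inv_eq_of_mul_eq_one_left hk2
    have hk1 : r ^ m ≠ 1 := by
      intro h
      have := orderOf_dvd_of_pow_eq_one h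
      have := Nat.le_of_dvd hm0 this
      omega
    have hkx : x * r ^ m = r ^ m * x := by
      have := hpow m
      rw [hki] at this
      calc x * r ^ m = (x * r ^ m * x⁻¹) * x := by group
        _ = r ^ m * x := by rw [this]
    have hky : y * r ^ m = r ^ m * y := by
      have := hpowy m
      rw [hki] at this
      calc y * r ^ m = (y * r ^ m * y⁻¹) * y := by group
        _ = r ^ m * y := by rw [this]
    refine ⟨r ^ m, hk1, hk2, hkx, hky, ?_⟩
    rcases Nat.even_or_odd m with ⟨j, hj⟩ | ⟨j, hj⟩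
    · left
      refine isConj_iff.2 ⟨r ^ j, ?_⟩
      rw [hconj, hkx, hj, two_mul]
    · right
      constructor
      · refine isConj_iff.2 ⟨r ^ (j + 1), ?_⟩
        calc r ^ (j + 1) * y * (r ^ (j + 1))⁻¹ = r⁻¹ * (r ^ (j + 1) * x * (r ^ (j + 1))⁻¹) := by
              rw [hyx]
              have : r ^ (j + 1) * r⁻¹ = r⁻¹ * r ^ (j + 1) := by
                rw [pow_succ, mul_inv_cancel_right, ← pow_succ, pow_succ', inv_mul_cancel_left]
              rw [← mul_assoc, this]; group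
          _ = r⁻¹ * (r ^ (2 * (j + 1)) * x) := by rw [hconj]
          _ = x * r ^ m := by
              rw [hkx, hj, ← mul_assoc]
              congr 1
              rw [show 2 * (j + 1) = (2 * j + 1) + 1 by ring, pow_succ' r (2 * j + 1), inv_mul_cancel_left]
      · -- `y r ^ m = r ^ (m - 1) ... `
        refine (isConj_iff.2 ⟨r ^ (j + 1), ?_⟩ : IsConj (y * r ^ m) x).symm
        have h1 : y * r ^ m = r⁻¹ * (r ^ m * x) := by rw [hyx, mul_assoc, hkx]
        have h2 : r⁻¹ * (r ^ m * x) = r ^ (2 * j) * x := by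
          rw [← mul_assoc, hj, pow_succ', inv_mul_cancel_left]
        rw [h1, h2, ← mul_assoc, ← pow_add, mul_assoc, hxp, ← mul_assoc, ← pow_add]
        have h3 : j + 1 + 2 * j + (j + 1) = m + m := by omega
        rw [h3, ← hm, pow_orderOf_eq_one, one_mul]
  · left
    refine ⟨r ^ m, Subgroup.pow_mem _ hrmem m, ?_⟩
    rw [hconj]
    have h1 : r ^ (2 * m + 1) = 1 := by rw [← hm, pow_orderOf_eq_one]
    have h2 : r ^ (2 * m) = r⁻¹ := by
      rw [eq_inv_iff_mul_eq_one, ← pow_succ, h1]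
    rw [h2, ← hyx]

theorem closure_comm {x y k g : G} (hx : x * k = k * x) (hy : y * k = k * y)
    (hg : g ∈ Subgroup.closure ({x, y} : Set G)) : g * k = k * g := by
  have hle : Subgroup.closure ({x, y} : Set G) ≤ Subgroup.centralizer ({k} : Set G) := by
    rw [Subgroup.closure_le]
    rintro v (rfl | rfl)
    · exact Subgroup.mem_centralizer_singleton_iff.2 hx
    · exact Subgroup.mem_centralizer_singleton_iff.2 hy
  exact Subgroup.mem_centralizer_singleton_iff.1 (hle hg)

end dihedral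

section

variable {G : Type*} [Group G] [Finite G]

theorem eq_top (M : Subgroup G) {z β : G} (hz2 : z * z = 1) (hβ2 : β * β = 1)
    (hzβ : ¬ IsConj z β) (hzM : z ∈ M) (hβM : β ∈ M)
    (hZ : ∀ g : G, g * z * g⁻¹ ∈ M → g ∈ M) (hB : ∀ g : G, g * β * g⁻¹ ∈ M → g ∈ M)
    (hA : ∀ x : G, IsConj z x → x * z = z * x → x ≠ z → IsConj z (z * x) ∨ IsConj β (z * x))
    (hF : ∀ b : G, b ∈ M → IsConj β b → b * z = z * b → z * b ≠ 1 → ¬ IsConj z (z * b) →
      ∃ x ∈ M, IsConj z x ∧ x * (z * b) = (z * b) * x ∧ IsConj (z * b) (x * (z * b))) : M = ⊤ := by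
  -- centralisers
  have hCz : ∀ x : G, IsConj z x → x ∈ M → ∀ g, g * x = x * g → g ∈ M := by
    intro x hx hxM g hg
    obtain ⟨c, hc⟩ := isConj_iff.1 hx
    have h1 : c ∈ M := hZ c (by rw [hc]; exact hxM)
    have h2 : g * c ∈ M := by
      apply hZ
      rw [show g * c * z * (g * c)⁻¹ = g * (c * z * c⁻¹) * g⁻¹ by group, hc, hg]
      rwa [mul_assoc, mul_inv_cancel, mul_one]
    have h3 := M.mul_mem h2 (M.inv_mem h1)
    rwa [mul_inv_cancel_right] at h3
  have hCβ : ∀ x : G, IsConj β x → x ∈ M → ∀ g, g * x = x * g → g ∈ M := by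
    intro x hx hxM g hg
    obtain ⟨c, hc⟩ := isConj_iff.1 hx
    have h1 : c ∈ M := hB c (by rw [hc]; exact hxM)
    have h2 : g * c ∈ M := by
      apply hB
      rw [show g * c * β * (g * c)⁻¹ = g * (c * β * c⁻¹) * g⁻¹ by group, hc, hg]
      rwa [mul_assoc, mul_inv_cancel, mul_one]
    have h3 := M.mul_mem h2 (M.inv_mem h1)
    rwa [mul_inv_cancel_right] at h3
  -- an element of `Z ∪ B` in `M ∩ g M g⁻¹`
  have two : ∀ g k : G, k ∈ M → g⁻¹ * k * g ∈ M → (IsConj z k ∨ IsConj β k) → g ∈ M := by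
    intro g k hk hgk h
    rcases h with h | h
    · obtain ⟨c, hc⟩ := isConj_iff.1 h
      have h1 : c ∈ M := hZ c (by rw [hc]; exact hk)
      have h2 : g⁻¹ * c ∈ M := by
        apply hZ
        rw [show g⁻¹ * c * z * (g⁻¹ * c)⁻¹ = g⁻¹ * (c * z * c⁻¹) * g by group, hc]
        exact hgk
      have h3 := M.mul_mem h1 (M.inv_mem h2)
      rw [mul_inv_rev, inv_inv, mul_inv_cancel_left] at h3
      exact h3
    · obtain ⟨c, hc⟩ := isConj_iff.1 h
      have h1 : c ∈ M := hB c (by rw [hc]; exact hk)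
      have h2 : g⁻¹ * c ∈ M := by
        apply hB
        rw [show g⁻¹ * c * β * (g⁻¹ * c)⁻¹ = g⁻¹ * (c * β * c⁻¹) * g by group, hc]
        exact hgk
      have h3 := M.mul_mem h1 (M.inv_mem h2)
      rw [mul_inv_rev, inv_inv, mul_inv_cancel_left] at h3
      exact h3
  -- general form of `hA`
  have hA' : ∀ x y : G, IsConj z x → IsConj z y → x * y = y * x → x ≠ y →
      IsConj z (x * y) ∨ IsConj β (x * y) := by
    intro x y hx hy hxy hne
    obtain ⟨c, hc⟩ := isConj_iff.1 hx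
    have e : ∀ v : G, c⁻¹ * (c * v * c⁻¹) * c = v := by intro v; group
    have h1 := hA (c⁻¹ * y * c) (hy.trans (isConj_iff.2 ⟨c⁻¹, by rw [inv_inv]⟩)) (by
      have h2 : z = c⁻¹ * x * c := by rw [← hc, e]
      calc c⁻¹ * y * c * z = c⁻¹ * (y * x) * c := by rw [h2]; group
        _ = c⁻¹ * (x * y) * c := by rw [hxy]
        _ = z * (c⁻¹ * y * c) := by rw [h2]; group) (by
      intro h
      apply hne
      rw [← hc, ← h]; group)
    have h3 : IsConj (z * (c⁻¹ * y * c)) (x * y) := by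
      refine isConj_iff.2 ⟨c, ?_⟩
      rw [← hc]; group
    rcases h1 with h1 | h1
    · exact Or.inl (h1.trans h3)
    · exact Or.inr (h1.trans h3)
  rw [Subgroup.eq_top_iff']
  intro g
  by_contra hg
  have hc2 : ∀ x y : G, x * x = 1 → IsConj x y → y * y = 1 := by
    intro x y hx h
    obtain ⟨c, hc⟩ := isConj_iff.1 h
    rw [← hc, show c * x * c⁻¹ * (c * x * c⁻¹) = c * (x * x) * c⁻¹ by group, hx]; group
  set y := g * β * g⁻¹ with hy
  have hyβ : IsConj β y := isConj_iff.2 ⟨g, rfl⟩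
  have hy2 : y * y = 1 := hc2 _ _ hβ2 hyβ
  have hgy : g⁻¹ * y * g = β := by rw [hy]; group
  rcases dihedral hz2 hy2 with ⟨h, -, hh⟩ | ⟨k, hk1, hk2, hzk, hyk, hcase⟩
  · exact hzβ ((isConj_iff.2 ⟨h, hh⟩).trans hyβ.symm)
  have hkM : k ∈ M := hCz z (IsConj.refl z) hzM k hzk.symm
  have hkg : g⁻¹ * k * g ∈ M := by
    refine hCβ β (IsConj.refl β) hβM _ ?_
    rw [← hgy]
    calc g⁻¹ * k * g * (g⁻¹ * y * g) = g⁻¹ * (k * y) * g := by group
      _ = g⁻¹ * (y * k) * g := by rw [hyk]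
      _ = g⁻¹ * y * g * (g⁻¹ * k * g) := by group
  have hk' : ¬ (IsConj z k ∨ IsConj β k) := fun h => hg (two g k hkM hkg h)
  have hne : ∀ x k : G, k ≠ 1 → x ≠ x * k := fun x k hk h => hk (mul_eq_left.1 h.symm)
  have hzzk : z * (z * k) = k := by rw [← mul_assoc, hz2, one_mul]
  rcases hcase with h1 | ⟨h1, h2⟩
  · have h2 := hA' z (z * k) (IsConj.refl z) h1 (by rw [hzzk, mul_assoc, ← hzk, hzzk]) (hne z k hk1)
    rw [hzzk] at h2
    exact hk' h2
  · obtain ⟨x, hxM, hzx, hxk, hkx⟩ := hF (z * k) (M.mul_mem hzM hkM) (hyβ.trans h1)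
      (by rw [mul_assoc, ← hzk]) (by rwa [hzzk]) (by rw [hzzk]; exact fun h => hk' (Or.inl h))
    rw [hzzk] at hxk hkx
    have hx2 : x * x = 1 := hc2 _ _ hz2 hzx
    set y' := y * k with hy'
    have hy'2 : y' * y' = 1 := hc2 _ _ hz2 h2
    have hy'k : y' * k = k * y' := by rw [hy', mul_assoc, hk2, mul_one, ← mul_assoc, ← hyk, mul_assoc, hk2, mul_one]
    have hy'g : g⁻¹ * y' * g ∈ M := by
      have : g⁻¹ * y' * g = β * (g⁻¹ * k * g) := by rw [← hgy, hy']; group
      rw [this]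
      exact M.mul_mem hβM hkg
    have hzy'g : IsConj z (g⁻¹ * y' * g) := h2.trans (isConj_iff.2 ⟨g⁻¹, by rw [inv_inv]⟩)
    rcases dihedral hx2 hy'2 with ⟨h, hh, he⟩ | ⟨k2, hk21, -, hxk2, hyk2, hcase2⟩
    · apply hk'
      right
      have h3 : h * k = k * h := closure_comm hxk hy'k hh
      have h4 : IsConj (x * k) y := by
        refine isConj_iff.2 ⟨h, ?_⟩
        calc h * (x * k) * h⁻¹ = (h * x * h⁻¹) * (h * k * h⁻¹) := by group
          _ = y' * k := by rw [he, h3, mul_inv_cancel_right]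
          _ = y := by rw [hy', mul_assoc, hk2, mul_one]
      exact hyβ.trans (hkx.trans h4).symm
    · have hk2M : k2 ∈ M := hCz x hzx hxM k2 hxk2.symm
      have hk2g : g⁻¹ * k2 * g ∈ M := by
        refine hCz _ hzy'g hy'g _ ?_
        calc g⁻¹ * k2 * g * (g⁻¹ * y' * g) = g⁻¹ * (k2 * y') * g := by group
          _ = g⁻¹ * (y' * k2) * g := by rw [hyk2]
          _ = g⁻¹ * y' * g * (g⁻¹ * k2 * g) := by group
      have hzxk : IsConj z (x * k2) := by
        rcases hcase2 with h3 | ⟨h3, -⟩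
        · exact hzx.trans h3
        · exact h2.trans h3
      have hxxk : x * (x * k2) = k2 := by rw [← mul_assoc, hx2, one_mul]
      have h4 := hA' x (x * k2) hzx hzxk (by rw [hxxk, mul_assoc, ← hxk2, hxxk]) (hne x k2 hk21)
      rw [hxxk] at h4
      exact hg (two g k2 hk2M hk2g h4)

end

end Cfsg.Agent.TypeOMinusEight.CloseAbs
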