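import Cfsg.Agent.TypeOMinusEight.FusZ
import Cfsg.Agent.TypeOMinusEight.CloseAbs
import Cfsg.Agent.Lib.ClosingTI

/-!
The closing argument: `G₀ = G` (helper46).  `β = ν = fQ 2`.
-/

set_option autoImplicit false
set_option maxRecDepth 100000

namespace Cfsg.Agent.TypeOMinusEight.Closing

open Cfsg.Agent.SporadicRecognition.CosetCert
  Cfsg.Agent.TypeO8Minus Cfsg.Agent.TypeO8Minus.Rel
  Cfsg.Agent.Co2Type.Quad Cfsg.Agent.LargeExtra.Base Cfsg.Agent.TypeOMinusEight.Words
  Cfsg.Agent.TypeOMinusEight.Code Cfsg.Agent.TypeOMinusEight.Data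
  Cfsg.Agent.TypeOMinusEight.Basic Cfsg.Agent.TypeOMinusEight.Cent
  Cfsg.Agent.TypeOMinusEight.EGrp Cfsg.Agent.TypeOMinusEight.VCode Cfsg.Agent.TypeOMinusEight.Invol
  Cfsg.Agent.TypeOMinusEight.Swap Cfsg.Agent.TypeOMinusEight.InvolF Cfsg.Agent.TypeOMinusEight.FusZ

section

variable {G : Type*} [Group G] {Q A : Subgroup G} {z a : G} {t w r k n s m : G} {p : Pair Q z A a}

/-- a non-central element of `Q` is conjugate to its product with `z` -/
theorem conj_mul_z (h : Large Q z) {v : G} (hv : v ∈ Q) (h1 : v ≠ 1) (hz : v ≠ z) :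
    ∃ q ∈ Q, q * v * q⁻¹ = v * z := by
  obtain ⟨q, hq, h2⟩ := exists_not_comm h hv h1 hz
  refine ⟨q, hq, ?_⟩
  have hzq : z * q⁻¹ = q⁻¹ * z := (h.comm_z _ (Q.inv_mem hq)).symm
  rw [h2, mul_assoc _ z, hzq]; group

/-- words conjugating `ν` to the four products `a f` -/
def bw (c : ℕ) : List ℕ :=
  bif Nat.beq c 3 then [0, 2, 1, 0, 2] else bif Nat.beq c 6 then [2, 1, 0, 2] else
  bif Nat.beq c 10 then [1, 0, 3] else [1, 0, 2]

theorem bw_check : [3, 6, 10, 14].all (fun c => (bw c).all (fun x => Nat.ble x 7) &&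
    chk (bw c ++ (wQ 2 ++ iv (bw c))) (iw wQ c 8)) = true := by decide +kernel

theorem conj_nu (D : Loc p t w r k n s) {c : ℕ} (hc : c ∈ [3, 6, 10, 14]) {x : G}
    (hx : VC t w r k n z s c x) : IsConj (fQ t w r k n z s 2) x := by
  have R := D.rels
  have h1 := List.all_eq_true.1 bw_check c hc
  rw [Bool.and_eq_true] at h1
  have h2 := ev_of_chk R 1 h1.2
  rw [ev_append, ev_append, ev_iv R 1 h1.1, ev_iw, ← mul_assoc] at h2
  have h3 : IsConj (fQ t w r k n z s 2) (io (fQ t w r k n z s) c 8) := isConj_iff.2 ⟨_, h2⟩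
  have hQ : io (fQ t w r k n z s) c 8 ∈ Q := io_mem (f_mem D) c
  have hc' : c < 256 ∧ c ≠ 0 := by
    have : ∀ c ∈ [3, 6, 10, 14], c < 256 ∧ c ≠ 0 := by decide
    exact this c hc
  have hne : ∀ y, y = 1 ∨ y = z → io (fQ t w r k n z s) c 8 ≠ y := by
    intro y hy h
    have h0 : VC t w r k n z s 0 y := by
      rcases hy with rfl | rfl
      · left; exact (io_code_zero _ 8).symm
      · right; rw [io_code_zero, one_mul]
    rw [← h] at h0
    exact hc'.2 (VC_inj D hc'.1 (by norm_num) (VC_self c) h0)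
  rcases hx with hx | hx
  · rw [hx]; exact h3
  · obtain ⟨q, -, hq⟩ := conj_mul_z p.lz hQ (hne 1 (Or.inl rfl)) (hne z (Or.inr rfl))
    rw [hx]
    exact h3.trans (isConj_iff.2 ⟨q, hq⟩)

variable [Finite G]

/-- `z` and `ν` are not conjugate -/
theorem not_conj_nu (D : Loc p t w r k n s) : ¬ IsConj z (fQ t w r k n z s 2) := by
  intro h
  have h1 : VC t w r k n z s 4 (fQ t w r k n z s 2) := Or.inl (f_eq_io D.rels (i := 2) (by norm_num))
  rcases D.zQ _ (f_mem D 2 (by norm_num)) h with h2 | ⟨c, hc, h2⟩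
  · have h0 : VC t w r k n z s 0 z := by right; rw [io_code_zero, one_mul]
    rw [h2] at h1
    exact absurd (VC_inj D (by norm_num) (by norm_num) h1 h0) (by norm_num)
  · have hlt : ∀ c ∈ S15, c < 256 ∧ c ≠ 4 := by decide
    exact (hlt c hc).2 (VC_inj D (hlt c hc).1 (by norm_num) h2 h1)

/-- a vector of the list commuting with `a` -/
theorem S15_comm_check : ∀ c ∈ S15, xs (fun i => gramQ i 0) c 8 = false →
    c = 1 ∨ 1 ^^^ c ∈ S15 ∨ 1 ^^^ c ∈ [3, 6, 10, 14] := by decide +kernel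

theorem conj_of_VC (D : Loc p t w r k n s) {c : ℕ} (hc : c ∈ S15) {x : G} (hx : VC t w r k n z s c x) :
    IsConj z x := by
  have hQ : io (fQ t w r k n z s) c 8 ∈ Q := io_mem (f_mem D) c
  have h1 := conj_z_io D hc
  rcases hx with hx | hx
  · rw [hx]; exact h1
  · have hne : io (fQ t w r k n z s) c 8 ≠ 1 := by
      intro h
      rw [h] at h1
      obtain ⟨g, hg⟩ := isConj_iff.1 h1
      apply p.lz.z_ne
      calc z = g⁻¹ * (g * z * g⁻¹) * g := by group
        _ = 1 := by rw [hg]; group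
    obtain ⟨q, -, hq⟩ := conj_mul_z p.lz hQ hne (io_ne_z D hc)
    rw [hx]
    exact h1.trans (isConj_iff.2 ⟨q, hq⟩)

/-- **[A]** products of commuting conjugates of `z` -/
theorem hA (D : Loc p t w r k n s) (R : Rels t w r k n z s m) (hm : m * z * m = a)
    (hC : ∀ c, c * z = z * c → c ∈ C0 t w r k n z s) (x : G) (hzx : IsConj z x) (hxz : x * z = z * x)
    (hne : x ≠ z) : IsConj z (z * x) ∨ IsConj (fQ t w r k n z s 2) (z * x) := by
  have mi : m⁻¹ = m := inv_eq_of_mul_eq_one_left R.m2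
  have haa : a * a = 1 := p.la.z_sq
  have hsq : ∀ {x : G}, IsConj z x → x * x = 1 := by
    intro x h
    obtain ⟨c, hc⟩ := isConj_iff.1 h
    rw [← hc, show c * z * c⁻¹ * (c * z * c⁻¹) = c * (z * z) * c⁻¹ by group, p.lz.z_sq]; group
  have hne1 : ∀ {x : G}, IsConj z x → x ≠ 1 := by
    intro x h h1
    obtain ⟨c, hc⟩ := isConj_iff.1 h
    apply p.lz.z_ne
    calc z = c⁻¹ * (c * z * c⁻¹) * c := by group
      _ = 1 := by rw [hc, h1]; group
  -- `v ~ v z` for `v ∈ Q ∩ Z`, `v ≠ z`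
  have key : ∀ v ∈ Q, IsConj z v → v ≠ z → IsConj z (z * v) := by
    intro v hv h h1
    obtain ⟨q, -, hq⟩ := conj_mul_z p.lz hv (hne1 h) h1
    rw [← p.lz.comm_z v hv]
    exact h.trans (isConj_iff.2 ⟨q, hq⟩)
  rcases invol D (hC x hxz) (hsq hzx) with h | ⟨g, hg, h⟩
  · left; exact key x h hzx hne
  · have hgz : g * z = z * g := by
      have hle : C0 t w r k n z s ≤ Subgroup.centralizer ({z} : Set G) := by
        rw [Subgroup.closure_le]
        intro y hy
        simp only [Set.mem_insert_iff, Set.mem_singleton_iff] at hy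
        apply Subgroup.mem_centralizer_singleton_iff.2
        rcases hy with rfl | rfl | rfl | rfl | rfl | rfl | rfl
        · exact comm_t D.rels
        · exact comm_w D.rels
        · exact comm_r D.rels
        · exact comm_k D.rels
        · exact comm_n D.rels
        · rfl
        · exact p.lz.comm_z _ D.s_mem
      exact Subgroup.mem_centralizer_singleton_iff.1 (hle hg)
    have hgzg : g⁻¹ * z * g = z := by rw [mul_assoc, ← hgz]; group
    set x1 := m * (g⁻¹ * x * g) * m with hx1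
    have hx1Q : x1 ∈ Q := (map_m p hm R.m2).2 _ h
    have hzx1 : IsConj z x1 := by
      refine hzx.trans (isConj_iff.2 ⟨m * g⁻¹, ?_⟩)
      rw [mul_inv_rev, inv_inv, mi, hx1]; group
    have hprod : m * (g⁻¹ * (z * x) * g) * m = a * x1 := by
      calc m * (g⁻¹ * (z * x) * g) * m = m * (g⁻¹ * z * g) * (m * m) * (g⁻¹ * x * g) * m := by
            rw [R.m2]; group
        _ = a * x1 := by rw [hgzg, hx1, ← hm]; group
    have hconj : IsConj (a * x1) (z * x) := by
      rw [← hprod]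
      refine (isConj_iff.2 ⟨m * g⁻¹, ?_⟩ : IsConj (z * x) _).symm
      rw [mul_inv_rev, inv_inv, mi]; group
    have hx1a : x1 * a = a * x1 := by
      have h1 : m * (g⁻¹ * (x * z) * g) * m = x1 * a := by
        calc m * (g⁻¹ * (x * z) * g) * m = m * (g⁻¹ * x * g) * (m * m) * (g⁻¹ * z * g) * m := by
              rw [R.m2]; group
          _ = x1 * a := by rw [hgzg, hx1, ← hm]; group
      rw [← h1, ← hprod, hxz]
    have hx1ne : x1 ≠ a := by
      intro h1
      apply hne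
      have h2 : g⁻¹ * x * g = z := by
        calc g⁻¹ * x * g = (m * m) * (g⁻¹ * x * g) * (m * m) := by rw [R.m2, one_mul, mul_one]
          _ = m * x1 * m := by rw [hx1]; group
          _ = m * (m * z * m) * m := by rw [h1, hm]
          _ = (m * m) * z * (m * m) := by group
          _ = z := by rw [R.m2, one_mul, mul_one]
      calc x = g * (g⁻¹ * x * g) * g⁻¹ := by group
        _ = z := by rw [h2, hgz]; group
    rcases D.zQ x1 hx1Q hzx1 with h1 | ⟨c, hc, h1⟩
    · left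
      refine IsConj.trans ?_ hconj
      rw [h1, p.lz.comm_z a p.a_mem]
      exact key a p.a_mem (conj_z_a D) p.ne
    · have hbit : xs (fun i => gramQ i 0) c 8 = false :=
        bit_of_comm p.lz D.rels D.s_mem h1 (by norm_num) (by
          rw [cb_false, mul_one, f0 D]; exact hx1a)
      have hV : VC t w r k n z s (1 ^^^ c) (a * x1) := VC_mul D (VC_a D) h1
      rcases S15_comm_check c hc hbit with h2 | h2 | h2
      · left
        refine IsConj.trans ?_ hconj
        rw [h2, Nat.xor_self] at hV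
        rcases hV with h3 | h3
        · exfalso
          apply hx1ne
          rw [io_code_zero] at h3
          calc x1 = (a * a) * x1 := by rw [haa, one_mul]
            _ = a * (a * x1) := by group
            _ = a := by rw [h3, mul_one]
        · rw [h3, io_code_zero, one_mul]
      · left; exact (conj_of_VC D h2 hV).trans hconj
      · right; exact (conj_nu D h2 hV).trans hconj

/-- involutions of `G₀` are `G₀`-conjugate into `Q` -/
theorem conj_Q (D : Loc p t w r k n s) (R : Rels t w r k n z s m) (hm : m * z * m = a)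
    {u : G} (hu : u ∈ G0 t w r k n z s m) (hu2 : u * u = 1) :
    ∃ h ∈ G0 t w r k n z s m, h⁻¹ * u * h ∈ Q := by
  have mi : m⁻¹ = m := inv_eq_of_mul_eq_one_left R.m2
  obtain ⟨h, hh, h1⟩ := exists_conj_C0 R p.lz.z_ne hu hu2
  have h2 : h⁻¹ * u * h * (h⁻¹ * u * h) = 1 := by
    rw [show h⁻¹ * u * h * (h⁻¹ * u * h) = h⁻¹ * (u * u) * h by group, hu2]; group
  rcases invol D h1 h2 with h3 | ⟨g, hg, h3⟩
  · exact ⟨h, hh, h3⟩
  · refine ⟨h * g * m, Subgroup.mul_mem _ (Subgroup.mul_mem _ hh (C0_le_G0 hg)) m_mem, ?_⟩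
    have h4 := (map_m p hm R.m2).2 _ h3
    have e : (h * g * m)⁻¹ * u * (h * g * m) = m * (g⁻¹ * (h⁻¹ * u * h) * g) * m := by
      rw [mul_inv_rev, mi]; group
    rw [e]; exact h4

/-- **[F']** -/
theorem hF (D : Loc p t w r k n s) (R : Rels t w r k n z s m) (hm : m * z * m = a)
    {u : G} (hu : u ∈ G0 t w r k n z s m) (hu2 : u * u = 1) (hu1 : u ≠ 1) (hzu : ¬ IsConj z u) :
    ∃ x ∈ G0 t w r k n z s m, IsConj z x ∧ x * u = u * x ∧ IsConj u (x * u) := by
  obtain ⟨h, hh, hQ⟩ := conj_Q D R hm hu hu2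
  set v := h⁻¹ * u * h with hv
  have e : u = h * v * h⁻¹ := by rw [hv]; group
  have hv1 : v ≠ 1 := by
    intro h1
    apply hu1
    rw [e, h1]; group
  have hvz : v ≠ z := by
    intro h1
    apply hzu
    rw [e, h1]
    exact isConj_iff.2 ⟨h, rfl⟩
  obtain ⟨q, hq, h2⟩ := conj_mul_z p.lz hQ hv1 hvz
  have hzv : v * z = z * v := p.lz.comm_z v hQ
  refine ⟨h * z * h⁻¹, Subgroup.mul_mem _ (Subgroup.mul_mem _ hh z_mem) (Subgroup.inv_mem _ hh),
    isConj_iff.2 ⟨h, rfl⟩, ?_, ?_⟩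
  · rw [e]
    calc h * z * h⁻¹ * (h * v * h⁻¹) = h * (z * v) * h⁻¹ := by group
      _ = h * v * h⁻¹ * (h * z * h⁻¹) := by rw [← hzv]; group
  · refine isConj_iff.2 ⟨h * q * h⁻¹, ?_⟩
    calc h * q * h⁻¹ * u * (h * q * h⁻¹)⁻¹ = h * (q * v * q⁻¹) * h⁻¹ := by rw [hv]; group
      _ = h * z * h⁻¹ * u := by rw [h2, hzv, hv]; group

theorem fQ2_mem (D : Loc p t w r k n s) : fQ t w r k n z s 2 ∈ G0 t w r k n z s m :=
  C0_le_G0 (Q_le_C0 D (f_mem D 2 (by norm_num)))

theorem fQ2_sq (R : RelsC t w r k n z s) : fQ t w r k n z s 2 * fQ t w r k n z s 2 = 1 := by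
  have := ev_of_chk R 1 (show chk (wQ 2 ++ wQ 2) [] = true by decide +kernel)
  rwa [ev_append, ev_nil] at this

/-- fusion of `ν` -/
theorem hB (D : Loc p t w r k n s) (R : Rels t w r k n z s m) (hm : m * z * m = a)
    (hC : ∀ c, c * z = z * c → c ∈ C0 t w r k n z s)
    (hcβ : ∀ g, g * fQ t w r k n z s 2 = fQ t w r k n z s 2 * g → g ∈ G0 t w r k n z s m)
    (g : G) (hg : g * fQ t w r k n z s 2 * g⁻¹ ∈ G0 t w r k n z s m) : g ∈ G0 t w r k n z s m := by
  set β := fQ t w r k n z s 2 with hβ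
  have hββ : β * β = 1 := fQ2_sq D.rels
  have hββ' : g * β * g⁻¹ * (g * β * g⁻¹) = 1 := by
    rw [show g * β * g⁻¹ * (g * β * g⁻¹) = g * (β * β) * g⁻¹ by group, hββ]; group
  obtain ⟨h, hh, hQ⟩ := conj_Q D R hm hg hββ'
  have hzv := p.lz.comm_z _ hQ
  obtain ⟨c, hc, hgc⟩ := Cfsg.Agent.Lib.ClosingTI.control (J := G0 t w r k n z s m) (Z := {x | IsConj z x})
    (by
      intro y hy hyJ g hgy
      obtain ⟨c, hc⟩ := isConj_iff.1 hy
      have h1 : c ∈ G0 t w r k n z s m := hZ D R hm hC c (by rw [hc]; exact hyJ)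
      have h2 : g * c ∈ G0 t w r k n z s m := by
        apply hZ D R hm hC
        rw [show g * c * z * (g * c)⁻¹ = g * (c * z * c⁻¹) * g⁻¹ by group, hc]
        exact hgy
      have h3 := Subgroup.mul_mem _ h2 (Subgroup.inv_mem _ h1)
      rwa [mul_inv_cancel_right] at h3)
    (by
      intro y hy
      obtain ⟨c, hc⟩ := isConj_iff.1 hy
      rw [← hc, show c * z * c⁻¹ * (c * z * c⁻¹) = c * (z * z) * c⁻¹ by group, p.lz.z_sq]; group)
    ({β} : Set G) z (h * z * h⁻¹) g (IsConj.refl z) z_mem (isConj_iff.2 ⟨h, rfl⟩)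
    (Subgroup.mul_mem _ (Subgroup.mul_mem _ hh z_mem) (Subgroup.inv_mem _ hh))
    (by
      intro x hx
      rw [Set.mem_singleton_iff] at hx
      rw [hx]
      exact (p.lz.comm_z _ (f_mem D 2 (by norm_num))).symm)
    (by
      intro x hx
      rw [Set.mem_singleton_iff] at hx
      rw [hx]
      calc h * z * h⁻¹ * (g * β * g⁻¹) = h * (z * (h⁻¹ * (g * β * g⁻¹) * h)) * h⁻¹ := by group
        _ = (g * β * g⁻¹) * (h * z * h⁻¹) := by rw [← hzv]; group)
  have hcG : c ∈ G0 t w r k n z s m := by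
    apply hcβ
    have := Subgroup.mem_centralizer_iff.1 hc β rfl
    exact this.symm
  have h3 := Subgroup.mul_mem _ hgc (Subgroup.inv_mem _ hcG)
  rwa [mul_inv_cancel_right] at h3

/-- **The closing theorem** (given `C_G(ν) ≤ G₀`). -/
theorem closing (D : Loc p t w r k n s) (R : Rels t w r k n z s m) (hm : m * z * m = a)
    (hC : ∀ c, c * z = z * c → c ∈ C0 t w r k n z s)
    (hcβ : ∀ g, g * fQ t w r k n z s 2 = fQ t w r k n z s 2 * g → g ∈ G0 t w r k n z s m) :
    G0 t w r k n z s m = ⊤ := by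
  refine CloseAbs.eq_top (G0 t w r k n z s m) p.lz.z_sq (fQ2_sq D.rels) (not_conj_nu D) z_mem (fQ2_mem D)
    (hZ D R hm hC) (hB D R hm hC hcβ) (hA D R hm hC) ?_
  intro b hb hβb hbz h1 h2
  have hb2 : b * b = 1 := by
    obtain ⟨c, hc⟩ := isConj_iff.1 hβb
    rw [← hc, show c * fQ t w r k n z s 2 * c⁻¹ * (c * fQ t w r k n z s 2 * c⁻¹) =
      c * (fQ t w r k n z s 2 * fQ t w r k n z s 2) * c⁻¹ by group, fQ2_sq D.rels]; group
  refine hF D R hm (Subgroup.mul_mem _ z_mem hb) ?_ h1 h2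
  calc z * b * (z * b) = z * (b * z) * b := by group
    _ = (z * z) * (b * b) := by rw [hbz]; group
    _ = 1 := by rw [p.lz.z_sq, hb2, one_mul]

end

end Cfsg.Agent.TypeOMinusEight.Closing
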