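import Cfsg.Agent.TypeOMinusEight.Relations
import Cfsg.Agent.TypeOMinusEight.Closing
import Cfsg.Agent.TypeOMinusEight.CBeta
import Cfsg.Agent.TypeO8Minus.CentAll

/-!
Recognition of `Ω₈⁻(2)` from the configuration `confOminus` (helper46): assembly.
-/

set_option autoImplicit false
set_option maxRecDepth 100000

namespace Cfsg.Agent.TypeOMinusEight.Recog

open Cfsg.Agent.SporadicRecognition.CosetCert
  Cfsg.Agent.TypeO8Minus Cfsg.Agent.TypeO8Minus.Rel
  Cfsg.Agent.Co2Type.Quad Cfsg.Agent.LargeExtra.Base Cfsg.Agent.LargeExtra.Nine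
  Cfsg.Agent.TypeOMinusEight.Words
  Cfsg.Agent.TypeOMinusEight.Code Cfsg.Agent.TypeOMinusEight.Data
  Cfsg.Agent.TypeOMinusEight.Basic Cfsg.Agent.TypeOMinusEight.Cent
  Cfsg.Agent.TypeOMinusEight.Invol Cfsg.Agent.TypeOMinusEight.FusZ

variable {G : Type*} [Group G] {Q A : Subgroup G} {z a : G}

theorem loc_of_out {p : Pair Q z A a} {t w r k n s : G} (hc : Nat.card Q = 2 ^ 9)
    (o : CentC.Out Q A z a t w r k n s) : Loc p t w r k n s where
  rels := o.rels
  card := hc
  s_mem := o.s_mem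
  a_eq := o.a_eq
  e_mem := o.e_mem
  d_mem := o.d_mem
  kA := o.k_mem
  tA := o.t_mem
  zQ := by
    intro x hx hzx
    rcases o.zQ x hx hzx with h1 | ⟨g, hg, h1⟩
    · left; exact h1
    · right
      obtain ⟨d, hd, h5⟩ := (closure_S15 o.rels hg).1 32 mem32
      rw [io32 o.rels] at h5
      exact ⟨d, hd, by rw [← h5]; exact h1⟩

theorem closure_flip {t w r k n z s : G} (hk : k * z = z * k) (hzz : z * z = 1) :
    C0 t w r (k * z) (n * z) z s = C0 t w r k n z s := by
  have hz : ∀ k n : G, z ∈ C0 t w r k n z s := fun k n => Subgroup.subset_closure (by simp)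
  apply le_antisymm
  · rw [Subgroup.closure_le]
    intro y hy
    have H : ∀ y ∈ ({t, w, r, k, n, z, s} : Set G), y ∈ C0 t w r k n z s :=
      fun y hy => Subgroup.subset_closure hy
    simp only [Set.mem_insert_iff, Set.mem_singleton_iff] at hy
    rcases hy with rfl | rfl | rfl | rfl | rfl | rfl | rfl
    · exact H _ (by simp)
    · exact H _ (by simp)
    · exact H _ (by simp)
    · exact Subgroup.mul_mem _ (H _ (by simp)) (hz _ _)
    · exact Subgroup.mul_mem _ (H _ (by simp)) (hz _ _)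
    · exact H _ (by simp)
    · exact H _ (by simp)
  · rw [Subgroup.closure_le]
    intro y hy
    have H : ∀ y ∈ ({t, w, r, k * z, n * z, z, s} : Set G), y ∈ C0 t w r (k * z) (n * z) z s :=
      fun y hy => Subgroup.subset_closure hy
    simp only [Set.mem_insert_iff, Set.mem_singleton_iff] at hy
    rcases hy with rfl | rfl | rfl | rfl | rfl | rfl | rfl
    · exact H _ (by simp)
    · exact H _ (by simp)
    · exact H _ (by simp)
    · have h1 := Subgroup.mul_mem _ (H (y * z) (by simp)) (hz _ _)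
      rwa [mul_assoc, hzz, mul_one] at h1
    · have h1 := Subgroup.mul_mem _ (H (y * z) (by simp)) (hz _ _)
      rwa [mul_assoc, hzz, mul_one] at h1
    · exact H _ (by simp)
    · exact H _ (by simp)

/-- **Recognition of `Ω₈⁻(2)`.** -/
theorem recognize [Finite G] [Nontrivial G] (hG : ∀ H : Subgroup G, H.index ≠ 2) (p : Pair Q z A a)
    (φ : Coord p.lz) (hc : IsConf p φ confOminus) :
    ∃ (F : Type) (_ : Field F) (_ : Fintype F), Fintype.card F = 2 ∧
      ∃ a b : F, (∀ z₁ z₂ : F, z₁ ^ 2 + a * z₁ * z₂ + b * z₂ ^ 2 = 0 → z₁ = 0 ∧ z₂ = 0) ∧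
        Nonempty (G ≃* Cfsg.POmega F (Cfsg.quadFormMinus 3 F a b)) := by
  obtain ⟨t, w, r, k, n, s, o, hC⟩ := CentAll.cent_le hG p φ hc
  have D : Loc p t w r k n s := loc_of_out (CentAll.card_Q φ) o
  obtain ⟨k', n', m, hkn, D', R, -, hm⟩ := Relations.exists_m' D
  have hC' : ∀ c, c * z = z * c → c ∈ C0 t w r k' n' z s := by
    intro c h
    rcases hkn with ⟨rfl, rfl⟩ | ⟨rfl, rfl⟩
    · exact hC c h
    · rw [closure_flip (comm_k D.rels) p.lz.z_sq]
      exact hC c h
  have hZ := hZ D' R hm hC'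
  have htop := Closing.closing D' R hm hC' (CBeta.cbeta D' R hZ)
  exact Ident.main R htop

end Cfsg.Agent.TypeOMinusEight.Recog
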