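import Cfsg.Agent.TypeOMinusEight.Data

/-!
First consequences of the interface: `k, t ∈ A`, `C_G(E) = E`, and the elements acting trivially on `V` (helper46).
-/

set_option autoImplicit false
set_option maxRecDepth 100000

namespace Cfsg.Agent.TypeOMinusEight.Basic

open Cfsg.Agent.SporadicRecognition.CosetCert Cfsg.Agent.TypeO8Minus.Rel
  Cfsg.Agent.Co2Type.Quad Cfsg.Agent.LargeExtra.Base Cfsg.Agent.TypeOMinusEight.Words
  Cfsg.Agent.TypeOMinusEight.Code Cfsg.Agent.TypeOMinusEight.Data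

theorem allB {n : ℕ} {P : ℕ → Bool} (h : (List.range n).all P = true) : ∀ i < n, P i = true :=
  Cfsg.Agent.TypeO8Minus.Model.allB_sound h

section

variable {G : Type*} [Group G] {Q A : Subgroup G} {z a : G} {t w r k n s : G}

theorem conjK_check : (List.range 6).all (fun i =>
    chk ([4] ++ (wQ i ++ iv [4])) (iw wQ ((tabV 4).getD i 0) 8)) = true := by decide +kernel

theorem conj_check : [0, 1, 2, 3, 5].all (fun x => chkConj wQ 8 [x] (tabV x)) = true := by
  decide +kernel

theorem conjL (R : RelsC t w r k n z s) {x : ℕ} (hx : x ∈ [0, 1, 2, 3, 5]) {i : ℕ} (hi : i < 8) :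
    lt t w r k n z s 1 x * fQ t w r k n z s i * (lt t w r k n z s 1 x)⁻¹ =
      io (fQ t w r k n z s) ((tabV x).getD i 0) 8 := by
  have h1 := conj_of_chk R 1 (List.all_eq_true.1 conj_check x hx) i hi
  rw [ev_cons, ev_nil, mul_one] at h1
  exact h1

theorem conjK (R : RelsC t w r k n z s) {i : ℕ} (hi : i < 6) :
    k * fQ t w r k n z s i * k⁻¹ = io (fQ t w r k n z s) ((tabV 4).getD i 0) 8 := by
  have h1 := ev_of_chk R 1 (allB conjK_check i hi)
  rw [ev_append, ev_append, ev_iv R 1 rfl, ev_iw, ev_cons, ev_nil, mul_one, ← mul_assoc] at h1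
  exact h1

theorem perpD_check : (List.range 256).all (fun c => (xs (fun i => gramQ i 0) c 8 ||
    (xs (fun i => gramQ i 2) c 8 || (xs (fun i => gramQ i 3) c 8 || xs (fun i => gramQ i 4) c 8))) ||
    (!bt c 1 && (!bt c 5 && (!bt c 6 && !bt c 7)))) = true := by decide +kernel

theorem mem_A_of [Finite Q] (p : Pair Q z A a) (R : RelsC t w r k n z s) (hc : Nat.card Q = 2 ^ 9)
    (hs : s ∈ Q) (h0 : fQ t w r k n z s 0 = a) (h2 : fQ t w r k n z s 2 ∈ A)
    (h3 : fQ t w r k n z s 3 ∈ A) (h4 : fQ t w r k n z s 4 ∈ A) {g x : G} (hx : x ∈ A)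
    (hg : g * x ∈ Q) (hga : g * a * g⁻¹ = a)
    (hconj : ∀ j, j = 2 ∨ j = 3 ∨ j = 4 → g * fQ t w r k n z s j * g⁻¹ = fQ t w r k n z s j ∨
      g * fQ t w r k n z s j * g⁻¹ = fQ t w r k n z s j * a) : g ∈ A := by
  have hA : ∀ j, j = 0 ∨ j = 2 ∨ j = 3 ∨ j = 4 → fQ t w r k n z s j ∈ A := by
    rintro j (rfl | rfl | rfl | rfl)
    · rw [h0]; exact p.la.z_mem
    · exact h2
    · exact h3
    · exact h4
  have hconj' : ∀ j, j = 0 ∨ j = 2 ∨ j = 3 ∨ j = 4 → g * fQ t w r k n z s j * g⁻¹ = fQ t w r k n z s j ∨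
      g * fQ t w r k n z s j * g⁻¹ = fQ t w r k n z s j * a := by
    rintro j (rfl | hj)
    · left; rw [h0]; exact hga
    · exact hconj j hj
  -- `g x` commutes with the four elements
  have key : ∀ j, j = 0 ∨ j = 2 ∨ j = 3 ∨ j = 4 →
      (g * x) * fQ t w r k n z s j = fQ t w r k n z s j * (g * x) * cb false z := by
    intro j hj
    have hj8 : j < 8 := by omega
    rw [cb_false, mul_one]
    have hq := fQ_mem p.lz R hs j hj8
    have e1 : (g * x) * fQ t w r k n z s j * (g * x)⁻¹ =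
        g * (x * fQ t w r k n z s j * x⁻¹) * g⁻¹ := by group
    have h5 : (g * x) * fQ t w r k n z s j * (g * x)⁻¹ = fQ t w r k n z s j ∨
        (g * x) * fQ t w r k n z s j * (g * x)⁻¹ = fQ t w r k n z s j * a := by
      have h6 : x * fQ t w r k n z s j * x⁻¹ = fQ t w r k n z s j ∨
          x * fQ t w r k n z s j * x⁻¹ = fQ t w r k n z s j * a := p.conj_D (hA j hj) hx
      rcases h6 with h6 | h6
      · rw [e1, h6]; exact hconj' j hj
      · have e2 : g * (fQ t w r k n z s j * a) * g⁻¹ =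
            (g * fQ t w r k n z s j * g⁻¹) * (g * a * g⁻¹) := by group
        rw [e1, h6, e2, hga]
        rcases hconj' j hj with h7 | h7
        · right; rw [h7]
        · left; rw [h7, mul_assoc, p.la.z_sq, mul_one]
    rcases p.lz.comm _ hg _ hq with h6 | h6
    · exact h6
    · exfalso
      have h7 : (g * x) * fQ t w r k n z s j * (g * x)⁻¹ = fQ t w r k n z s j * z := by
        rw [h6, mul_assoc (fQ t w r k n z s j * (g * x)), ← (p.lz.commz hg).inv_left.eq]
        group
      rcases h5 with h5 | h5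
      · rw [h7] at h5
        exact p.lz.z_ne (mul_eq_left.1 h5)
      · rw [h7] at h5
        exact p.ne (mul_left_cancel h5).symm
  obtain ⟨c, hc256, hcx⟩ := code_Q p.lz R hc hs hg
  have b0 := bit_of_comm p.lz R hs hcx (by norm_num) (key 0 (by omega))
  have b2 := bit_of_comm p.lz R hs hcx (by norm_num) (key 2 (by omega))
  have b3 := bit_of_comm p.lz R hs hcx (by norm_num) (key 3 (by omega))
  have b4 := bit_of_comm p.lz R hs hcx (by norm_num) (key 4 (by omega))
  have h5 := allB perpD_check c hc256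
  rw [b0, b2, b3, b4] at h5
  simp only [Bool.or_false, Bool.false_or, Bool.and_eq_true, Bool.not_eq_true'] at h5
  obtain ⟨h51, h55, h56, h57⟩ := h5
  have h6 : io (fQ t w r k n z s) c 8 ∈ A := by
    apply io_mem_of_bits
    intro i hi hb
    interval_cases i
    · exact hA 0 (by omega)
    · rw [h51] at hb; exact absurd hb (by simp)
    · exact hA 2 (by omega)
    · exact hA 3 (by omega)
    · exact hA 4 (by omega)
    · rw [h55] at hb; exact absurd hb (by simp)
    · rw [h56] at hb; exact absurd hb (by simp)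
    · rw [h57] at hb; exact absurd hb (by simp)
  have h7 : g * x ∈ A := by
    rcases hcx with h7 | h7
    · rw [h7]; exact h6
    · rw [h7]; exact A.mul_mem h6 p.z_mem
  have h8 := A.mul_mem h7 (A.inv_mem hx)
  rwa [mul_inv_cancel_right] at h8

/-- conjugates used below -/
theorem checks : (chk [4,1,5,7,5,1,4] [1,5,7,5,1] && (chk ([4] ++ (wQ 2 ++ [4])) (wQ 2) &&
    (chk ([4] ++ (wQ 3 ++ [4])) (wQ 3) && (chk ([4] ++ (wQ 4 ++ [4])) (wQ 4 ++ wQ 0) &&
    (chk ([0] ++ (wQ 0 ++ [0])) (wQ 0) && (chk ([0] ++ (wQ 2 ++ [0])) (wQ 2) &&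
    (chk ([0] ++ (wQ 3 ++ [0])) (wQ 3 ++ wQ 0) && (chk ([0] ++ (wQ 4 ++ [0])) (wQ 4) &&
    chk ([2] ++ (wQ 0 ++ [3])) (wQ 0))))))))) = true := by decide +kernel

theorem ev_conj_inv {L : ℕ → G} {x : ℕ} {u v : List ℕ} (hx : L x * L x = 1)
    (h : ev L ([x] ++ (u ++ [x])) = ev L v) : L x * ev L u * (L x)⁻¹ = ev L v := by
  rw [ev_append, ev_append, ev_cons, ev_nil, mul_one, ← mul_assoc] at h
  rw [inv_eq_of_mul_eq_one_left hx]
  exact h

/-- the interface gives the internal form -/
theorem loc_of_cdata [Finite Q] {p : Pair Q z A a} (D : CData p t w r k n s) : Loc p t w r k n s := by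
  have R := D.rels
  have hc := checks
  simp only [Bool.and_eq_true] at hc
  obtain ⟨c1, c2, c3, c4, c5, c6, c7, c8, c9⟩ := hc
  have h0 : fQ t w r k n z s 0 = a := by rw [fQ0]; exact D.a_eq
  have ra : r * a = a * r := by
    have h1 := ev_of_chk R 1 c9
    rw [ev_append, ev_append] at h1
    have h2 : ev (lt t w r k n z s 1) (wQ 0) = a := h0
    rw [h2, ev_cons, ev_cons, ev_nil, mul_one, mul_one] at h1
    have h3 : r * (a * r⁻¹) = a := h1
    calc r * a = (r * (a * r⁻¹)) * r := by group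
      _ = a * r := by rw [h3]
  have h2 : fQ t w r k n z s 2 ∈ A := by rw [fQ2]; exact D.d_mem
  have h3 : fQ t w r k n z s 3 ∈ A := by
    rw [fQ3]
    exact p.la.conj_mem r ra _ D.d_mem
  have h4 : fQ t w r k n z s 4 ∈ A := by rw [fQ4]; exact D.e_mem
  have key : ∀ {x y : ℕ} {v : List ℕ}, lt t w r k n z s 1 x * lt t w r k n z s 1 x = 1 →
      chk ([x] ++ (wQ y ++ [x])) v = true →
      lt t w r k n z s 1 x * fQ t w r k n z s y * (lt t w r k n z s 1 x)⁻¹ = ev (lt t w r k n z s 1) v :=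
    fun hx hv => ev_conj_inv hx (ev_of_chk R 1 hv)
  have h0' : ev (lt t w r k n z s 1) (wQ 0) = a := h0
  refine
    { rels := R
      card := D.card
      s_mem := D.s_mem
      a_eq := D.a_eq
      e_mem := D.e_mem
      d_mem := D.d_mem
      kA := ?_
      tA := ?_
      zQ := ?_ }
  · obtain ⟨x, hx, -, hkx⟩ := D.kX
    refine mem_A_of p R D.card D.s_mem h0 h2 h3 h4 hx hkx ?_ ?_
    · have h1 := key (x := 4) (y := 0) (v := [1,5,7,5,1]) R.k2 c1
      rw [h0] at h1
      exact h1.trans h0'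
    · rintro j (rfl | rfl | rfl)
      · left; exact key (x := 4) R.k2 c2
      · left; exact key (x := 4) R.k2 c3
      · right
        have h1 := key (x := 4) R.k2 c4
        rw [ev_append, h0'] at h1
        exact h1
  · obtain ⟨x, hx, -, htx⟩ := D.tX
    refine mem_A_of p R D.card D.s_mem h0 h2 h3 h4 hx htx ?_ ?_
    · have h1 := key (x := 0) (y := 0) R.t2 c5
      rw [h0] at h1
      exact h1.trans h0'
    · rintro j (rfl | rfl | rfl)
      · left; exact key (x := 0) R.t2 c6
      · right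
        have h1 := key (x := 0) R.t2 c7
        rw [ev_append, h0'] at h1
        exact h1
      · left; exact key (x := 0) R.t2 c8
  · intro x hx hzx
    rcases D.zQ x hx hzx with h1 | ⟨g, hg, h1⟩
    · left; exact h1
    · right
      obtain ⟨d, hd, h5⟩ := (closure_S15 R hg).1 32 mem32
      rw [io32 R] at h5
      exact ⟨d, hd, by rw [← h5]; exact h1⟩

end

end Cfsg.Agent.TypeOMinusEight.Basic
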