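import Cfsg.Agent.TypeOMinusEight.Basic

/-!
Elements of `C_G(z)` recognised by their action on the eight generators of `Q` (helper46).
-/

set_option autoImplicit false
set_option maxRecDepth 100000

namespace Cfsg.Agent.TypeOMinusEight.Cent

open Cfsg.Agent.SporadicRecognition.CosetCert Cfsg.Agent.TypeO8Minus.Rel
  Cfsg.Agent.Co2Type.Quad Cfsg.Agent.LargeExtra.Base Cfsg.Agent.TypeOMinusEight.Words
  Cfsg.Agent.TypeOMinusEight.Code Cfsg.Agent.TypeOMinusEight.Data
  Cfsg.Agent.TypeOMinusEight.Basic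

section

variable {G : Type*} [Group G] {Q A : Subgroup G} {z a : G} {t w r k n s : G}

theorem f0 {p : Pair Q z A a} (D : Loc p t w r k n s) : fQ t w r k n z s 0 = a := by
  rw [fQ0]; exact D.a_eq

theorem f_mem {p : Pair Q z A a} (D : Loc p t w r k n s) : ∀ i < 8, fQ t w r k n z s i ∈ Q :=
  fQ_mem p.lz D.rels D.s_mem

/-- an element centralising `V` -/
theorem mem_Q_of_triv [Finite Q] {p : Pair Q z A a} (D : Loc p t w r k n s) {x : G}
    (hx : x * z = z * x)
    (hf : ∀ i < 8, x * fQ t w r k n z s i * x⁻¹ = fQ t w r k n z s i ∨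
      x * fQ t w r k n z s i * x⁻¹ = fQ t w r k n z s i * z) : x ∈ Q := by
  have hz : x * z * x⁻¹ = z := by rw [hx]; group
  have hxinv : ∀ y, y * z = z * y → (x * y * x⁻¹ = y ∨ x * y * x⁻¹ = y * z) → y ∈ Q →
      (x * y * x⁻¹ = y ∨ x * y * x⁻¹ = y * z) := fun y _ h _ => h
  -- products
  have hmul : ∀ y y' : G, y' * z = z * y' → (x * y * x⁻¹ = y ∨ x * y * x⁻¹ = y * z) →
      (x * y' * x⁻¹ = y' ∨ x * y' * x⁻¹ = y' * z) →
      (x * (y * y') * x⁻¹ = y * y' ∨ x * (y * y') * x⁻¹ = y * y' * z) := by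
    intro y y' hy' h1 h2
    have e : x * (y * y') * x⁻¹ = (x * y * x⁻¹) * (x * y' * x⁻¹) := by group
    rcases h1 with h1 | h1 <;> rcases h2 with h2 | h2
    · left; rw [e, h1, h2]
    · right; rw [e, h1, h2, mul_assoc]
    · right; rw [e, h1, h2, mul_assoc, ← hy', mul_assoc]
    · left; rw [e, h1, h2]
      calc y * z * (y' * z) = y * (z * y') * z := by group
        _ = y * y' * (z * z) := by rw [← hy']; group
        _ = y * y' := by rw [p.lz.z_sq, mul_one]
  have hio : ∀ c, ∀ m ≤ 8, (x * io (fQ t w r k n z s) c m * x⁻¹ = io (fQ t w r k n z s) c m ∨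
      x * io (fQ t w r k n z s) c m * x⁻¹ = io (fQ t w r k n z s) c m * z) := by
    intro c m
    induction m with
    | zero => intro _; left; rw [io_zero]; group
    | succ m ih =>
      intro hm
      rw [io_succ]
      refine hmul _ _ ?_ (ih (by omega)) ?_
      · cases bt c m
        · rw [cb_false, one_mul, mul_one]
        · exact p.lz.comm_z _ (f_mem D m (by omega))
      · cases bt c m
        · left; rw [cb_false]; group
        · exact hf m (by omega)
  refine p.lz.mem_of_act ⟨x, Subgroup.mem_centralizer_singleton_iff.2 hx⟩ ?_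
  ext v
  obtain ⟨y, rfl⟩ := p.lz.pr_surjective v
  rw [p.lz.act_pr]
  show p.lz.pr _ = p.lz.pr y
  rw [p.lz.pr_eq_pr, Large.conjQ_coe]
  show x * (y : G) * x⁻¹ = y ∨ x * (y : G) * x⁻¹ = y * z
  obtain ⟨c, -, h1⟩ := code_Q p.lz D.rels D.card D.s_mem y.2
  rcases h1 with h1 | h1
  · rw [h1]; exact hio c 8 le_rfl
  · rw [h1]
    exact hmul _ _ rfl (hio c 8 le_rfl) (Or.inl hz)

/-- the conjugating word -/
def gw (c : ℕ) : List ℕ := (sw c).take (((sw c).length - 1) / 2)

theorem gw_check : ∀ c ∈ S15, (gw c).all (fun x => Nat.ble x 7) = true ∧ sw c = gw c ++ ([7] ++ iv (gw c)) := by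
  decide

theorem exists_conj_s {p : Pair Q z A a} (D : Loc p t w r k n s) {c : ℕ} (hc : c ∈ S15) :
    ∃ g, g * z = z * g ∧ io (fQ t w r k n z s) c 8 = g * s * g⁻¹ := by
  obtain ⟨h1, h2⟩ := gw_check c hc
  have hlt : ∀ x ∈ gw c, x < 8 := fun x hx =>
    Nat.lt_succ_of_le (Nat.le_of_ble_eq_true (List.all_eq_true.1 h1 x hx))
  refine ⟨ev (lt t w r k n z s 1) (gw c), ev_comm_z D.rels 1 hlt, ?_⟩
  rw [← io_sw D.rels hc, h2, ev_append, ev_append, ev_iv D.rels 1 h1, ← mul_assoc, ev_cons, ev_nil,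
    mul_one]
  rfl

theorem conj_z_a {p : Pair Q z A a} (_D : Loc p t w r k n s) : IsConj z a := by
  obtain ⟨g, h1, -⟩ := p.isConj
  exact isConj_iff.2 ⟨g, h1⟩

theorem conj_z_s {p : Pair Q z A a} (D : Loc p t w r k n s) : IsConj z s := by
  refine (conj_z_a D).trans ?_
  have hw : w⁻¹ = w := inv_eq_of_mul_eq_one_left D.rels.w2
  have hn : n⁻¹ = n := inv_eq_of_mul_eq_one_left D.rels.n2
  refine (isConj_iff.2 ⟨w * n, ?_⟩ : IsConj s a).symm
  rw [← D.a_eq, mul_inv_rev, hw, hn]; group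

theorem conj_z_io {p : Pair Q z A a} (D : Loc p t w r k n s) {c : ℕ} (hc : c ∈ S15) :
    IsConj z (io (fQ t w r k n z s) c 8) := by
  obtain ⟨g, -, h1⟩ := exists_conj_s D hc
  rw [h1]
  exact (conj_z_s D).trans (isConj_iff.2 ⟨g, rfl⟩)

theorem io_ne_z {p : Pair Q z A a} (D : Loc p t w r k n s) {c : ℕ} (hc : c ∈ S15) :
    io (fQ t w r k n z s) c 8 ≠ z := by
  obtain ⟨g, hgz, h1⟩ := exists_conj_s D hc
  intro h2
  rw [h2] at h1
  have h3 : s = z := by
    calc s = g⁻¹ * (g * s * g⁻¹) * g := by group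
      _ = g⁻¹ * (z * g) := by rw [← h1]; group
      _ = z := by rw [← hgz]; group
  have h4 := f0 D
  rw [fQ0, h3] at h4
  have h5 : w * (n * z * n) * w = z := by
    rw [comm_n D.rels, mul_assoc z, D.rels.n2, mul_one, comm_w D.rels, mul_assoc, D.rels.w2, mul_one]
  rw [h5] at h4
  exact p.ne h4.symm

/-- `C_G(z)` permutes the fifteen vectors -/
theorem conj_S15 {p : Pair Q z A a} (D : Loc p t w r k n s) {x : G} (hx : x * z = z * x) {c : ℕ}
    (hc : c ∈ S15) : ∃ d ∈ S15, x * io (fQ t w r k n z s) c 8 * x⁻¹ = io (fQ t w r k n z s) d 8 ∨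
      x * io (fQ t w r k n z s) c 8 * x⁻¹ = io (fQ t w r k n z s) d 8 * z := by
  have h1 : x * io (fQ t w r k n z s) c 8 * x⁻¹ ∈ Q :=
    p.lz.conj_mem x hx _ (io_mem (f_mem D) c)
  rcases D.zQ _ h1 ((conj_z_io D hc).trans (isConj_iff.2 ⟨x, rfl⟩)) with h2 | h2
  · exfalso
    apply io_ne_z D hc
    calc io (fQ t w r k n z s) c 8 = x⁻¹ * (x * io (fQ t w r k n z s) c 8 * x⁻¹) * x := by group
      _ = x⁻¹ * (z * x) := by rw [h2]; group
      _ = z := by rw [← hx]; group
  · exact h2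

/-- commutation bits of a conjugate -/
theorem bit_conj {p : Pair Q z A a} (D : Loc p t w r k n s) {x : G} (hx : x * z = z * x) {c d : ℕ}
    (hd : x * io (fQ t w r k n z s) c 8 * x⁻¹ = io (fQ t w r k n z s) d 8 ∨
      x * io (fQ t w r k n z s) c 8 * x⁻¹ = io (fQ t w r k n z s) d 8 * z) {j : ℕ} (hj : j < 8)
    (hxj : x * fQ t w r k n z s j * x⁻¹ = fQ t w r k n z s j ∨
      x * fQ t w r k n z s j * x⁻¹ = fQ t w r k n z s j * z) :
    xs (fun i => gramQ i j) d 8 = xs (fun i => gramQ i j) c 8 := by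
  refine bit_of_comm p.lz D.rels D.s_mem hd hj ?_
  have h1 := io_gramQ p.lz D.rels D.s_mem c hj
  have hz : x * z * x⁻¹ = z := by rw [hx]; group
  have hcbz : x * cb (xs (fun i => gramQ i j) c 8) z * x⁻¹ = cb (xs (fun i => gramQ i j) c 8) z := by
    cases xs (fun i => gramQ i j) c 8
    · rw [cb_false]; group
    · exact hz
  have h2 : x * io (fQ t w r k n z s) c 8 * x⁻¹ * (x * fQ t w r k n z s j * x⁻¹) =
      x * fQ t w r k n z s j * x⁻¹ * (x * io (fQ t w r k n z s) c 8 * x⁻¹) *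
      cb (xs (fun i => gramQ i j) c 8) z := by
    rw [← hcbz]
    calc _ = x * (io (fQ t w r k n z s) c 8 * fQ t w r k n z s j) * x⁻¹ := by group
      _ = _ := by rw [h1]; group
  have hyz : x * io (fQ t w r k n z s) c 8 * x⁻¹ * z = z * (x * io (fQ t w r k n z s) c 8 * x⁻¹) := by
    apply p.lz.comm_z
    exact p.lz.conj_mem x hx _ (io_mem (f_mem D) c)
  rcases hxj with h3 | h3
  · rw [h3] at h2; exact h2
  · rw [h3] at h2
    have hfz := p.lz.comm_z _ (f_mem D j hj)
    have h4 : x * io (fQ t w r k n z s) c 8 * x⁻¹ * fQ t w r k n z s j * z =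
        fQ t w r k n z s j * (x * io (fQ t w r k n z s) c 8 * x⁻¹) *
          cb (xs (fun i => gramQ i j) c 8) z * z := by
      calc _ = x * io (fQ t w r k n z s) c 8 * x⁻¹ * (fQ t w r k n z s j * z) := by group
        _ = fQ t w r k n z s j * (z * (x * io (fQ t w r k n z s) c 8 * x⁻¹)) *
            cb (xs (fun i => gramQ i j) c 8) z := by rw [h2]; group
        _ = fQ t w r k n z s j * (x * io (fQ t w r k n z s) c 8 * x⁻¹) *
            (z * cb (xs (fun i => gramQ i j) c 8) z) := by rw [← hyz]; group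
        _ = _ := by rw [← cb_comm (rfl : z * z = z * z)]; group
    exact mul_right_cancel h4

theorem unit_check : (List.range 8).all (fun i => chk (wQ i) (iw wQ (Nat.pow 2 i) 8)) = true := by
  decide +kernel

theorem f_eq_io (R : RelsC t w r k n z s) {i : ℕ} (hi : i < 8) :
    fQ t w r k n z s i = io (fQ t w r k n z s) (2 ^ i) 8 := by
  have h1 := ev_of_chk R 1 (allB unit_check i hi)
  rw [ev_iw] at h1
  exact h1

end

end Cfsg.Agent.TypeOMinusEight.Cent
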