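import Cfsg.Agent.TypeOMinusEight.Swap

/-!
The action on `E` in coordinates (helper46).
-/

set_option autoImplicit false
set_option maxRecDepth 100000

namespace Cfsg.Agent.TypeOMinusEight.EAct

open Cfsg.Agent.SporadicRecognition.CosetCert Cfsg.Agent.TypeO8Minus.Rel
  Cfsg.Agent.Co2Type.Quad Cfsg.Agent.LargeExtra.Base Cfsg.Agent.TypeOMinusEight.Words
  Cfsg.Agent.TypeOMinusEight.Code Cfsg.Agent.TypeOMinusEight.Data
  Cfsg.Agent.TypeOMinusEight.Basic Cfsg.Agent.TypeOMinusEight.Cent
  Cfsg.Agent.TypeOMinusEight.EGrp Cfsg.Agent.TypeOMinusEight.Swap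

/-- image of a code under a table -/
def ta (L : List ℕ) (c : ℕ) : ℕ := ap (fun i => L.getD i 0) c 6

/-- composition of tables -/
def cmp (L L' : List ℕ) : List ℕ := (List.range 6).map fun i => ta L (L'.getD i 0)

theorem cmp_getD (L L' : List ℕ) {i : ℕ} (hi : i < 6) : (cmp L L').getD i 0 = ta L (L'.getD i 0) := by
  have h1 : i < (cmp L L').length := by simp [cmp, hi]
  rw [List.getD_eq_getElem _ _ h1]
  simp [cmp]

theorem ap_lt {T : ℕ → ℕ} (hT : ∀ i < 6, T i < 64) (c : ℕ) : ap T c 6 < 64 := by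
  have key : ∀ n ≤ 6, ap T c n < 64 := by
    intro n
    induction n with
    | zero => intro _; show 0 < 64; norm_num
    | succ n ih =>
      intro hn
      rw [ap_succ]
      refine Nat.xor_lt_two_pow (n := 6) (ih (by omega)) ?_
      cases bt c n
      · show 0 < 64; norm_num
      · exact hT n (by omega)
  exact key 6 le_rfl

theorem ta_lt {L : List ℕ} (hL : (L.all fun x => Nat.blt x 64) = true) (c : ℕ) : ta L c < 64 := by
  apply ap_lt
  intro i _
  show L.getD i 0 < 64
  by_cases hi : i < L.length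
  · rw [List.getD_eq_getElem _ _ hi]
    exact Nat.le_of_ble_eq_true (List.all_eq_true.1 hL _ (List.getElem_mem hi))
  · rw [List.getD_eq_default _ _ (by omega)]; norm_num

section

variable {G : Type*} [Group G] {Q A : Subgroup G} {z a : G} {t w r k n s : G}

/-- `g` acts on `E` by the table `L` -/
def CE (t w r k n z s g : G) (L : List ℕ) : Prop :=
  ∀ i < 6, g * fE t w r k n z s i * g⁻¹ = io (fE t w r k n z s) (L.getD i 0) 6

theorem CE.apply {g : G} {L : List ℕ} (R : RelsC t w r k n z s) (h : CE t w r k n z s g L) (c : ℕ) :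
    g * io (fE t w r k n z s) c 6 * g⁻¹ = io (fE t w r k n z s) (ta L c) 6 :=
  io_conj (L := fun i => L.getD i 0) (E_sq R) (E_comm R) h c

theorem CE.mul {g g' : G} {L L' : List ℕ} (R : RelsC t w r k n z s) (h : CE t w r k n z s g L)
    (h' : CE t w r k n z s g' L') : CE t w r k n z s (g * g') (cmp L L') := by
  intro i hi
  rw [cmp_getD L L' hi]
  calc g * g' * fE t w r k n z s i * (g * g')⁻¹ = g * (g' * fE t w r k n z s i * g'⁻¹) * g⁻¹ := by group
    _ = _ := by rw [h' i hi, CE.apply R h]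

theorem CE.mul' {g g' : G} {L L' L'' : List ℕ} (R : RelsC t w r k n z s) (h : CE t w r k n z s g L)
    (h' : CE t w r k n z s g' L') (hL : cmp L L' = L'') : CE t w r k n z s (g * g') L'' :=
  hL ▸ CE.mul R h h'

theorem CE_word (R : RelsC t w r k n z s) {g L : List ℕ} (hc : chkConj wE 6 g L = true) :
    CE t w r k n z s (ev (lt t w r k n z s 1) g) L := fun i hi => conj_of_chk R 1 hc i hi

def Lid : List ℕ := [1, 2, 4, 8, 16, 32]
def Lt : List ℕ := [1, 2, 14, 8, 18, 32]
def Lw : List ℕ := [1, 4, 2, 8, 24, 32]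
def Lr : List ℕ := [1, 2, 4, 16, 24, 32]
def Ls : List ℕ := [1, 3, 4, 8, 16, 36]
def Le : List ℕ := [1, 2, 5, 8, 16, 34]
def Lu : List ℕ := [1, 2, 4, 8, 17, 41]
def Lu1 : List ℕ := [1, 2, 4, 9, 16, 49]
def Lb : List ℕ := [3, 2, 36, 8, 16, 32]
def Lm : List ℕ := [2, 1, 32, 8, 16, 4]

theorem tab_check : (chkConj wE 6 [0] Lt && (chkConj wE 6 [1] Lw && (chkConj wE 6 [2] Lr &&
    (chkConj wE 6 [7] Ls && (chkConj wE 6 (wQ 4) Le && (chkConj wE 6 (wQ 6) Lu &&
    chkConj wE 6 (wQ 7) Lu1)))))) = true := by decide +kernel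

theorem CE_t (R : RelsC t w r k n z s) : CE t w r k n z s t Lt := by
  have hc := tab_check
  simp only [Bool.and_eq_true] at hc
  have := CE_word R hc.1
  rwa [ev_cons, ev_nil, mul_one] at this

theorem CE_w (R : RelsC t w r k n z s) : CE t w r k n z s w Lw := by
  have hc := tab_check
  simp only [Bool.and_eq_true] at hc
  have := CE_word R hc.2.1
  rwa [ev_cons, ev_nil, mul_one] at this

theorem CE_r (R : RelsC t w r k n z s) : CE t w r k n z s r Lr := by
  have hc := tab_check
  simp only [Bool.and_eq_true] at hc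
  have := CE_word R hc.2.2.1
  rwa [ev_cons, ev_nil, mul_one] at this

theorem CE_s (R : RelsC t w r k n z s) : CE t w r k n z s s Ls := by
  have hc := tab_check
  simp only [Bool.and_eq_true] at hc
  have := CE_word R hc.2.2.2.1
  rwa [ev_cons, ev_nil, mul_one] at this

theorem CE_e (R : RelsC t w r k n z s) : CE t w r k n z s (fQ t w r k n z s 4) Le := by
  have hc := tab_check
  simp only [Bool.and_eq_true] at hc
  exact CE_word R hc.2.2.2.2.1

theorem CE_u (R : RelsC t w r k n z s) : CE t w r k n z s (fQ t w r k n z s 6) Lu := by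
  have hc := tab_check
  simp only [Bool.and_eq_true] at hc
  exact CE_word R hc.2.2.2.2.2.1

theorem CE_u1 (R : RelsC t w r k n z s) : CE t w r k n z s (fQ t w r k n z s 7) Lu1 := by
  have hc := tab_check
  simp only [Bool.and_eq_true] at hc
  exact CE_word R hc.2.2.2.2.2.2

/-- the code of an element of `E` is unique -/
theorem inj0 (hz : z ≠ 1) (R : RelsC t w r k n z s) {c : ℕ} (hc : c < 64)
    (h : io (fE t w r k n z s) c 6 = 1) : c = 0 := by
  have step : ∀ {g : G} {L : List ℕ}, CE t w r k n z s g L → ∀ d, io (fE t w r k n z s) d 6 = 1 →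
      io (fE t w r k n z s) (ta L d ^^^ d) 6 = 1 := by
    intro g L hg d hd
    rw [io_xor (E_sq R) (E_comm R), ← CE.apply R hg, hd]
    group
  have h1 : io (fE t w r k n z s) 1 6 ≠ 1 := by
    have : io (fE t w r k n z s) 1 6 = 1 * fE t w r k n z s 0 * 1 * 1 * 1 * 1 * 1 := rfl
    rw [this, fE0]
    simpa using hz
  have chk : ∀ c < 64, (Nat.beq c 0 || (Nat.beq c 1 || (Nat.beq (ta Ls c ^^^ c) 1 ||
      (Nat.beq (ta Le c ^^^ c) 1 || (Nat.beq (ta Lu c ^^^ c) 1 || (Nat.beq (ta Lu1 c ^^^ c) 1 ||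
      Nat.beq (ta Le (ta Ls c ^^^ c) ^^^ (ta Ls c ^^^ c)) 1)))))) = true := by
    have : (List.range 64).all (fun c => (Nat.beq c 0 || (Nat.beq c 1 || (Nat.beq (ta Ls c ^^^ c) 1 ||
      (Nat.beq (ta Le c ^^^ c) 1 || (Nat.beq (ta Lu c ^^^ c) 1 || (Nat.beq (ta Lu1 c ^^^ c) 1 ||
      Nat.beq (ta Le (ta Ls c ^^^ c) ^^^ (ta Ls c ^^^ c)) 1))))))) = true := by decide +kernel
    exact fun c hc => allB this c hc
  have h2 := chk c hc
  simp only [Bool.or_eq_true] at h2
  rcases h2 with h2 | h2 | h2 | h2 | h2 | h2 | h2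
  · exact Nat.eq_of_beq_eq_true h2
  · rw [Nat.eq_of_beq_eq_true h2] at h; exact absurd h h1
  · have := step (CE_s R) c h; rw [Nat.eq_of_beq_eq_true h2] at this; exact absurd this h1
  · have := step (CE_e R) c h; rw [Nat.eq_of_beq_eq_true h2] at this; exact absurd this h1
  · have := step (CE_u R) c h; rw [Nat.eq_of_beq_eq_true h2] at this; exact absurd this h1
  · have := step (CE_u1 R) c h; rw [Nat.eq_of_beq_eq_true h2] at this; exact absurd this h1
  · have := step (CE_e R) _ (step (CE_s R) c h)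
    rw [Nat.eq_of_beq_eq_true h2] at this; exact absurd this h1

theorem inj (hz : z ≠ 1) (R : RelsC t w r k n z s) {c d : ℕ} (hc : c < 64) (hd : d < 64)
    (h : io (fE t w r k n z s) c 6 = io (fE t w r k n z s) d 6) : c = d := by
  have h1 : io (fE t w r k n z s) (c ^^^ d) 6 = 1 := by
    rw [io_xor (E_sq R) (E_comm R), h, io_sq (E_sq R) (E_comm R)]
  have h2 := inj0 hz R (Nat.xor_lt_two_pow (n := 6) hc hd) h1
  exact Nat.xor_eq_zero_iff.1 h2

/-- the code of an element of `E` commuting with `g` is fixed -/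
theorem fix_of_comm (hz : z ≠ 1) (R : RelsC t w r k n z s) {g : G} {L : List ℕ} {c : ℕ}
    (hg : CE t w r k n z s g L) (hL : (L.all fun x => Nat.blt x 64) = true) (hc : c < 64)
    (h : g * io (fE t w r k n z s) c 6 = io (fE t w r k n z s) c 6 * g) : ta L c = c := by
  apply inj hz R (ta_lt hL c) hc
  rw [← CE.apply R hg, h]; group

/-- an element acting trivially on `E` lies in `E` -/
theorem mem_of_CE [Finite Q] {p : Pair Q z A a} (D : Loc p t w r k n s) {x : G}
    (h : CE t w r k n z s x Lid) : ∃ c < 64, x = io (fE t w r k n z s) c 6 := by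
  refine mem_EE_of_comm D fun i hi => ?_
  have h1 := h i (by omega)
  have h2 : Lid.getD i 0 = 2 ^ i := by interval_cases i <;> rfl
  rw [h2, ← fE_eq_io D.rels (by omega)] at h1
  calc x * fE t w r k n z s i = (x * fE t w r k n z s i * x⁻¹) * x := by group
    _ = _ := by rw [h1]

end

end Cfsg.Agent.TypeOMinusEight.EAct
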