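import Cfsg.Agent.TypeOMinusEight.Cent

/-!
The elementary abelian group `E` of order `2 ^ 6`, `C_G(E) = E`, and the centraliser of six vectors (helper46).
-/

set_option autoImplicit false
set_option maxRecDepth 100000

namespace Cfsg.Agent.TypeOMinusEight.EGrp

open Cfsg.Agent.SporadicRecognition.CosetCert Cfsg.Agent.TypeO8Minus.Rel
  Cfsg.Agent.Co2Type.Quad Cfsg.Agent.LargeExtra.Base Cfsg.Agent.TypeOMinusEight.Words
  Cfsg.Agent.TypeOMinusEight.Code Cfsg.Agent.TypeOMinusEight.Data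
  Cfsg.Agent.TypeOMinusEight.Basic Cfsg.Agent.TypeOMinusEight.Cent

section

variable {G : Type*} [Group G]

/-- the elements fixed by `x` modulo `z` -/
def Kz {z : G} (hz : z * z = 1) {x : G} (hx : x * z = z * x) : Subgroup G where
  carrier := {y | y * z = z * y ∧ (x * y * x⁻¹ = y ∨ x * y * x⁻¹ = y * z)}
  one_mem' := ⟨by rw [one_mul, mul_one], Or.inl (by group)⟩
  mul_mem' := by
    rintro y y' ⟨hy, h1⟩ ⟨hy', h2⟩
    refine ⟨by rw [mul_assoc, hy', ← mul_assoc, hy, mul_assoc], ?_⟩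
    have e : x * (y * y') * x⁻¹ = (x * y * x⁻¹) * (x * y' * x⁻¹) := by group
    rcases h1 with h1 | h1 <;> rcases h2 with h2 | h2
    · left; rw [e, h1, h2]
    · right; rw [e, h1, h2, mul_assoc]
    · right; rw [e, h1, h2, mul_assoc, ← hy', mul_assoc]
    · left; rw [e, h1, h2]
      calc y * z * (y' * z) = y * (z * y') * z := by group
        _ = y * y' * (z * z) := by rw [← hy']; group
        _ = y * y' := by rw [hz, mul_one]
  inv_mem' := by
    rintro y ⟨hy, h1⟩
    have hzi : z⁻¹ = z := inv_eq_of_mul_eq_one_left hz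
    have hy' : y⁻¹ * z = z * y⁻¹ := by
      calc y⁻¹ * z = y⁻¹ * (z * y) * y⁻¹ := by group
        _ = y⁻¹ * (y * z) * y⁻¹ := by rw [hy]
        _ = z * y⁻¹ := by group
    refine ⟨hy', ?_⟩
    have e : x * y⁻¹ * x⁻¹ = (x * y * x⁻¹)⁻¹ := by group
    rcases h1 with h1 | h1
    · left; rw [e, h1]
    · right; rw [e, h1, mul_inv_rev, hzi, hy']

variable {Q A : Subgroup G} {z a : G} {t w r k n s : G}

theorem mem_Kz {x y : G} {hz : z * z = 1} {hx : x * z = z * x} : y ∈ Kz hz hx ↔
    y * z = z * y ∧ (x * y * x⁻¹ = y ∨ x * y * x⁻¹ = y * z) := Iff.rfl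

theorem checkA : ∀ c ∈ [32, 112, 176], ∀ d ∈ S15, (xs (fun i => gramQ i 0) d 8 = xs (fun i => gramQ i 0) c 8 ∧
    xs (fun i => gramQ i 1) d 8 = xs (fun i => gramQ i 1) c 8 ∧
    xs (fun i => gramQ i 2) d 8 = xs (fun i => gramQ i 2) c 8 ∧
    xs (fun i => gramQ i 3) d 8 = xs (fun i => gramQ i 3) c 8 ∧
    xs (fun i => gramQ i 4) d 8 = xs (fun i => gramQ i 4) c 8) → d = c := by decide +kernel

theorem checkB : ∀ d ∈ S15, (xs (fun i => gramQ i 0) d 8 = xs (fun i => gramQ i 0) 16 8 ∧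
    xs (fun i => gramQ i 1) d 8 = xs (fun i => gramQ i 1) 16 8 ∧
    xs (fun i => gramQ i 2) d 8 = xs (fun i => gramQ i 2) 16 8 ∧
    xs (fun i => gramQ i 3) d 8 = xs (fun i => gramQ i 3) 16 8) → d = 16 ∨ d = 17 := by decide +kernel

theorem checkW : (chk (wQ 6) ([7] ++ (wQ 4 ++ sw 112)) && (chk (wQ 7) ([7] ++ (wQ 4 ++ sw 176)) &&
    (chk (iw wQ 17 8) (wQ 0 ++ wQ 4) && chk ([4] ++ (iw wQ 17 8 ++ [4])) (wQ 4)))) = true := by
  decide +kernel

theorem f6_eq (R : RelsC t w r k n z s) : fQ t w r k n z s 6 =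
    fQ t w r k n z s 5 * (fQ t w r k n z s 4 * io (fQ t w r k n z s) 112 8) := by
  have hc := checkW
  simp only [Bool.and_eq_true] at hc
  have h1 := ev_of_chk R 1 hc.1
  rw [ev_append, ev_append, io_sw R (by decide)] at h1
  exact h1

theorem f7_eq (R : RelsC t w r k n z s) : fQ t w r k n z s 7 =
    fQ t w r k n z s 5 * (fQ t w r k n z s 4 * io (fQ t w r k n z s) 176 8) := by
  have hc := checkW
  simp only [Bool.and_eq_true] at hc
  have h1 := ev_of_chk R 1 hc.2.1
  rw [ev_append, ev_append, io_sw R (by decide)] at h1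
  exact h1

theorem io17_eq (R : RelsC t w r k n z s) : k * io (fQ t w r k n z s) 17 8 * k⁻¹ =
    fQ t w r k n z s 4 := by
  have hc := checkW
  simp only [Bool.and_eq_true] at hc
  have h1 := ev_of_chk R 1 hc.2.2.2
  rw [ev_append, ev_append, ev_iw, ev_cons, ev_nil, mul_one, ← mul_assoc] at h1
  have hk : k⁻¹ = k := inv_eq_of_mul_eq_one_left R.k2
  rw [hk]
  exact h1

/-- an element centralising `W₁` and fixing `e` modulo `z` lies in `Q` -/
theorem mem_Q_A [Finite Q] {p : Pair Q z A a} (D : Loc p t w r k n s) {x : G} (hx : x * z = z * x)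
    (hf : ∀ i < 4, x * fQ t w r k n z s i = fQ t w r k n z s i * x)
    (h4 : x * fQ t w r k n z s 4 * x⁻¹ = fQ t w r k n z s 4 ∨
      x * fQ t w r k n z s 4 * x⁻¹ = fQ t w r k n z s 4 * z) : x ∈ Q := by
  have hf' : ∀ i < 5, x * fQ t w r k n z s i * x⁻¹ = fQ t w r k n z s i ∨
      x * fQ t w r k n z s i * x⁻¹ = fQ t w r k n z s i * z := by
    intro i hi
    by_cases hi4 : i < 4
    · left; rw [hf i hi4]; group
    · have : i = 4 := by omega
      rw [this]; exact h4
  have hK : ∀ i < 5, fQ t w r k n z s i ∈ Kz p.lz.z_sq hx := fun i hi =>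
    ⟨p.lz.comm_z _ (f_mem D i (by omega)), hf' i hi⟩
  have hS : ∀ c ∈ [32, 112, 176], io (fQ t w r k n z s) c 8 ∈ Kz p.lz.z_sq hx := by
    intro c hc
    have hcS : c ∈ S15 := by
      fin_cases hc <;> decide
    obtain ⟨d, hd, h1⟩ := conj_S15 D hx hcS
    have h2 : d = c := checkA c hc d hd ⟨bit_conj D hx h1 (by norm_num) (hf' 0 (by norm_num)),
      bit_conj D hx h1 (by norm_num) (hf' 1 (by norm_num)),
      bit_conj D hx h1 (by norm_num) (hf' 2 (by norm_num)),
      bit_conj D hx h1 (by norm_num) (hf' 3 (by norm_num)),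
      bit_conj D hx h1 (by norm_num) (hf' 4 (by norm_num))⟩
    rw [h2] at h1
    exact ⟨p.lz.comm_z _ (io_mem (f_mem D) c), h1⟩
  have h5 : fQ t w r k n z s 5 ∈ Kz p.lz.z_sq hx := by
    rw [fQ5]
    have := hS 32 (by decide)
    rwa [io32 D.rels] at this
  have h6 : fQ t w r k n z s 6 ∈ Kz p.lz.z_sq hx := by
    rw [f6_eq D.rels]
    exact mul_mem h5 (mul_mem (hK 4 (by norm_num)) (hS 112 (by decide)))
  have h7 : fQ t w r k n z s 7 ∈ Kz p.lz.z_sq hx := by
    rw [f7_eq D.rels]
    exact mul_mem h5 (mul_mem (hK 4 (by norm_num)) (hS 176 (by decide)))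
  refine mem_Q_of_triv D hx fun i hi => ?_
  by_cases hi5 : i < 5
  · exact hf' i hi5
  · have : i = 5 ∨ i = 6 ∨ i = 7 := by omega
    rcases this with rfl | rfl | rfl
    · exact h5.2
    · exact h6.2
    · exact h7.2

/-! ### the group `E` -/

theorem E_check : (List.range 6).all (fun i => chk (wE i ++ wE i) [] &&
    (List.range 6).all fun j => chk (wE i ++ wE j) (wE j ++ wE i)) = true := by decide +kernel

theorem E_sq (R : RelsC t w r k n z s) : ∀ i < 6, fE t w r k n z s i * fE t w r k n z s i = 1 := by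
  intro i hi
  have h1 := allB E_check i hi
  rw [Bool.and_eq_true] at h1
  have h2 := ev_of_chk R 1 h1.1
  rw [ev_append, ev_nil] at h2
  exact h2

theorem E_comm (R : RelsC t w r k n z s) : ∀ i < 6, ∀ j < 6,
    fE t w r k n z s i * fE t w r k n z s j = fE t w r k n z s j * fE t w r k n z s i := by
  intro i hi j hj
  have h1 := allB E_check i hi
  rw [Bool.and_eq_true] at h1
  have h2 := ev_of_chk R 1 (allB h1.2 j hj)
  rw [ev_append, ev_append] at h2
  exact h2

theorem fE0 : fE t w r k n z s 0 = z := by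
  show ev (lt t w r k n z s 1) [6] = _
  simp [ev, lt]
theorem fE1 : fE t w r k n z s 1 = fQ t w r k n z s 0 := rfl
theorem fE2 : fE t w r k n z s 2 = fQ t w r k n z s 1 := rfl
theorem fE3 : fE t w r k n z s 3 = fQ t w r k n z s 2 := rfl
theorem fE4 : fE t w r k n z s 4 = fQ t w r k n z s 3 := rfl
theorem fE5 : fE t w r k n z s 5 = k := by
  show ev (lt t w r k n z s 1) [4] = _
  simp [ev, lt]

/-- `E` as a subgroup -/
def EE (R : RelsC t w r k n z s) : Subgroup G where
  carrier := {x | ∃ c < 64, x = io (fE t w r k n z s) c 6}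
  one_mem' := ⟨0, by norm_num, (io_code_zero _ _).symm⟩
  mul_mem' := by
    rintro _ _ ⟨c, hc, rfl⟩ ⟨d, hd, rfl⟩
    exact ⟨c ^^^ d, Nat.xor_lt_two_pow (n := 6) hc hd, (io_xor (E_sq R) (E_comm R) c d).symm⟩
  inv_mem' := by
    rintro _ ⟨c, hc, rfl⟩
    exact ⟨c, hc, inv_eq_of_mul_eq_one_left (io_sq (E_sq R) (E_comm R) c)⟩

theorem mem_EE (R : RelsC t w r k n z s) {x : G} : x ∈ EE R ↔ ∃ c < 64, x = io (fE t w r k n z s) c 6 :=
  Iff.rfl

theorem unitE_check : (List.range 6).all (fun i => chk (wE i) (iw wE (Nat.pow 2 i) 6)) = true := by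
  decide +kernel

theorem fE_eq_io (R : RelsC t w r k n z s) {i : ℕ} (hi : i < 6) :
    fE t w r k n z s i = io (fE t w r k n z s) (2 ^ i) 6 := by
  have h1 := ev_of_chk R 1 (allB unitE_check i hi)
  rw [ev_iw] at h1
  exact h1

theorem fE_mem (R : RelsC t w r k n z s) {i : ℕ} (hi : i < 6) : fE t w r k n z s i ∈ EE R :=
  ⟨2 ^ i, (by interval_cases i <;> norm_num), fE_eq_io R hi⟩

theorem perp_check : (List.range 256).all (fun c => (xs (fun i => gramQ i 0) c 8 ||
    (xs (fun i => gramQ i 1) c 8 || (xs (fun i => gramQ i 2) c 8 || xs (fun i => gramQ i 3) c 8))) ||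
    (!bt c 4 && (!bt c 5 && (!bt c 6 && !bt c 7)))) = true := by decide +kernel

/-- `C_Q(W₁) = W₁` -/
theorem mem_EE_of_Q [Finite Q] {p : Pair Q z A a} (D : Loc p t w r k n s) {x : G} (hxQ : x ∈ Q)
    (hf : ∀ i < 4, x * fQ t w r k n z s i = fQ t w r k n z s i * x) : x ∈ EE D.rels := by
  obtain ⟨c, hc256, hcx⟩ := code_Q p.lz D.rels D.card D.s_mem hxQ
  have key : ∀ j < 4, xs (fun i => gramQ i j) c 8 = false := fun j hj =>
    bit_of_comm p.lz D.rels D.s_mem hcx (by omega) (by rw [cb_false, mul_one]; exact hf j hj)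
  have h5 := allB perp_check c hc256
  rw [key 0 (by norm_num), key 1 (by norm_num), key 2 (by norm_num), key 3 (by norm_num)] at h5
  simp only [Bool.or_false, Bool.false_or, Bool.and_eq_true, Bool.not_eq_true'] at h5
  obtain ⟨h54, h55, h56, h57⟩ := h5
  have h6 : io (fQ t w r k n z s) c 8 ∈ EE D.rels := by
    apply io_mem_of_bits
    intro i hi hb
    interval_cases i
    · exact fE_mem D.rels (i := 1) (by norm_num)
    · exact fE_mem D.rels (i := 2) (by norm_num)
    · exact fE_mem D.rels (i := 3) (by norm_num)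
    · exact fE_mem D.rels (i := 4) (by norm_num)
    · rw [h54] at hb; exact absurd hb (by simp)
    · rw [h55] at hb; exact absurd hb (by simp)
    · rw [h56] at hb; exact absurd hb (by simp)
    · rw [h57] at hb; exact absurd hb (by simp)
  rcases hcx with h7 | h7
  · rw [h7]; exact h6
  · rw [h7]
    refine mul_mem h6 ?_
    have := fE_mem D.rels (i := 0) (by norm_num)
    rwa [fE0] at this

/-- **`C_G(W₁) = E`.** -/
theorem mem_EE_of_comm [Finite Q] {p : Pair Q z A a} (D : Loc p t w r k n s) {x : G}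
    (hx : ∀ i < 5, x * fE t w r k n z s i = fE t w r k n z s i * x) : x ∈ EE D.rels := by
  have hz : x * z = z * x := by
    have := hx 0 (by norm_num)
    rwa [fE0] at this
  have hf : ∀ i < 4, x * fQ t w r k n z s i = fQ t w r k n z s i * x := by
    intro i hi
    have h1 := hx (i + 1) (by omega)
    interval_cases i <;> exact h1
  have hk : k ∈ EE D.rels := by
    have := fE_mem D.rels (i := 5) (by norm_num)
    rwa [fE5] at this
  obtain ⟨d, hd, h1⟩ := conj_S15 D hz (c := 16) (by decide)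
  have hf' : ∀ i < 4, x * fQ t w r k n z s i * x⁻¹ = fQ t w r k n z s i ∨
      x * fQ t w r k n z s i * x⁻¹ = fQ t w r k n z s i * z := by
    intro i hi
    left; rw [hf i hi]; group
  have h2 := checkB d hd ⟨bit_conj D hz h1 (by norm_num) (hf' 0 (by norm_num)),
      bit_conj D hz h1 (by norm_num) (hf' 1 (by norm_num)),
      bit_conj D hz h1 (by norm_num) (hf' 2 (by norm_num)),
      bit_conj D hz h1 (by norm_num) (hf' 3 (by norm_num))⟩
  have h16 : io (fQ t w r k n z s) 16 8 = fQ t w r k n z s 4 :=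
    (f_eq_io D.rels (i := 4) (by norm_num)).symm
  rcases h2 with rfl | rfl
  · rw [h16] at h1
    exact mem_EE_of_Q D (mem_Q_A D hz hf h1) hf
  · have hkc : ∀ i < 4, k * fQ t w r k n z s i = fQ t w r k n z s i * k := by
      intro i hi
      have h3 := E_comm D.rels 5 (by norm_num) (i + 1) (by omega)
      rw [fE5] at h3
      interval_cases i <;> exact h3
    have hkz : k * z = z * k := comm_k D.rels
    have hkxz : (k * x) * z = z * (k * x) := by
      rw [mul_assoc, hz, ← mul_assoc, hkz, mul_assoc]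
    have hkf : ∀ i < 4, (k * x) * fQ t w r k n z s i = fQ t w r k n z s i * (k * x) := by
      intro i hi
      rw [mul_assoc, hf i hi, ← mul_assoc, hkc i hi, mul_assoc]
    have h4 : (k * x) * fQ t w r k n z s 4 * (k * x)⁻¹ = fQ t w r k n z s 4 ∨
        (k * x) * fQ t w r k n z s 4 * (k * x)⁻¹ = fQ t w r k n z s 4 * z := by
      have e : (k * x) * fQ t w r k n z s 4 * (k * x)⁻¹ = k * (x * fQ t w r k n z s 4 * x⁻¹) * k⁻¹ := by
        group
      rw [h16] at h1
      rcases h1 with h1 | h1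
      · left; rw [e, h1, io17_eq D.rels]
      · right; rw [e, h1]
        calc k * (io (fQ t w r k n z s) 17 8 * z) * k⁻¹ =
            (k * io (fQ t w r k n z s) 17 8 * k⁻¹) * (k * z * k⁻¹) := by group
          _ = _ := by rw [io17_eq D.rels, hkz]; group
    have h5 := mul_mem (inv_mem hk) (mem_EE_of_Q D (mem_Q_A D hkxz hkf h4) hkf)
    rwa [inv_mul_cancel_left] at h5

theorem check6 : ∀ c ∈ [2, 32], ∀ d ∈ S15, (xs (fun i => gramQ i 0) d 8 = xs (fun i => gramQ i 0) c 8 ∧
    xs (fun i => gramQ i 2) d 8 = xs (fun i => gramQ i 2) c 8 ∧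
    xs (fun i => gramQ i 3) d 8 = xs (fun i => gramQ i 3) c 8 ∧
    xs (fun i => gramQ i 4) d 8 = xs (fun i => gramQ i 4) c 8 ∧
    xs (fun i => gramQ i 6) d 8 = xs (fun i => gramQ i 6) c 8 ∧
    xs (fun i => gramQ i 7) d 8 = xs (fun i => gramQ i 7) c 8) → d = c := by decide +kernel

/-- an element commuting with `z`, `a, ν, ν', e, u, u'` lies in `⟨z, a, e⟩` -/
theorem six [Finite Q] {p : Pair Q z A a} (D : Loc p t w r k n s) {x : G} (hx : x * z = z * x)
    (hf : ∀ i ∈ [0, 2, 3, 4, 6, 7], x * fQ t w r k n z s i = fQ t w r k n z s i * x) :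
    ∃ i j l : Bool, x = cb i z * (cb j (fQ t w r k n z s 0) * cb l (fQ t w r k n z s 4)) := by
  have hf' : ∀ i ∈ [0, 2, 3, 4, 6, 7], x * fQ t w r k n z s i * x⁻¹ = fQ t w r k n z s i ∨
      x * fQ t w r k n z s i * x⁻¹ = fQ t w r k n z s i * z := by
    intro i hi
    left; rw [hf i hi]; group
  have hS : ∀ c ∈ [2, 32], x * io (fQ t w r k n z s) c 8 * x⁻¹ = io (fQ t w r k n z s) c 8 ∨
      x * io (fQ t w r k n z s) c 8 * x⁻¹ = io (fQ t w r k n z s) c 8 * z := by
    intro c hc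
    have hcS : c ∈ S15 := by
      fin_cases hc <;> decide
    obtain ⟨d, hd, h1⟩ := conj_S15 D hx hcS
    have h2 : d = c := check6 c hc d hd ⟨bit_conj D hx h1 (by norm_num) (hf' 0 (by decide)),
      bit_conj D hx h1 (by norm_num) (hf' 2 (by decide)),
      bit_conj D hx h1 (by norm_num) (hf' 3 (by decide)),
      bit_conj D hx h1 (by norm_num) (hf' 4 (by decide)),
      bit_conj D hx h1 (by norm_num) (hf' 6 (by decide)),
      bit_conj D hx h1 (by norm_num) (hf' 7 (by decide))⟩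
    rw [h2] at h1
    exact h1
  have hQ : x ∈ Q := by
    refine mem_Q_of_triv D hx fun i hi => ?_
    interval_cases i
    · exact hf' 0 (by decide)
    · rw [f_eq_io D.rels (i := 1) (by norm_num)]; exact hS 2 (by decide)
    · exact hf' 2 (by decide)
    · exact hf' 3 (by decide)
    · exact hf' 4 (by decide)
    · rw [f_eq_io D.rels (i := 5) (by norm_num)]; exact hS 32 (by decide)
    · exact hf' 6 (by decide)
    · exact hf' 7 (by decide)
  obtain ⟨c, hc256, hcx⟩ := code_Q p.lz D.rels D.card D.s_mem hQ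
  have key : ∀ j ∈ [0, 2, 3, 4, 6, 7], xs (fun i => gramQ i j) c 8 = false := fun j hj =>
    bit_of_comm p.lz D.rels D.s_mem hcx (by fin_cases hj <;> norm_num)
      (by rw [cb_false, mul_one]; exact hf j hj)
  have hchk : ∀ c < 256, (xs (fun i => gramQ i 0) c 8 || (xs (fun i => gramQ i 2) c 8 ||
      (xs (fun i => gramQ i 3) c 8 || (xs (fun i => gramQ i 4) c 8 || (xs (fun i => gramQ i 6) c 8 ||
      xs (fun i => gramQ i 7) c 8)))) || (Nat.beq c 0 || (Nat.beq c 1 || (Nat.beq c 16 || Nat.beq c 17))))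
      = true := by
    have : (List.range 256).all (fun c => (xs (fun i => gramQ i 0) c 8 || (xs (fun i => gramQ i 2) c 8 ||
      (xs (fun i => gramQ i 3) c 8 || (xs (fun i => gramQ i 4) c 8 || (xs (fun i => gramQ i 6) c 8 ||
      xs (fun i => gramQ i 7) c 8)))) || (Nat.beq c 0 || (Nat.beq c 1 || (Nat.beq c 16 || Nat.beq c 17)))))
      = true := by decide +kernel
    exact fun c hc => allB this c hc
  have h5 := hchk c hc256
  rw [key 0 (by decide), key 2 (by decide), key 3 (by decide), key 4 (by decide), key 6 (by decide),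
    key 7 (by decide)] at h5
  simp only [Bool.or_false, Bool.false_or, Bool.or_eq_true] at h5
  have hc4 : ∃ j l : Bool, io (fQ t w r k n z s) c 8 = cb j (fQ t w r k n z s 0) *
      cb l (fQ t w r k n z s 4) := by
    rcases h5 with h | h | h | h <;> rw [Nat.eq_of_beq_eq_true h]
    · refine ⟨false, false, ?_⟩
      show 1 * 1 * 1 * 1 * 1 * 1 * 1 * 1 * 1 = 1 * (1 : G)
      simp
    · refine ⟨true, false, ?_⟩
      show 1 * fQ t w r k n z s 0 * 1 * 1 * 1 * 1 * 1 * 1 * 1 = fQ t w r k n z s 0 * 1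
      simp
    · refine ⟨false, true, ?_⟩
      show 1 * 1 * 1 * 1 * 1 * fQ t w r k n z s 4 * 1 * 1 * 1 = 1 * fQ t w r k n z s 4
      simp
    · refine ⟨true, true, ?_⟩
      show 1 * fQ t w r k n z s 0 * 1 * 1 * 1 * fQ t w r k n z s 4 * 1 * 1 * 1 =
        fQ t w r k n z s 0 * fQ t w r k n z s 4
      simp
  obtain ⟨j, l, h6⟩ := hc4
  have hz := p.lz.comm_z _ (io_mem (f_mem D) c)
  rcases hcx with h7 | h7
  · exact ⟨false, j, l, by rw [h7, h6, cb_false, one_mul]⟩
  · exact ⟨true, j, l, by rw [h7, hz, h6, cb_true]⟩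

end

end Cfsg.Agent.TypeOMinusEight.EGrp
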