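import Cfsg.Agent.TypeOMinusEight.EGrp

/-!
Replacing `(k, n)` by `(k z, n z)` (helper46).
-/

set_option autoImplicit false
set_option maxRecDepth 100000

namespace Cfsg.Agent.TypeOMinusEight.Flip

open Cfsg.Agent.SporadicRecognition.CosetCert Cfsg.Agent.TypeO8Minus.Rel
  Cfsg.Agent.Co2Type.Quad Cfsg.Agent.LargeExtra.Base Cfsg.Agent.TypeOMinusEight.Words
  Cfsg.Agent.TypeOMinusEight.Code Cfsg.Agent.TypeOMinusEight.Data
  Cfsg.Agent.TypeOMinusEight.Basic

section

variable {G : Type*} [Group G] {Q A : Subgroup G} {z a : G} {t w r k n s : G}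

theorem rels_flip (R : RelsC t w r k n z s) : RelsC t w r (k * z) (n * z) z s where
  t2 := R.t2
  w2 := R.w2
  k2 := by
    simpa [ev, lt, pow_succ, mul_assoc] using
      ev_of_chk R 1 (u := [4,6,4,6]) (v := []) (by decide +kernel)
  n2 := by
    simpa [ev, lt, pow_succ, mul_assoc] using
      ev_of_chk R 1 (u := [5,6,5,6]) (v := []) (by decide +kernel)
  z2 := R.z2
  s2 := R.s2
  r3 := R.r3
  wr := R.wr
  wt := R.wt
  tr := R.tr
  trtr := R.trtr
  kn := by
    simpa [ev, lt, pow_succ, mul_assoc] using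
      ev_of_chk R 1 (u := [4,6,5,6,4,6,5,6,4,6,5,6]) (v := []) (by decide +kernel)
  kt := by
    simpa [ev, lt, pow_succ, mul_assoc] using
      ev_of_chk R 1 (u := [4,6,0,4,6,0]) (v := []) (by decide +kernel)
  kw := by
    simpa [ev, lt, pow_succ, mul_assoc] using
      ev_of_chk R 1 (u := [4,6,1,4,6,1]) (v := []) (by decide +kernel)
  kr := by
    simpa [ev, lt, pow_succ, mul_assoc] using
      ev_of_chk R 1 (u := [4,6,3,4,6,2]) (v := []) (by decide +kernel)
  nt := by
    simpa [ev, lt, pow_succ, mul_assoc] using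
      ev_of_chk R 1 (u := [5,6,0,5,6,0]) (v := []) (by decide +kernel)
  nw := by
    simpa [ev, lt, pow_succ, mul_assoc] using
      ev_of_chk R 1 (u := [5,6,1,5,6,1]) (v := []) (by decide +kernel)
  nr := by
    simpa [ev, lt, pow_succ, mul_assoc] using
      ev_of_chk R 1 (u := [5,6,3,5,6,2]) (v := []) (by decide +kernel)
  zt := R.zt
  zw := R.zw
  zr := R.zr
  zk := by
    simpa [ev, lt, pow_succ, mul_assoc] using
      ev_of_chk R 1 (u := [6,4,6,6,4,6]) (v := []) (by decide +kernel)
  zn := by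
    simpa [ev, lt, pow_succ, mul_assoc] using
      ev_of_chk R 1 (u := [6,5,6,6,5,6]) (v := []) (by decide +kernel)
  zs := R.zs
  sr := R.sr
  ks := by
    simpa [ev, lt, pow_succ, mul_assoc] using
      ev_of_chk R 1 (u := [4,6,7,4,6,7,5,6,7,5,6]) (v := []) (by decide +kernel)
  swt := R.swt
  sw := R.sw
  sn := by
    simpa [ev, lt, pow_succ, mul_assoc] using
      ev_of_chk R 1 (u := [7,5,6,7,5,6,7,5,6,7,5,6]) (v := []) (by decide +kernel)
  five := R.five
  zz := by
    simpa [ev, lt, pow_succ, mul_assoc] using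
      ev_of_chk R 1 (u := [7,5,6,1,7,1,5,6,7,5,6,1,7,1,5,6]) (v := [6]) (by decide +kernel)

/-- substitution of letters -/
def sub (x : ℕ) : List ℕ := bif Nat.beq x 4 then [4,6] else bif Nat.beq x 5 then [5,6] else [x]

theorem ev_flip (u : List ℕ) : ev (lt t w r (k * z) (n * z) z s 1) u =
    ev (lt t w r k n z s 1) (u.flatMap sub) := by
  induction u with
  | nil => rfl
  | cons x u ih =>
    rw [ev_cons, List.flatMap_cons, ev_append, ih]
    congr 1
    rcases x with _ | _ | _ | _ | _ | _ | _ | _ | x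
    · show t = ev (lt t w r k n z s 1) [0]
      simp [ev, lt]
    · show w = ev (lt t w r k n z s 1) [1]
      simp [ev, lt]
    · show r = ev (lt t w r k n z s 1) [2]
      simp [ev, lt]
    · show r⁻¹ = ev (lt t w r k n z s 1) [3]
      simp [ev, lt]
    · show k * z = ev (lt t w r k n z s 1) [4, 6]
      simp [ev, lt]
    · show n * z = ev (lt t w r k n z s 1) [5, 6]
      simp [ev, lt]
    · show z = ev (lt t w r k n z s 1) [6]
      simp [ev, lt]
    · show s = ev (lt t w r k n z s 1) [7]
      simp [ev, lt]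
    · show (1 : G) = ev (lt t w r k n z s 1) [x + 8]
      simp [ev, lt]

theorem flip_check : (List.range 8).all (fun i => chk ((wQ i).flatMap sub) (wQ i)) = true := by
  decide +kernel

theorem fQ_flip (R : RelsC t w r k n z s) {i : ℕ} (hi : i < 8) :
    fQ t w r (k * z) (n * z) z s i = fQ t w r k n z s i := by
  rw [fQ, ev_flip, ev_of_chk R 1 (allB flip_check i hi)]
  rfl

theorem loc_flip {p : Pair Q z A a} (D : Loc p t w r k n s) : Loc p t w r (k * z) (n * z) s where
  rels := rels_flip D.rels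
  card := D.card
  s_mem := D.s_mem
  a_eq := by
    have h1 := D.a_eq
    rw [← fQ0 (t := t) (r := r) (k := k) (z := z), ← fQ_flip D.rels (by norm_num), fQ0] at h1
    exact h1
  e_mem := D.e_mem
  d_mem := by
    have h1 := D.d_mem
    rw [← fQ2 (r := r) (k := k) (z := z), ← fQ_flip D.rels (by norm_num), fQ2] at h1
    exact h1
  kA := A.mul_mem D.kA p.z_mem
  tA := D.tA
  zQ := by
    intro x hx hzx
    have h1 := D.zQ x hx hzx
    have h2 : ∀ c, io (fQ t w r (k * z) (n * z) z s) c 8 = io (fQ t w r k n z s) c 8 := fun c =>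
      io_congr (fun i hi => fQ_flip D.rels hi) c
    simpa only [h2] using h1

end

end Cfsg.Agent.TypeOMinusEight.Flip
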