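import Cfsg.Agent.TypeOMinusEight.InvolF

/-!
Fusion of `z` in `G₀ = ⟨t, w, r, k, n, z, s, m⟩` (helper46).
-/

set_option autoImplicit false
set_option maxRecDepth 100000

namespace Cfsg.Agent.TypeOMinusEight.FusZ

open Cfsg.Agent.SporadicRecognition.CosetCert Cfsg.Agent.SporadicRecognition.CosetChain
  Cfsg.Agent.TypeO8Minus Cfsg.Agent.TypeO8Minus.Rel
  Cfsg.Agent.Co2Type.Quad Cfsg.Agent.LargeExtra.Base Cfsg.Agent.TypeOMinusEight.Words
  Cfsg.Agent.TypeOMinusEight.Code Cfsg.Agent.TypeOMinusEight.Data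
  Cfsg.Agent.TypeOMinusEight.Basic Cfsg.Agent.TypeOMinusEight.Cent
  Cfsg.Agent.TypeOMinusEight.EGrp Cfsg.Agent.TypeOMinusEight.VCode Cfsg.Agent.TypeOMinusEight.Invol
  Cfsg.Agent.TypeOMinusEight.Swap Cfsg.Agent.TypeOMinusEight.InvolF

section

variable {G : Type*} [Group G] {Q A : Subgroup G} {z a : G} {t w r k n s m : G} {p : Pair Q z A a}

/-- `G₀` -/
abbrev G0 (t w r k n z s m : G) : Subgroup G := Subgroup.closure (gens t w r k n z s m)

theorem C0_le_G0 : C0 t w r k n z s ≤ G0 t w r k n z s m := by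
  apply Subgroup.closure_mono
  intro x hx
  simp only [gens, Set.mem_insert_iff, Set.mem_singleton_iff] at hx ⊢
  tauto

theorem m_mem : m ∈ G0 t w r k n z s m := Subgroup.subset_closure (by simp [gens])

theorem z_mem : z ∈ G0 t w r k n z s m := Subgroup.subset_closure (by simp [gens])

theorem closure8 (t w r k n z s m : G) : Subgroup.closure (lt t w r k n z s m '' {x | x < 8}) =
    C0 t w r k n z s := by
  apply le_antisymm
  · rw [Subgroup.closure_le]
    rintro _ ⟨x, hx, rfl⟩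
    have hx' : x < 8 := hx
    have : lt t w r k n z s m x = lt t w r k n z s 1 x := by interval_cases x <;> rfl
    rw [this]
    exact lt_mem_C0 hx'
  · rw [Subgroup.closure_le]
    have H : ∀ x, x < 8 → lt t w r k n z s m x ∈
        Subgroup.closure (lt t w r k n z s m '' {x | x < 8}) :=
      fun x hx => Subgroup.subset_closure ⟨x, hx, rfl⟩
    intro y hy
    simp only [Set.mem_insert_iff, Set.mem_singleton_iff] at hy
    rcases hy with rfl | rfl | rfl | rfl | rfl | rfl | rfl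
    · exact H 0 (by norm_num)
    · exact H 1 (by norm_num)
    · exact H 2 (by norm_num)
    · exact H 4 (by norm_num)
    · exact H 5 (by norm_num)
    · exact H 6 (by norm_num)
    · exact H 7 (by norm_num)

theorem card_G0 (R : Rels t w r k n z s m) (hz : z ≠ 1) :
    Nat.card (G0 t w r k n z s m) = 197406720 := by
  have hne : G0 t w r k n z s m ≠ ⊥ := by
    intro h
    apply hz
    have : z ∈ G0 t w r k n z s m := z_mem
    rwa [h, Subgroup.mem_bot] at this
  obtain ⟨e, -⟩ := Ident.exists_equiv R hne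
  rw [Nat.card_congr e.toEquiv, Ident.card_E]

theorem index_C0 (R : Rels t w r k n z s m) (hz : z ≠ 1) :
    ((C0 t w r k n z s).subgroupOf (G0 t w r k n z s m)).index = 1071 := by
  have hfin : Finite (Subgroup.closure (lt t w r k n z s m '' {x | x < 8})) := (Rel.card_b R).1
  have h1 := card_step ELaData.C (lt t w r k n z s m) ELaData.rels ELaData.subw
    (Subgroup.closure (lt t w r k n z s m '' {x | x < 8})) (Rel.inv_a R)
    (fun x hx _ => Rel.rels_ev R x hx)
    (fun x hx _ => sub_letters _ 8 ELaData.subw (by decide) x hx) (by decide +kernel)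
    ELaAll.part hfin
  have h2 : Nat.card (Subgroup.closure (lt t w r k n z s m '' {x | x < ELaData.C.k})) = 197406720 := by
    have : Subgroup.closure (lt t w r k n z s m '' {x | x < ELaData.C.k}) = G0 t w r k n z s m :=
      Rel.closure_eq _ _ _ _ _ _ _ _
    rw [this, card_G0 R hz]
  have h3 := h1.2
  rw [h2, closure8] at h3
  have h4 := (Rel.card_b R).2
  rw [closure8] at h4
  have h5 := ((C0 t w r k n z s).subgroupOf (G0 t w r k n z s m)).card_mul_index
  rw [Nat.card_congr (Subgroup.subgroupOfEquivOfLe (C0_le_G0 (m := m))).toEquiv] at h5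
  rw [card_G0 R hz] at h5
  have h6 : 512 * (6 * 60) ≤ Nat.card (C0 t w r k n z s) := by omega
  have h7 : Nat.card (C0 t w r k n z s) = 184320 := by omega
  rw [h7] at h5
  omega

/-- an involution of `G₀` has a `G₀`-conjugate in `C₀` -/
theorem exists_conj_C0 (R : Rels t w r k n z s m) (hz : z ≠ 1) {y : G} (hy : y ∈ G0 t w r k n z s m)
    (hy2 : y * y = 1) : ∃ h ∈ G0 t w r k n z s m, h⁻¹ * y * h ∈ C0 t w r k n z s := by
  classical
  set K := G0 t w r k n z s m with hK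
  let N : Subgroup K := (C0 t w r k n z s).subgroupOf K
  have hidx : N.index = 1071 := index_C0 R hz
  have hfin : Finite (K ⧸ N) := Nat.finite_of_card_ne_zero (by
    show N.index ≠ 0
    rw [hidx]; norm_num)
  have hft : Fintype (K ⧸ N) := Fintype.ofFinite _
  let f : Function.End (K ⧸ N) := fun x => (⟨y, hy⟩ : K) • x
  have hf2 : f ^ 2 ^ 1 = 1 := by
    funext x
    rw [pow_one, pow_two]
    show (⟨y, hy⟩ : K) • (⟨y, hy⟩ : K) • x = x
    rw [← mul_smul]
    have : (⟨y, hy⟩ : K) * ⟨y, hy⟩ = 1 := Subtype.ext hy2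
    rw [this, one_smul]
  have h2 : Fact (Nat.Prime 2) := ⟨by norm_num⟩
  have hmod := Equiv.Perm.card_fixedPoints_modEq (p := 2) (n := 1) hf2
  have hcard : Fintype.card (K ⧸ N) = 1071 := by
    rw [← Nat.card_eq_fintype_card]; exact hidx
  rw [hcard] at hmod
  have hne : Fintype.card (Function.fixedPoints f) ≠ 0 := by
    intro h0
    rw [h0] at hmod
    exact absurd hmod (by decide)
  obtain ⟨⟨x, hx⟩⟩ := Fintype.card_pos_iff.1 (Nat.pos_of_ne_zero hne)
  obtain ⟨h, rfl⟩ := QuotientGroup.mk_surjective x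
  have hx' : (QuotientGroup.mk ((⟨y, hy⟩ : K) * h) : K ⧸ N) = QuotientGroup.mk h := hx
  refine ⟨h, h.2, ?_⟩
  have h3 := QuotientGroup.eq.1 hx'.symm
  have h4 : (h : G)⁻¹ * (y * h) ∈ C0 t w r k n z s := h3
  rwa [← mul_assoc] at h4

variable [Finite G]

/-- `m` swaps `Q` and `A` -/
theorem map_m (p : Pair Q z A a) (hm : m * z * m = a) (mm : m * m = 1) :
    (∀ x ∈ Q, m * x * m ∈ A) ∧ (∀ x ∈ A, m * x * m ∈ Q) := by
  obtain ⟨g, hg, -, hA, -⟩ := p.isConj
  have mi : m⁻¹ = m := inv_eq_of_mul_eq_one_left mm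
  have h1 : Q.map (MulAut.conj m).toMonoidHom = A := by
    rw [hA]
    apply map_eq_of_conj p.lz
    rw [hg, mi, hm]
  constructor
  · intro x hx
    rw [← h1]
    exact ⟨x, hx, by show m * x * m⁻¹ = _; rw [mi]⟩
  · intro x hx
    rw [← h1] at hx
    obtain ⟨y, hy, rfl⟩ := hx
    have : m * ((MulAut.conj m).toMonoidHom y) * m = y := by
      show m * (m * y * m⁻¹) * m = y
      rw [mi]
      calc m * (m * y * m) * m = (m * m) * y * (m * m) := by group
        _ = y := by rw [mm, one_mul, mul_one]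
    rw [this]; exact hy

/-- conjugates of `z` in `Q` -/
theorem fus_Q (D : Loc p t w r k n s) (R : Rels t w r k n z s m) (hm : m * z * m = a) {x : G} (hx : x ∈ Q)
    (hzx : IsConj z x) : ∃ h ∈ G0 t w r k n z s m, x = h * z * h⁻¹ := by
  have mi : m⁻¹ = m := inv_eq_of_mul_eq_one_left R.m2
  have key : ∀ c ∈ S15, ∃ h ∈ G0 t w r k n z s m, io (fQ t w r k n z s) c 8 = h * z * h⁻¹ := by
    intro c hc
    obtain ⟨g, hg, h1⟩ := exists_conj_a D hc
    refine ⟨g * m, Subgroup.mul_mem _ (C0_le_G0 (N0_le hg)) m_mem, ?_⟩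
    rw [← h1, ← hm, mul_inv_rev, mi]; group
  rcases D.zQ x hx hzx with h | ⟨c, hc, h | h⟩
  · exact ⟨1, Subgroup.one_mem _, by rw [h]; group⟩
  · rw [h]; exact key c hc
  · obtain ⟨g, hg, h1⟩ := key c hc
    have hQ : io (fQ t w r k n z s) c 8 ∈ Q := io_mem (f_mem D) c
    obtain ⟨q, hq, h2⟩ := exists_not_comm p.lz hQ (by
      rw [h1]
      intro h3
      apply p.lz.z_ne
      calc z = g⁻¹ * (g * z * g⁻¹) * g := by group
        _ = 1 := by rw [h3]; group) (io_ne_z D hc)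
    refine ⟨q * g, Subgroup.mul_mem _ (C0_le_G0 (Q_le_C0 D hq)) hg, ?_⟩
    rw [h]
    have hzq : z * q⁻¹ = q⁻¹ * z := (p.lz.comm_z _ (Q.inv_mem hq)).symm
    calc io (fQ t w r k n z s) c 8 * z = io (fQ t w r k n z s) c 8 * q * (q⁻¹ * z) := by group
      _ = (io (fQ t w r k n z s) c 8 * q * z) * q⁻¹ := by rw [← hzq]; group
      _ = q * io (fQ t w r k n z s) c 8 * q⁻¹ := by rw [← h2]
      _ = q * g * z * (q * g)⁻¹ := by rw [h1]; group

/-- conjugates of `z` commuting with `z` -/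
theorem fus_C (D : Loc p t w r k n s) (R : Rels t w r k n z s m) (hm : m * z * m = a)
    (hC : ∀ c, c * z = z * c → c ∈ C0 t w r k n z s) {x : G} (hxz : x * z = z * x)
    (hzx : IsConj z x) : ∃ h ∈ G0 t w r k n z s m, x = h * z * h⁻¹ := by
  have mi : m⁻¹ = m := inv_eq_of_mul_eq_one_left R.m2
  have hx2 : x * x = 1 := by
    obtain ⟨c, hc⟩ := isConj_iff.1 hzx
    rw [← hc, show c * z * c⁻¹ * (c * z * c⁻¹) = c * (z * z) * c⁻¹ by group, p.lz.z_sq]; group
  rcases invol D (hC x hxz) hx2 with h | ⟨g, hg, h⟩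
  · exact fus_Q D R hm h hzx
  · have h1 := (map_m p hm R.m2).2 _ h
    have h2 : IsConj z (m * (g⁻¹ * x * g) * m) := by
      refine hzx.trans (isConj_iff.2 ⟨m * g⁻¹, ?_⟩)
      rw [mul_inv_rev, inv_inv, mi]; group
    obtain ⟨h', hh', h3⟩ := fus_Q D R hm h1 h2
    refine ⟨g * m * h', Subgroup.mul_mem _ (Subgroup.mul_mem _ (C0_le_G0 hg) m_mem) hh', ?_⟩
    calc x = g * (m * m) * (g⁻¹ * x * g) * (m * m) * g⁻¹ := by rw [R.m2]; group
      _ = g * m * (m * (g⁻¹ * x * g) * m) * m * g⁻¹ := by group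
      _ = g * m * h' * z * (g * m * h')⁻¹ := by rw [h3]; nth_rw 2 [← mi]; group

/-- **`G₀` controls the fusion of `z`.** -/
theorem hZ (D : Loc p t w r k n s) (R : Rels t w r k n z s m) (hm : m * z * m = a)
    (hC : ∀ c, c * z = z * c → c ∈ C0 t w r k n z s) (g : G) (hg : g * z * g⁻¹ ∈ G0 t w r k n z s m) :
    g ∈ G0 t w r k n z s m := by
  have hy2 : g * z * g⁻¹ * (g * z * g⁻¹) = 1 := by
    rw [show g * z * g⁻¹ * (g * z * g⁻¹) = g * (z * z) * g⁻¹ by group, p.lz.z_sq]; group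
  obtain ⟨h, hh, h1⟩ := exists_conj_C0 R p.lz.z_ne hg hy2
  have hR := R.toRelsC
  have h2 : h⁻¹ * (g * z * g⁻¹) * h * z = z * (h⁻¹ * (g * z * g⁻¹) * h) := by
    have hle : C0 t w r k n z s ≤ Subgroup.centralizer ({z} : Set G) := by
      rw [Subgroup.closure_le]
      intro y hy
      simp only [Set.mem_insert_iff, Set.mem_singleton_iff] at hy
      apply Subgroup.mem_centralizer_singleton_iff.2
      rcases hy with rfl | rfl | rfl | rfl | rfl | rfl | rfl
      · exact comm_t hR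
      · exact comm_w hR
      · exact comm_r hR
      · exact comm_k hR
      · exact comm_n hR
      · rfl
      · exact p.lz.comm_z _ D.s_mem
    exact Subgroup.mem_centralizer_singleton_iff.1 (hle h1)
  have h3 : IsConj z (h⁻¹ * (g * z * g⁻¹) * h) := isConj_iff.2 ⟨h⁻¹ * g, by group⟩
  obtain ⟨h', hh', h4⟩ := fus_C D R hm hC h2 h3
  have h5 : (h'⁻¹ * h⁻¹ * g) * z = z * (h'⁻¹ * h⁻¹ * g) := by
    have e : (h'⁻¹ * h⁻¹ * g) * z * (h'⁻¹ * h⁻¹ * g)⁻¹ = z := by
      calc _ = h'⁻¹ * (h⁻¹ * (g * z * g⁻¹) * h) * h' := by group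
        _ = z := by rw [h4]; group
    calc (h'⁻¹ * h⁻¹ * g) * z = ((h'⁻¹ * h⁻¹ * g) * z * (h'⁻¹ * h⁻¹ * g)⁻¹) * (h'⁻¹ * h⁻¹ * g) := by group
      _ = _ := by rw [e]
  have h6 := C0_le_G0 (m := m) (hC _ h5)
  have h7 := Subgroup.mul_mem _ (Subgroup.mul_mem _ hh hh') h6
  have e : h * h' * (h'⁻¹ * h⁻¹ * g) = g := by group
  rwa [e] at h7

end

end Cfsg.Agent.TypeOMinusEight.FusZ
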