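import Cfsg.Agent.TypeOMinusEight.VCode

/-!
The involutions of `C₀ = ⟨t, w, r, k, n, z, s⟩`: they lie in `Q` or are `C₀`-conjugate into `A` (helper46).
-/

set_option autoImplicit false
set_option maxRecDepth 100000

namespace Cfsg.Agent.TypeOMinusEight.Invol

open Cfsg.Agent.SporadicRecognition.CosetCert Cfsg.Agent.TypeO8Minus.Rel
  Cfsg.Agent.Co2Type.Quad Cfsg.Agent.LargeExtra.Base Cfsg.Agent.TypeOMinusEight.Words
  Cfsg.Agent.TypeOMinusEight.Code Cfsg.Agent.TypeOMinusEight.Data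
  Cfsg.Agent.TypeOMinusEight.Basic Cfsg.Agent.TypeOMinusEight.Cent
  Cfsg.Agent.TypeOMinusEight.EGrp Cfsg.Agent.TypeOMinusEight.VCode

/-- the 24 elements of `⟨t, r, k⟩` -/
def hsL : List (List ℕ) := [[], [4], [0], [2, 0, 3], [0, 2, 0, 3], [4, 0], [4, 2, 0, 3], [4, 0, 2, 0, 3],
  [2], [3], [2, 0], [3, 0], [0, 2], [4, 2], [0, 3], [4, 3], [0, 2, 0], [4, 2, 0], [0, 3, 0], [4, 3, 0],
  [4, 0, 2], [4, 0, 3], [4, 0, 2, 0], [4, 0, 3, 0]]

/-- the 15 coset representatives -/
def rhoL : List (List ℕ) := [[], [1], [0, 1], [2, 0, 1], [3, 0, 1], [5], [4, 5], [5, 1], [4, 5, 1],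
  [5, 0, 1], [4, 5, 0, 1], [5, 2, 0, 1], [4, 5, 2, 0, 1], [5, 3, 0, 1], [4, 5, 3, 0, 1]]

def rtab : List (List (ℕ × ℕ)) := [
  [(0, 2), (2, 0), (1, 0), (4, 8), (3, 9), (5, 2), (6, 2), (9, 0), (10, 0), (7, 0), (8, 0), (13, 8), (14, 8),
    (11, 9), (12, 9)],
  [(1, 0), (0, 0), (2, 2), (4, 2), (3, 2), (7, 0), (8, 0), (5, 0), (6, 0), (9, 2), (10, 2), (13, 2), (14, 2),
    (11, 2), (12, 2)],
  [(0, 8), (1, 9), (3, 0), (4, 0), (2, 0), (5, 8), (6, 8), (7, 9), (8, 9), (11, 0), (12, 0), (13, 0), (14, 0),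
    (9, 0), (10, 0)],
  [(0, 9), (1, 8), (4, 0), (2, 0), (3, 0), (5, 9), (6, 9), (7, 8), (8, 8), (13, 0), (14, 0), (9, 0), (10, 0),
    (11, 0), (12, 0)],
  [(0, 1), (1, 1), (2, 1), (3, 1), (4, 1), (6, 0), (5, 0), (8, 0), (7, 0), (10, 0), (9, 0), (12, 0), (11, 0),
    (14, 0), (13, 0)],
  [(5, 0), (7, 0), (9, 0), (11, 0), (13, 0), (0, 0), (6, 1), (1, 0), (8, 1), (2, 0), (10, 1), (3, 0), (12, 1),
    (4, 0), (14, 1)]]

/-- left multiplication by the letters `0, 2, 3, 4` -/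
def htab : List (List ℕ) := [
  [2, 5, 0, 4, 3, 1, 7, 6, 12, 14, 16, 18, 8, 20, 9, 21, 10, 22, 11, 23, 13, 15, 17, 19], [],
  [8, 13, 10, 16, 12, 17, 22, 20, 9, 0, 11, 2, 18, 15, 3, 1, 14, 19, 4, 5, 23, 6, 21, 7],
  [9, 15, 11, 14, 18, 19, 21, 23, 0, 8, 2, 10, 4, 1, 16, 13, 3, 5, 12, 17, 7, 22, 6, 20],
  [1, 0, 5, 6, 7, 2, 3, 4, 13, 15, 17, 19, 20, 8, 21, 9, 22, 10, 23, 11, 12, 14, 16, 18]]

def hsW (j : ℕ) : List ℕ := hsL.getD j []
def rhoW (i : ℕ) : List ℕ := rhoL.getD i []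

theorem rtab_check : (List.range 6).all (fun l => (List.range 15).all fun i =>
    (Nat.blt ((rtab.getD l []).getD i (0,0)).1 15 && Nat.blt ((rtab.getD l []).getD i (0,0)).2 24) &&
    chk ([l] ++ rhoW i) (rhoW ((rtab.getD l []).getD i (0,0)).1 ++ hsW ((rtab.getD l []).getD i (0,0)).2))
    = true := by decide +kernel

theorem htab_check : [0, 2, 3, 4].all (fun l => (List.range 24).all fun j =>
    Nat.blt ((htab.getD l []).getD j 0) 24 && chk ([l] ++ hsW j) (hsW ((htab.getD l []).getD j 0))) = true := by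
  decide +kernel

theorem hsW_letters : (List.range 24).all (fun j => (hsW j).all fun x =>
    Nat.beq x 0 || (Nat.beq x 2 || (Nat.beq x 3 || Nat.beq x 4))) = true := by decide +kernel

theorem rho_conj : (List.range 15).all (fun i => chk (rhoW i ++ (wQ 0 ++ iv (rhoW i))) (iw wQ (S15.getD i 0) 8) &&
    (rhoW i).all fun x => Nat.ble x 5) = true := by
  decide +kernel

theorem hs_comm : (List.range 24).all (fun j => chk (hsW j ++ wQ 0) (wQ 0 ++ hsW j)) = true := by
  decide +kernel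

section

variable {G : Type*} [Group G] {Q A : Subgroup G} {z a : G} {t w r k n s : G} {p : Pair Q z A a}

/-- `N₀ = ⟨t, w, r, k, n⟩` -/
abbrev N0 (t w r k n : G) : Subgroup G := Subgroup.closure ({t, w, r, k, n} : Set G)

/-- `C₀` -/
abbrev C0 (t w r k n z s : G) : Subgroup G := Subgroup.closure ({t, w, r, k, n, z, s} : Set G)

theorem N0_le : N0 t w r k n ≤ C0 t w r k n z s := by
  apply Subgroup.closure_mono
  intro x hx
  simp only [Set.mem_insert_iff, Set.mem_singleton_iff] at hx ⊢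
  tauto

theorem lt_mem_C0 {x : ℕ} (hx : x < 8) : lt t w r k n z s 1 x ∈ C0 t w r k n z s := by
  have H : ∀ y ∈ ({t, w, r, k, n, z, s} : Set G), y ∈ C0 t w r k n z s :=
    fun y hy => Subgroup.subset_closure hy
  interval_cases x
  · exact H t (by simp)
  · exact H w (by simp)
  · exact H r (by simp)
  · exact Subgroup.inv_mem _ (H r (by simp))
  · exact H k (by simp)
  · exact H n (by simp)
  · exact H z (by simp)
  · exact H s (by simp)

theorem lt_mem_N0 {x : ℕ} (hx : x < 6) : lt t w r k n z s 1 x ∈ N0 t w r k n := by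
  have H : ∀ y ∈ ({t, w, r, k, n} : Set G), y ∈ N0 t w r k n :=
    fun y hy => Subgroup.subset_closure hy
  interval_cases x
  · exact H t (by simp)
  · exact H w (by simp)
  · exact H r (by simp)
  · exact Subgroup.inv_mem _ (H r (by simp))
  · exact H k (by simp)
  · exact H n (by simp)

theorem ev_mem_sub {K : Subgroup G} {L : ℕ → G} {u : List ℕ} (h : ∀ x ∈ u, L x ∈ K) : ev L u ∈ K := by
  induction u with
  | nil => exact K.one_mem
  | cons x u ih =>
    rw [ev_cons]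
    exact K.mul_mem (h x (by simp)) (ih fun y hy => h y (by simp [hy]))

theorem ev_mem_C0 {u : List ℕ} (hu : (u.all fun x => Nat.ble x 7) = true) :
    ev (lt t w r k n z s 1) u ∈ C0 t w r k n z s :=
  ev_mem_sub fun x hx => lt_mem_C0 (Nat.lt_succ_of_le (Nat.le_of_ble_eq_true (List.all_eq_true.1 hu x hx)))

theorem comm_N0 (R : RelsC t w r k n z s) {x : G} (hx : x ∈ N0 t w r k n) : x * z = z * x := by
  have hle : N0 t w r k n ≤ Subgroup.centralizer ({z} : Set G) := by
    rw [Subgroup.closure_le]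
    intro y hy
    simp only [Set.mem_insert_iff, Set.mem_singleton_iff] at hy
    apply Subgroup.mem_centralizer_singleton_iff.2
    rcases hy with rfl | rfl | rfl | rfl | rfl
    · exact comm_t R
    · exact comm_w R
    · exact comm_r R
    · exact comm_k R
    · exact comm_n R
  exact Subgroup.mem_centralizer_singleton_iff.1 (hle hx)

theorem wQ_letters : (List.range 8).all (fun i => (wQ i).all fun x => Nat.ble x 7) = true := by decide +kernel

theorem Q_le_C0 [Finite Q] (D : Loc p t w r k n s) : Q ≤ C0 t w r k n z s := by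
  intro x hx
  have hz : z ∈ C0 t w r k n z s := Subgroup.subset_closure (by simp)
  have hf : ∀ i < 8, fQ t w r k n z s i ∈ C0 t w r k n z s := fun i hi => ev_mem_C0 (allB wQ_letters i hi)
  obtain ⟨c, -, h | h⟩ := exists_VC D hx
  · rw [h]; exact io_mem hf c
  · rw [h]; exact Subgroup.mul_mem _ (io_mem hf c) hz

/-- `C₀ = N₀ Q` -/
theorem C0_eq (D : Loc p t w r k n s) {y : G} (hy : y ∈ C0 t w r k n z s) :
    ∃ x ∈ N0 t w r k n, ∃ q ∈ Q, y = x * q := by
  have R := D.rels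
  have hconj : ∀ x ∈ N0 t w r k n, ∀ q ∈ Q, x⁻¹ * q * x ∈ Q := by
    intro x hx q hq
    have := p.lz.conj_mem x⁻¹ (comm_N0 R (Subgroup.inv_mem _ hx)) q hq
    rwa [inv_inv] at this
  induction hy using Subgroup.closure_induction with
  | mem y hy =>
    have H : ∀ y ∈ ({t, w, r, k, n} : Set G), ∃ x ∈ N0 t w r k n, ∃ q ∈ Q, y = x * q :=
      fun y hy => ⟨y, Subgroup.subset_closure hy, 1, Q.one_mem, (mul_one y).symm⟩
    simp only [Set.mem_insert_iff, Set.mem_singleton_iff] at hy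
    rcases hy with rfl | rfl | rfl | rfl | rfl | rfl | rfl
    · exact H _ (by simp)
    · exact H _ (by simp)
    · exact H _ (by simp)
    · exact H _ (by simp)
    · exact H _ (by simp)
    · exact ⟨1, Subgroup.one_mem _, _, p.lz.z_mem, (one_mul _).symm⟩
    · exact ⟨1, Subgroup.one_mem _, _, D.s_mem, (one_mul _).symm⟩
  | one => exact ⟨1, Subgroup.one_mem _, 1, Q.one_mem, (one_mul _).symm⟩
  | mul y y' _ _ h h' =>
    obtain ⟨x, hx, q, hq, rfl⟩ := h
    obtain ⟨x', hx', q', hq', rfl⟩ := h'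
    refine ⟨x * x', Subgroup.mul_mem _ hx hx', (x'⁻¹ * q * x') * q', Q.mul_mem (hconj x' hx' q hq) hq', ?_⟩
    group
  | inv y _ h =>
    obtain ⟨x, hx, q, hq, rfl⟩ := h
    refine ⟨x⁻¹, Subgroup.inv_mem _ hx, x * q⁻¹ * x⁻¹, ?_, ?_⟩
    · exact p.lz.conj_mem x (comm_N0 R hx) _ (Q.inv_mem hq)
    · group

/-! ### the elements of `N₀` -/

theorem hs_mul (R : RelsC t w r k n z s) {u : List ℕ} (hu : ∀ x ∈ u, x = 0 ∨ x = 2 ∨ x = 3 ∨ x = 4) {j : ℕ}
    (hj : j < 24) : ∃ j' < 24, ev (lt t w r k n z s 1) u * ev (lt t w r k n z s 1) (hsW j) =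
      ev (lt t w r k n z s 1) (hsW j') := by
  induction u with
  | nil => exact ⟨j, hj, by rw [ev_nil, one_mul]⟩
  | cons x u ih =>
    obtain ⟨j1, hj1, h1⟩ := ih fun y hy => hu y (by simp [hy])
    have hx := hu x (by simp)
    have hx' : x ∈ [0, 2, 3, 4] := by simp; tauto
    have h2 := allB (List.all_eq_true.1 htab_check x hx') j1 hj1
    rw [Bool.and_eq_true] at h2
    refine ⟨_, Nat.le_of_ble_eq_true h2.1, ?_⟩
    rw [ev_cons, mul_assoc, h1, ← ev_of_chk R 1 h2.2, ev_append, ev_cons, ev_nil, mul_one]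

theorem hs_letters {j : ℕ} (hj : j < 24) : ∀ x ∈ hsW j, x = 0 ∨ x = 2 ∨ x = 3 ∨ x = 4 := by
  intro x hx
  have := List.all_eq_true.1 (allB hsW_letters j hj) x hx
  simp only [Bool.or_eq_true] at this
  rcases this with h | h | h | h
  · exact Or.inl (Nat.eq_of_beq_eq_true h)
  · exact Or.inr (Or.inl (Nat.eq_of_beq_eq_true h))
  · exact Or.inr (Or.inr (Or.inl (Nat.eq_of_beq_eq_true h)))
  · exact Or.inr (Or.inr (Or.inr (Nat.eq_of_beq_eq_true h)))

theorem N0_eq (R : RelsC t w r k n z s) {x : G} (hx : x ∈ N0 t w r k n) :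
    ∃ i < 15, ∃ j < 24, x = ev (lt t w r k n z s 1) (rhoW i) * ev (lt t w r k n z s 1) (hsW j) := by
  have step : ∀ l < 6, ∀ x : G,
      (∃ i < 15, ∃ j < 24, x = ev (lt t w r k n z s 1) (rhoW i) * ev (lt t w r k n z s 1) (hsW j)) →
      ∃ i < 15, ∃ j < 24, lt t w r k n z s 1 l * x =
        ev (lt t w r k n z s 1) (rhoW i) * ev (lt t w r k n z s 1) (hsW j) := by
    rintro l hl x ⟨i, hi, j, hj, rfl⟩
    have h1 := allB (allB rtab_check l hl) i hi
    rw [Bool.and_eq_true, Bool.and_eq_true] at h1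
    obtain ⟨⟨h2, h3⟩, h4⟩ := h1
    have h3' : ((rtab.getD l []).getD i (0,0)).2 < 24 := Nat.le_of_ble_eq_true h3
    obtain ⟨j', hj', h5⟩ := hs_mul R (hs_letters h3') hj
    refine ⟨_, Nat.le_of_ble_eq_true h2, j', hj', ?_⟩
    have h6 := ev_of_chk R 1 h4
    rw [ev_append, ev_append, ev_cons, ev_nil, mul_one] at h6
    rw [← mul_assoc, h6, mul_assoc, h5]
  induction hx using Subgroup.closure_induction_left with
  | one => exact ⟨0, by norm_num, 0, by norm_num, (one_mul (1 : G)).symm⟩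
  | mul_left y hy x _ ih =>
    simp only [Set.mem_insert_iff, Set.mem_singleton_iff] at hy
    rcases hy with rfl | rfl | rfl | rfl | rfl
    · exact step 0 (by norm_num) x ih
    · exact step 1 (by norm_num) x ih
    · exact step 2 (by norm_num) x ih
    · exact step 4 (by norm_num) x ih
    · exact step 5 (by norm_num) x ih
  | inv_mul_cancel y hy x _ ih =>
    simp only [Set.mem_insert_iff, Set.mem_singleton_iff] at hy
    rcases hy with rfl | rfl | rfl | rfl | rfl
    · rw [inv_eq_of_mul_eq_one_left R.t2]; exact step 0 (by norm_num) x ih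
    · rw [inv_eq_of_mul_eq_one_left R.w2]; exact step 1 (by norm_num) x ih
    · exact step 3 (by norm_num) x ih
    · rw [inv_eq_of_mul_eq_one_left R.k2]; exact step 4 (by norm_num) x ih
    · rw [inv_eq_of_mul_eq_one_left R.n2]; exact step 5 (by norm_num) x ih

theorem rho_a (D : Loc p t w r k n s) {i : ℕ} (hi : i < 15) :
    ev (lt t w r k n z s 1) (rhoW i) * a * (ev (lt t w r k n z s 1) (rhoW i))⁻¹ =
      io (fQ t w r k n z s) (S15.getD i 0) 8 := by
  have h1 := allB rho_conj i hi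
  rw [Bool.and_eq_true] at h1
  have h3 : ((rhoW i).all fun x => Nat.ble x 7) = true := by
    rw [List.all_eq_true]
    intro x hx
    have := Nat.le_of_ble_eq_true (List.all_eq_true.1 h1.2 x hx)
    exact Nat.ble_eq_true_of_le (by omega)
  have h2 := ev_of_chk D.rels 1 h1.1
  rw [ev_append, ev_append, ev_iv D.rels 1 h3, ev_iw, ← mul_assoc] at h2
  have h4 : ev (lt t w r k n z s 1) (wQ 0) = a := f0 D
  rw [h4] at h2
  exact h2

theorem rho_mem_N0 {i : ℕ} (hi : i < 15) : ev (lt t w r k n z s 1) (rhoW i) ∈ N0 t w r k n := by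
  have h1 := allB rho_conj i hi
  rw [Bool.and_eq_true] at h1
  exact ev_mem_sub fun x hx => lt_mem_N0 (Nat.lt_succ_of_le (Nat.le_of_ble_eq_true (List.all_eq_true.1 h1.2 x hx)))

/-- `N₀` is transitive on the fifteen vectors -/
theorem exists_conj_a (D : Loc p t w r k n s) {c : ℕ} (hc : c ∈ S15) :
    ∃ g ∈ N0 t w r k n, g * a * g⁻¹ = io (fQ t w r k n z s) c 8 := by
  obtain ⟨i, hi, rfl⟩ : ∃ i < 15, S15.getD i 0 = c := by
    have : ∀ c ∈ S15, ∃ i < 15, S15.getD i 0 = c := by decide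
    exact this c hc
  exact ⟨_, rho_mem_N0 hi, rho_a D hi⟩

theorem VC_a (D : Loc p t w r k n s) : VC t w r k n z s 1 a := by
  left
  rw [← f0 D]
  exact f_eq_io D.rels (i := 0) (by norm_num)

/-- the stabiliser of `a` (modulo `z`) in `N₀` -/
theorem N0_stab (D : Loc p t w r k n s) {x : G} (hx : x ∈ N0 t w r k n)
    (h : VC t w r k n z s 1 (x * a * x⁻¹)) : ∃ j < 24, x = ev (lt t w r k n z s 1) (hsW j) := by
  obtain ⟨i, hi, j, hj, hxe⟩ := N0_eq D.rels hx
  have h1 := ev_of_chk D.rels 1 (allB hs_comm j hj)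
  rw [ev_append, ev_append] at h1
  have h4 : ev (lt t w r k n z s 1) (wQ 0) = a := f0 D
  rw [h4] at h1
  have h2 : x * a * x⁻¹ = io (fQ t w r k n z s) (S15.getD i 0) 8 := by
    rw [← rho_a D hi, hxe]
    calc _ = ev (lt t w r k n z s 1) (rhoW i) * (ev (lt t w r k n z s 1) (hsW j) * a) *
          (ev (lt t w r k n z s 1) (hsW j))⁻¹ * (ev (lt t w r k n z s 1) (rhoW i))⁻¹ := by group
      _ = _ := by rw [h1]; group
  rw [h2] at h
  have h3 : S15.getD i 0 < 256 := by interval_cases i <;> decide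
  have h5 := VC_inj D h3 (by norm_num) (VC_self _) h
  have h6 : i = 0 := by
    have : ∀ i < 15, S15.getD i 0 = 1 → i = 0 := by decide
    exact this i hi h5
  refine ⟨j, hj, ?_⟩
  rw [hxe, h6]
  show ev _ [] * _ = _
  rw [ev_nil, one_mul]

/-! ### fixed vectors of an involution -/

/-- an involution of `C_G(z)` fixes one of the fifteen vectors -/
theorem exists_fix (D : Loc p t w r k n s) {x : G} (hx : x * z = z * x) (hx2 : x * x = 1) :
    ∃ c ∈ S15, VC t w r k n z s c (x * io (fQ t w r k n z s) c 8 * x⁻¹) := by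
  classical
  have hxi : x⁻¹ = x := inv_eq_of_mul_eq_one_left hx2
  have h1 : ∀ c : {c // c ∈ S15}, ∃ d : {c // c ∈ S15},
      VC t w r k n z s d.1 (x * io (fQ t w r k n z s) c.1 8 * x⁻¹) := by
    intro c
    obtain ⟨d, hd, h⟩ := conj_S15 D hx c.2
    exact ⟨⟨d, hd⟩, h⟩
  choose f hf using h1
  have hlt : ∀ c ∈ S15, c < 256 := by decide
  have hff : ∀ c, f (f c) = c := by
    intro c
    apply Subtype.ext
    refine VC_inj D (hlt _ (f (f c)).2) (hlt _ c.2) ?_ (VC_self c.1)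
    have h2 := hf (f c)
    rcases hf c with h | h
    · rw [← h] at h2
      have e : x * (x * io (fQ t w r k n z s) c.1 8 * x⁻¹) * x⁻¹ = io (fQ t w r k n z s) c.1 8 := by
        calc _ = (x * x) * io (fQ t w r k n z s) c.1 8 * (x * x)⁻¹ := by group
          _ = _ := by rw [hx2]; group
      rwa [e] at h2
    · have e : x * io (fQ t w r k n z s) (f c).1 8 * x⁻¹ = io (fQ t w r k n z s) c.1 8 * z := by
        have e1 : io (fQ t w r k n z s) (f c).1 8 = x * io (fQ t w r k n z s) c.1 8 * x⁻¹ * z := by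
          rw [h, mul_assoc, p.lz.z_sq, mul_one]
        rw [e1]
        calc x * (x * io (fQ t w r k n z s) c.1 8 * x⁻¹ * z) * x⁻¹ =
              (x * x) * io (fQ t w r k n z s) c.1 8 * x⁻¹ * (z * x⁻¹) := by group
          _ = (x * x) * io (fQ t w r k n z s) c.1 8 * (x⁻¹ * x⁻¹) * z := by rw [hxi, ← hx]; group
          _ = _ := by rw [hxi, hx2]; group
      rw [e] at h2
      have := VC_mul_z D h2
      rwa [mul_assoc, p.lz.z_sq, mul_one] at this
  let F : Function.End {c // c ∈ S15} := f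
  have hF2 : F ^ 2 ^ 1 = 1 := by
    funext c
    rw [pow_one, pow_two]
    exact hff c
  have hfin : Fintype {c // c ∈ S15} := inferInstance
  have h2 : Fact (Nat.Prime 2) := ⟨by norm_num⟩
  have hmod := Equiv.Perm.card_fixedPoints_modEq (p := 2) (n := 1) hF2
  have hcard : Fintype.card {c // c ∈ S15} = 15 := by
    rw [Fintype.card_of_subtype S15.toFinset (fun x => List.mem_toFinset)]
    decide
  rw [hcard] at hmod
  have hne : Fintype.card (Function.fixedPoints F) ≠ 0 := by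
    intro h0
    rw [h0] at hmod
    exact absurd hmod (by decide)
  obtain ⟨⟨c, hc⟩⟩ := Fintype.card_pos_iff.1 (Nat.pos_of_ne_zero hne)
  have hc' : f c = c := hc
  refine ⟨c.1, c.2, ?_⟩
  have := hf c
  rwa [hc'] at this

end

end Cfsg.Agent.TypeOMinusEight.Invol
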