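import Cfsg.Agent.TypeOMinusEight.Flip

/-!
The element `b ∈ A = Q_a` (helper46).
-/

set_option autoImplicit false
set_option maxRecDepth 100000

namespace Cfsg.Agent.TypeOMinusEight.Swap

open Cfsg.Agent.SporadicRecognition.CosetCert Cfsg.Agent.TypeO8Minus.Rel
  Cfsg.Agent.Co2Type.Quad Cfsg.Agent.LargeExtra.Base Cfsg.Agent.TypeOMinusEight.Words
  Cfsg.Agent.TypeOMinusEight.Code Cfsg.Agent.TypeOMinusEight.Data
  Cfsg.Agent.TypeOMinusEight.Basic Cfsg.Agent.TypeOMinusEight.Cent
  Cfsg.Agent.TypeOMinusEight.Flip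

section

variable {G : Type*} [Group G] {Q A : Subgroup G} {z a : G} {t w r k n s : G}

/-- the elements `z, k, ν, ν', t', t, e` of `A` -/
def wA (i : ℕ) : List ℕ :=
  bif Nat.beq i 0 then [6] else bif Nat.beq i 1 then [4] else bif Nat.beq i 2 then wN else
  bif Nat.beq i 3 then 2 :: (wN ++ [3]) else bif Nat.beq i 4 then [2,0,3] else
  bif Nat.beq i 5 then [0] else [1,7,1]

/-- commutator matrix -/
def gramA (i j : ℕ) : Bool :=
  (Nat.beq i 0 && Nat.beq j 7) || ((Nat.beq i 7 && Nat.beq j 0) || ((Nat.beq i 1 && Nat.beq j 6) ||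
  ((Nat.beq i 6 && Nat.beq j 1) || ((Nat.beq i 2 && Nat.beq j 4) || ((Nat.beq i 4 && Nat.beq j 2) ||
  ((Nat.beq i 3 && Nat.beq j 5) || (Nat.beq i 5 && Nat.beq j 3)))))))

theorem gramA_check : (List.range 7).all (fun i => (List.range 7).all fun j =>
    chk (wA i ++ wA j) (wA j ++ (wA i ++ (bif gramA i j then [1,5,7,5,1] else [])))) = true := by
  decide +kernel

theorem keyA_check : (List.range 256).all (fun c => Nat.beq (key gramA (key gramA c 8) 8) c) = true := by
  decide +kernel

/-- the family for a given `b` -/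
def fA (t w r k n z s b : G) (i : ℕ) : G :=
  bif Nat.ble 7 i then b else ev (lt t w r k n z s 1) (wA i)

theorem ra {p : Pair Q z A a} (D : Loc p t w r k n s) : r * a = a * r := by
  have hc := checks
  simp only [Bool.and_eq_true] at hc
  have h1 := ev_of_chk D.rels 1 hc.2.2.2.2.2.2.2.2
  rw [ev_append, ev_append] at h1
  have h2 : ev (lt t w r k n z s 1) (wQ 0) = a := f0 D
  rw [h2, ev_cons, ev_cons, ev_nil, mul_one, mul_one] at h1
  have h3 : r * (a * r⁻¹) = a := h1
  calc r * a = (r * (a * r⁻¹)) * r := by group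
    _ = a * r := by rw [h3]

/-- `b₀ ∈ A - C(z)` commuting with `r` -/
theorem exists_b0 [Finite G] {p : Pair Q z A a} (D : Loc p t w r k n s) :
    ∃ b ∈ A, b * z ≠ z * b ∧ r * b = b * r := by
  classical
  have hra := ra D
  have hrz := comm_r D.rels
  have hcA : Nat.card A = 512 := by rw [p.card_eq, D.card]; norm_num
  have hc1 := Cfsg.Agent.LargeExtra.Local.card_centralizer p.la p.z_mem p.lz.z_ne p.ne.symm
  have hAf : Finite A := inferInstance
  -- the set `X`
  let P : A → Prop := fun x => (x : G) * z = z * x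
  have hcP : Nat.card {x : A // P x} = 256 := by
    have e : {x : A // P x} ≃ ↥(Subgroup.centralizer ({z} : Set G) ⊓ A) :=
      { toFun := fun x => ⟨x.1, Subgroup.mem_inf.2
          ⟨Subgroup.mem_centralizer_singleton_iff.2 x.2, x.1.2⟩⟩
        invFun := fun x => ⟨⟨x, (Subgroup.mem_inf.1 x.2).2⟩,
          Subgroup.mem_centralizer_singleton_iff.1 (Subgroup.mem_inf.1 x.2).1⟩
        left_inv := fun _ => rfl
        right_inv := fun _ => rfl }
    rw [Nat.card_congr e]
    omega
  let X : Type _ := {x : A // ¬ P x}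
  have hcX : Nat.card X = 256 := by
    have e := Nat.card_congr (Equiv.sumCompl P)
    rw [Nat.card_sum, hcP, hcA] at e
    show Nat.card {x : A // ¬ P x} = 256
    omega
  have hmem : ∀ x : X, ¬ P ⟨r * x.1 * r⁻¹, p.la.conj_mem r hra _ x.1.2⟩ := by
    intro x hx
    apply x.2
    have hx' : r * (x.1 : G) * r⁻¹ * z = z * (r * x.1 * r⁻¹) := hx
    show (x.1 : G) * z = z * x.1
    have h1 : r⁻¹ * z = z * r⁻¹ := by
      calc r⁻¹ * z = r⁻¹ * (z * r) * r⁻¹ := by group
        _ = z * r⁻¹ := by rw [← hrz]; group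
    calc (x.1 : G) * z = r⁻¹ * (r * (x.1 : G) * r⁻¹ * z) * r := by
          rw [mul_assoc (r * (x.1 : G)), h1, mul_assoc, mul_assoc, mul_assoc, mul_assoc]
          group
      _ = r⁻¹ * z * r * (x.1 : G) := by rw [hx']; group
      _ = z * x.1 := by rw [h1]; group
  let f : Function.End X := fun x => ⟨⟨r * x.1 * r⁻¹, p.la.conj_mem r hra _ x.1.2⟩, hmem x⟩
  have hf3 : f ^ 3 ^ 1 = 1 := by
    rw [pow_one]
    funext x
    apply Subtype.ext
    apply Subtype.ext
    have e : f ^ 3 = f * (f * f) := by rw [pow_succ, pow_two, mul_assoc]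
    rw [e]
    show r * (r * (r * (x.1 : G) * r⁻¹) * r⁻¹) * r⁻¹ = x.1
    calc r * (r * (r * (x.1 : G) * r⁻¹) * r⁻¹) * r⁻¹ = (r * r * r) * x.1 * (r * r * r)⁻¹ := by group
      _ = x.1 := by rw [D.rels.r3]; group
  have hfX : Fintype X := Fintype.ofFinite X
  have h3 : Fact (Nat.Prime 3) := ⟨by norm_num⟩
  have hmod := Equiv.Perm.card_fixedPoints_modEq (p := 3) (n := 1) hf3
  rw [← Nat.card_eq_fintype_card, hcX] at hmod
  have hne : Fintype.card (Function.fixedPoints f) ≠ 0 := by
    intro h0
    rw [h0] at hmod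
    exact absurd hmod (by decide)
  obtain ⟨⟨x, hx⟩⟩ := Fintype.card_pos_iff.1 (Nat.pos_of_ne_zero hne)
  refine ⟨x.1, x.1.2, x.2, ?_⟩
  have h4 : r * (x.1 : G) * r⁻¹ = x.1 := congrArg (fun y : X => ((y.1 : A) : G)) hx
  calc r * (x.1 : G) = (r * (x.1 : G) * r⁻¹) * r := by group
    _ = x.1 * r := by rw [h4]

/-! ### commutators modulo a central involution -/

theorem comm_mul {x y v : G} {β γ : Bool} (hy : y * a = a * y)
    (h1 : x * v = v * x * cb β a) (h2 : y * v = v * y * cb γ a) (ha : a * a = 1) :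
    x * y * v = v * (x * y) * cb (β ^^ γ) a := by
  rw [cb_xor ha]
  have h3 : cb β a * y = y * cb β a := cb_comm hy.symm β
  calc x * y * v = x * (y * v) := by group
    _ = (x * v) * y * cb γ a := by rw [h2]; group
    _ = v * x * (cb β a * y) * cb γ a := by rw [h1]; group
    _ = v * (x * y) * (cb β a * cb γ a) := by rw [h3]; group

theorem comm_mul_right {x v w : G} {β γ : Bool} (hw : w * a = a * w)
    (h1 : x * v = v * x * cb β a) (h2 : x * w = w * x * cb γ a) (ha : a * a = 1) :
    x * (v * w) = v * w * x * cb (β ^^ γ) a := by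
  rw [cb_xor ha]
  have h3 : cb β a * w = w * cb β a := cb_comm hw.symm β
  calc x * (v * w) = (x * v) * w := by group
    _ = v * x * (cb β a * w) := by rw [h1]; group
    _ = v * (x * w) * cb β a := by rw [h3]; group
    _ = v * w * x * (cb γ a * cb β a) := by rw [h2]; group
    _ = v * w * x * (cb β a * cb γ a) := by
        congr 1
        cases β <;> cases γ <;> simp [cb]

theorem exists_beta {p : Pair Q z A a} {x y : G} (hx : x ∈ A) (hy : y ∈ A) :
    ∃ β : Bool, x * y = y * x * cb β a := by
  rcases p.la.comm x hx y hy with h | h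
  · exact ⟨false, by rw [h, cb_false, mul_one]⟩
  · exact ⟨true, h⟩

theorem gramA_eq {p : Pair Q z A a} (D : Loc p t w r k n s) {i j : ℕ} (hi : i < 7) (hj : j < 7) :
    ev (lt t w r k n z s 1) (wA i) * ev (lt t w r k n z s 1) (wA j) =
    ev (lt t w r k n z s 1) (wA j) * ev (lt t w r k n z s 1) (wA i) * cb (gramA i j) a := by
  have h1 := ev_of_chk D.rels 1 (allB (allB gramA_check i hi) j hj)
  rw [ev_append, ev_append, ev_append] at h1
  rw [h1, ← mul_assoc]
  congr 1
  have h2 : ev (lt t w r k n z s 1) [1,5,7,5,1] = a := f0 D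
  cases gramA i j
  · rfl
  · exact h2

theorem ev0 : ev (lt t w r k n z s 1) (wA 0) = z := by
  show ev (lt t w r k n z s 1) [6] = _
  simp [ev, lt]
theorem ev1 : ev (lt t w r k n z s 1) (wA 1) = k := by
  show ev (lt t w r k n z s 1) [4] = _
  simp [ev, lt]
theorem ev2 : ev (lt t w r k n z s 1) (wA 2) = fQ t w r k n z s 2 := rfl
theorem ev3 : ev (lt t w r k n z s 1) (wA 3) = fQ t w r k n z s 3 := rfl
theorem ev4 : ev (lt t w r k n z s 1) (wA 4) = r * t * r⁻¹ := by
  show ev (lt t w r k n z s 1) [2,0,3] = _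
  simp [ev, lt, mul_assoc]
theorem ev5 : ev (lt t w r k n z s 1) (wA 5) = t := by
  show ev (lt t w r k n z s 1) [0] = _
  simp [ev, lt]
theorem ev6 : ev (lt t w r k n z s 1) (wA 6) = fQ t w r k n z s 4 := rfl

theorem wA_mem {p : Pair Q z A a} (D : Loc p t w r k n s) : ∀ i < 7, ev (lt t w r k n z s 1) (wA i) ∈ A := by
  intro i hi
  have hra := ra D
  interval_cases i
  · rw [ev0]; exact p.z_mem
  · rw [ev1]; exact D.kA
  · rw [ev2, fQ2]; exact D.d_mem
  · rw [ev3, fQ3]; exact p.la.conj_mem r hra _ D.d_mem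
  · rw [ev4]; exact p.la.conj_mem r hra _ D.tA
  · rw [ev5]; exact D.tA
  · rw [ev6, fQ4]; exact D.e_mem

theorem misc_check : (chk [2, 4] [4, 2] && (chk ([2] ++ wQ 4) (wQ 4 ++ [2]) &&
    (chk ([2] ++ (wQ 3 ++ [3])) (wQ 2 ++ wQ 3) && (chk ([2] ++ ([2,0,3] ++ [3])) ([0] ++ [2,0,3]) &&
    (chk ([2] ++ wQ 1) (wQ 1 ++ [2]) && (chk (wQ 1 ++ ([6] ++ wQ 1)) [6] &&
    (chk (wQ 1 ++ ([4] ++ wQ 1)) [4] && (chk (wQ 1 ++ (wQ 2 ++ wQ 1)) (wQ 2) &&
    (chk (wQ 1 ++ (wQ 3 ++ wQ 1)) (wQ 3) && (chk (wQ 1 ++ (wQ 4 ++ wQ 1)) (wQ 4 ++ [6]) &&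
    (chk (wQ 1 ++ ([0] ++ wQ 1)) ([0] ++ (wQ 2 ++ wQ 0)) &&
    (chk (wQ 1 ++ ([2,0,3] ++ wQ 1)) ([2,0,3] ++ (wQ 3 ++ wQ 0)) &&
    (chk (wQ 1 ++ wQ 1) [] && (chk (wQ 1 ++ wQ 0) (wQ 0 ++ wQ 1) &&
    chk (wQ 4 ++ wQ 4) []))))))))))))))
    = true := by decide +kernel

/-- **The element `b`** with its first properties. -/
structure B1 (p : Pair Q z A a) (t w r k n s b : G) : Prop where
  bA : b ∈ A
  b2 : b * b = 1
  bz : b * z = z * b * a
  bk : b * k = k * b
  be : b * fQ t w r k n z s 4 = fQ t w r k n z s 4 * b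
  bν : b * fQ t w r k n z s 2 = fQ t w r k n z s 2 * b
  bν' : b * fQ t w r k n z s 3 = fQ t w r k n z s 3 * b
  bt : b * t = t * b
  bt' : b * (r * t * r⁻¹) = r * t * r⁻¹ * b
  br : r * b = b * r

theorem exists_B1 [Finite G] {p : Pair Q z A a} (D : Loc p t w r k n s) : ∃ b, B1 p t w r k n s b := by
  have R := D.rels
  have haa : a * a = 1 := p.la.z_sq
  have hA := wA_mem D
  have hk : k ∈ A := by have := hA 1 (by norm_num); rwa [ev1] at this
  have he : fQ t w r k n z s 4 ∈ A := hA 6 (by norm_num)
  have hca : ∀ x ∈ A, x * a = a * x := fun x hx => p.la.comm_z x hx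
  have hc := misc_check
  simp only [Bool.and_eq_true] at hc
  obtain ⟨c1, c2, c3, c4, -⟩ := hc
  have hrk : r * k = k * r := by
    simpa [ev, lt] using ev_of_chk R 1 c1
  have hre : r * fQ t w r k n z s 4 = fQ t w r k n z s 4 * r := by
    have := ev_of_chk R 1 c2
    rw [ev_append, ev_append, ev_cons, ev_nil, mul_one] at this
    exact this
  have hrz := comm_r R
  have hrν : r * fQ t w r k n z s 3 * r⁻¹ = fQ t w r k n z s 2 * fQ t w r k n z s 3 := by
    have := ev_of_chk R 1 c3
    rw [ev_append, ev_append, ev_append, ev_cons, ev_nil, mul_one, ev_cons, ev_nil, mul_one,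
      ← mul_assoc] at this
    exact this
  have hrt : r * (r * t * r⁻¹) * r⁻¹ = t * (r * t * r⁻¹) := by
    have := ev_of_chk R 1 c4
    simpa [ev, lt, mul_assoc] using this
  -- relations between the seven elements
  have hke : k * fQ t w r k n z s 4 = fQ t w r k n z s 4 * k * cb true a := by
    have := gramA_eq D (i := 1) (j := 6) (by norm_num) (by norm_num)
    rw [ev1, ev6] at this; exact this
  have hek : fQ t w r k n z s 4 * k = k * fQ t w r k n z s 4 * cb true a := by
    have := gramA_eq D (i := 6) (j := 1) (by norm_num) (by norm_num)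
    rw [ev1, ev6] at this; exact this
  have hkz : k * z = z * k * cb false a := by rw [comm_k R, cb_false, mul_one]
  have hez : fQ t w r k n z s 4 * z = z * fQ t w r k n z s 4 * cb false a := by
    rw [cb_false, mul_one]; exact p.lz.comm_z _ (f_mem D 4 (by norm_num))
  have hee : fQ t w r k n z s 4 * fQ t w r k n z s 4 = fQ t w r k n z s 4 * fQ t w r k n z s 4 * cb false a := by
    rw [cb_false, mul_one]
  obtain ⟨b0, hb0, hb0z, hb0r⟩ := exists_b0 D
  -- step 0
  have hz0 : b0 * z = z * b0 * cb true a := by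
    rcases p.la.comm b0 hb0 z p.z_mem with h | h
    · exact absurd h hb0z
    · exact h
  -- step 1
  obtain ⟨β, hβ⟩ := exists_beta (p := p) hb0 he
  obtain ⟨b1, hb1, hb1z, hb1r, hb1e⟩ : ∃ b ∈ A, b * z = z * b * cb true a ∧ r * b = b * r ∧
      b * fQ t w r k n z s 4 = fQ t w r k n z s 4 * b * cb false a := by
    cases β
    · exact ⟨b0, hb0, hz0, hb0r, hβ⟩
    · refine ⟨b0 * k, A.mul_mem hb0 hk, comm_mul (hca k hk) hz0 hkz haa, ?_,
        comm_mul (hca k hk) hβ hke haa⟩
      rw [← mul_assoc, hb0r, mul_assoc, hrk, mul_assoc]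
  -- step 2
  obtain ⟨γ, hγ⟩ := exists_beta (p := p) hb1 hk
  obtain ⟨b2, hb2, hb2z, hb2r, hb2e, hb2k⟩ : ∃ b ∈ A, b * z = z * b * cb true a ∧ r * b = b * r ∧
      b * fQ t w r k n z s 4 = fQ t w r k n z s 4 * b * cb false a ∧ b * k = k * b * cb false a := by
    cases γ
    · exact ⟨b1, hb1, hb1z, hb1r, hb1e, hγ⟩
    · refine ⟨b1 * fQ t w r k n z s 4, A.mul_mem hb1 he, comm_mul (hca _ he) hb1z hez haa, ?_,
        comm_mul (hca _ he) hb1e hee haa, comm_mul (hca _ he) hγ hek haa⟩
      rw [← mul_assoc, hb1r, mul_assoc, hre, mul_assoc]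
  -- step 3
  obtain ⟨b, hb, hbz, hbr, hbe, hbk, hbb⟩ : ∃ b ∈ A, b * z = z * b * cb true a ∧ r * b = b * r ∧
      b * fQ t w r k n z s 4 = fQ t w r k n z s 4 * b * cb false a ∧ b * k = k * b * cb false a ∧
      b * b = 1 := by
    rcases p.la.sq b2 hb2 with h | h
    · exact ⟨b2, hb2, hb2z, hb2r, hb2e, hb2k, h⟩
    · have hzz : z * z = z * z * cb false a := by rw [cb_false, mul_one]
      have hze : z * fQ t w r k n z s 4 = fQ t w r k n z s 4 * z * cb false a := by
        rw [cb_false, mul_one] at hez ⊢; exact hez.symm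
      have hzk : z * k = k * z * cb false a := by
        rw [cb_false, mul_one] at hkz ⊢; exact hkz.symm
      have hza := hca z p.z_mem
      refine ⟨b2 * z, A.mul_mem hb2 p.z_mem, comm_mul hza hb2z hzz haa, ?_,
        comm_mul hza hb2e hze haa, comm_mul hza hb2k hzk haa, ?_⟩
      · rw [← mul_assoc, hb2r, mul_assoc, hrz, mul_assoc]
      · have h1 : z * b2 = b2 * z * a := by
          have h2 : b2 * z * a = z * b2 * (a * a) := by rw [hb2z, cb_true]; group
          rw [haa, mul_one] at h2
          exact h2.symm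
        calc b2 * z * (b2 * z) = b2 * (z * b2) * z := by group
          _ = (b2 * b2) * z * (a * z) := by rw [h1]; group
          _ = a * (z * a) * z := by rw [h]; group
          _ = (a * a) * (z * z) := by rw [hza]; group
          _ = 1 := by rw [p.lz.z_sq, mul_one, haa]
  rw [cb_false, mul_one] at hbe hbk
  -- `ν`
  have hr3 : ∀ v ∈ A, ∀ v' ∈ A, r * v * r⁻¹ = v' → r * v' * r⁻¹ = v * v' → b * v = v * b ∧ b * v' = v' * b := by
    intro v hv v' hv' e1 e2
    obtain ⟨β, hβ⟩ := exists_beta (p := p) hb hv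
    have hra := ra D
    have hrβ : r * cb β a * r⁻¹ = cb β a := by
      have : r * cb β a = cb β a * r := (cb_comm hra.symm β).symm
      rw [this]; group
    have hrb : r * b * r⁻¹ = b := by rw [hbr]; group
    have h1 : b * v' = v' * b * cb β a := by
      rw [← e1]
      calc b * (r * v * r⁻¹) = (r * b * r⁻¹) * (r * v * r⁻¹) := by rw [hrb]
        _ = r * (b * v) * r⁻¹ := by group
        _ = (r * v * r⁻¹) * (r * b * r⁻¹) * (r * cb β a * r⁻¹) := by rw [hβ]; group
        _ = r * v * r⁻¹ * b * cb β a := by rw [hrb, hrβ]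
    have h2 : b * (v * v') = v * v' * b * cb β a := by
      rw [← e2]
      calc b * (r * v' * r⁻¹) = (r * b * r⁻¹) * (r * v' * r⁻¹) := by rw [hrb]
        _ = r * (b * v') * r⁻¹ := by group
        _ = (r * v' * r⁻¹) * (r * b * r⁻¹) * (r * cb β a * r⁻¹) := by rw [h1]; group
        _ = r * v' * r⁻¹ * b * cb β a := by rw [hrb, hrβ]
    have h3 := comm_mul_right (hca v' hv') hβ h1 haa
    have h4 : cb β a = cb (β ^^ β) a := mul_left_cancel (h2.symm.trans h3)
    rw [Bool.xor_self] at h4
    have h5 : β = false := cb_inj p.la.z_ne h4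
    rw [h5, cb_false, mul_one] at hβ h1
    exact ⟨hβ, h1⟩
  have hν := hr3 (fQ t w r k n z s 2) (hA 2 (by norm_num)) (fQ t w r k n z s 3) (hA 3 (by norm_num))
    (by rw [fQ2, fQ3]) hrν
  have ht := hr3 t D.tA (r * t * r⁻¹) (by have := hA 4 (by norm_num); rwa [ev4] at this) rfl hrt
  exact ⟨b, hb, hbb, hbz, hbk, hbe, hν.1, hν.2, ht.1, ht.2, hbr⟩

/-! ### the conjugate of `α` -/

theorem fA_lt {b : G} {i : ℕ} (hi : i < 7) : fA t w r k n z s b i = ev (lt t w r k n z s 1) (wA i) := by
  interval_cases i <;> rfl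

theorem fA_seven {b : G} : fA t w r k n z s b 7 = b := rfl

theorem fA_mem {p : Pair Q z A a} (D : Loc p t w r k n s) {b : G} (hb : b ∈ A) :
    ∀ i < 8, fA t w r k n z s b i ∈ A := by
  intro i hi
  by_cases h7 : i < 7
  · rw [fA_lt h7]; exact wA_mem D i h7
  · have : i = 7 := by omega
    rw [this, fA_seven]; exact hb

theorem fA_gram {p : Pair Q z A a} (D : Loc p t w r k n s) {b : G} (B : B1 p t w r k n s b) :
    ∀ i < 8, ∀ j < 8, fA t w r k n z s b i * fA t w r k n z s b j =
      fA t w r k n z s b j * fA t w r k n z s b i * cb (gramA i j) a := by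
  have haa : a * a = 1 := p.la.z_sq
  -- `b` with the others
  have key : ∀ j < 7, b * ev (lt t w r k n z s 1) (wA j) = ev (lt t w r k n z s 1) (wA j) * b *
      cb (gramA 7 j) a := by
    intro j hj
    interval_cases j
    · rw [ev0]; exact B.bz
    · rw [ev1, show gramA 7 1 = false from rfl, cb_false, mul_one]; exact B.bk
    · rw [ev2, show gramA 7 2 = false from rfl, cb_false, mul_one]; exact B.bν
    · rw [ev3, show gramA 7 3 = false from rfl, cb_false, mul_one]; exact B.bν'
    · rw [ev4, show gramA 7 4 = false from rfl, cb_false, mul_one]; exact B.bt'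
    · rw [ev5, show gramA 7 5 = false from rfl, cb_false, mul_one]; exact B.bt
    · rw [ev6, show gramA 7 6 = false from rfl, cb_false, mul_one]; exact B.be
  have hsymm : ∀ i < 8, ∀ j < 8, gramA i j = gramA j i := by
    intro i hi j hj
    interval_cases i <;> interval_cases j <;> rfl
  intro i hi j hj
  by_cases hi7 : i < 7 <;> by_cases hj7 : j < 7
  · rw [fA_lt hi7, fA_lt hj7]; exact gramA_eq D hi7 hj7
  · have hj' : j = 7 := by omega
    subst hj'
    rw [fA_lt hi7, fA_seven, hsymm i hi 7 hj]
    have h1 := key i hi7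
    have hvA := wA_mem D i hi7
    have hva : b * ev (lt t w r k n z s 1) (wA i) * a = a * (b * ev (lt t w r k n z s 1) (wA i)) :=
      p.la.comm_z _ (A.mul_mem B.bA hvA)
    rw [h1]
    cases gramA 7 i
    · rw [cb_false, mul_one, mul_one]
    · rw [cb_true, mul_assoc _ a, haa, mul_one]
  · have hi' : i = 7 := by omega
    subst hi'
    rw [fA_lt hj7, fA_seven]; exact key j hj7
  · have hi' : i = 7 := by omega
    have hj' : j = 7 := by omega
    subst hi' hj'
    rw [fA_seven, show gramA 7 7 = false from rfl, cb_false, mul_one]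

theorem alpha_check : (List.range 256).all (fun c => (xs (fun i => gramA i 0) c 8 ||
    (xs (fun i => gramA i 1) c 8 || (xs (fun i => gramA i 2) c 8 || (xs (fun i => gramA i 3) c 8 ||
    (xs (fun i => gramA i 4) c 8 || (xs (fun i => gramA i 5) c 8 || !(xs (fun i => gramA i 6) c 8))))))) ||
    (Nat.beq c 2 || Nat.beq c 3)) = true := by decide +kernel

theorem conj_alpha [Finite G] {p : Pair Q z A a} (D : Loc p t w r k n s) {b : G}
    (B : B1 p t w r k n s b) : ∃ ε : Bool, b * fQ t w r k n z s 1 * b = fQ t w r k n z s 1 * k * cb ε a := by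
  have R := D.rels
  have haa : a * a = 1 := p.la.z_sq
  have hA := wA_mem D
  have hca : ∀ x ∈ A, x * a = a * x := fun x hx => p.la.comm_z x hx
  have hc := misc_check
  simp only [Bool.and_eq_true] at hc
  obtain ⟨-, -, -, -, -, d1, d2, d3, d4, d5, d6, d7, d8, d9, -⟩ := hc
  set α := fQ t w r k n z s 1 with hα
  have hev1 : ev (lt t w r k n z s 1) (wQ 1) = α := rfl
  have hea : ev (lt t w r k n z s 1) (wQ 0) = a := f0 D
  have hez' : ev (lt t w r k n z s 1) [6] = z := by simp [ev, lt]
  have αα : α * α = 1 := by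
    have := ev_of_chk R 1 d8
    rwa [ev_append, ev_nil] at this
  have αa : α * a = a * α := by
    have := ev_of_chk R 1 d9
    rwa [ev_append, ev_append, hev1, hea] at this
  have hαinv : α⁻¹ = α := inv_eq_of_mul_eq_one_left αα
  -- conjugation by `α`
  have cz : α * z * α = z := by
    have := ev_of_chk R 1 d1
    rwa [ev_append, ev_append, hev1, hez', ← mul_assoc] at this
  have hek' : ev (lt t w r k n z s 1) [4] = k := by simp [ev, lt]
  have het' : ev (lt t w r k n z s 1) [0] = t := by simp [ev, lt]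
  have ck : α * k * α = k := by
    have := ev_of_chk R 1 d2
    rwa [ev_append, ev_append, hev1, hek', ← mul_assoc] at this
  have cν : α * fQ t w r k n z s 2 * α = fQ t w r k n z s 2 := by
    have := ev_of_chk R 1 d3
    rwa [ev_append, ev_append, hev1, ← mul_assoc] at this
  have cν' : α * fQ t w r k n z s 3 * α = fQ t w r k n z s 3 := by
    have := ev_of_chk R 1 d4
    rwa [ev_append, ev_append, hev1, ← mul_assoc] at this
  have ce : α * fQ t w r k n z s 4 * α = fQ t w r k n z s 4 * z := by
    have := ev_of_chk R 1 d5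
    rwa [ev_append, ev_append, ev_append, hev1, hez', ← mul_assoc] at this
  have ct : α * t * α = t * (fQ t w r k n z s 2 * a) := by
    have := ev_of_chk R 1 d6
    rwa [ev_append, ev_append, ev_append, ev_append, hev1, hea, het', ← mul_assoc] at this
  have ct' : α * (r * t * r⁻¹) * α = r * t * r⁻¹ * (fQ t w r k n z s 3 * a) := by
    have := ev_of_chk R 1 d7
    rw [ev_append, ev_append, ev_append, ev_append, hev1, hea, ← mul_assoc] at this
    have e1 : ev (lt t w r k n z s 1) [2,0,3] = r * t * r⁻¹ := ev4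
    rw [e1] at this
    exact this
  have hαc : ∀ x ∈ A, α * x * α ∈ A := by
    intro x hx
    have := p.la.conj_mem α αa x hx
    rwa [hαinv] at this
  set x' := b * (α * b * α) with hx'
  have hbx : α * b * α = b * x' := by rw [hx', ← mul_assoc b b, B.b2, one_mul]
  have hx'A : x' ∈ A := A.mul_mem B.bA (hαc b B.bA)
  -- the general computation
  have gen : ∀ (y : G) (β β' : Bool), y ∈ A → b * y = y * b * cb β a →
      b * (α * y * α) = α * y * α * b * cb β' a →
      x' * (α * y * α) = α * y * α * x' * cb (β ^^ β') a := by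
    intro y β β' hy h1 h2
    have hcβ : α * cb β a * α = cb β a := by
      have : α * cb β a = cb β a * α := (cb_comm αa.symm β).symm
      rw [this, mul_assoc, αα, mul_one]
    have hy'A := hαc y hy
    have h3 : b * x' * (α * y * α) = α * y * α * (b * x') * cb β a := by
      rw [← hbx]
      calc α * b * α * (α * y * α) = α * b * (α * α) * y * α := by group
        _ = α * (b * y) * α := by rw [αα]; group
        _ = α * (y * (α * α) * b * (α * α) * cb β a) * α := by rw [h1, αα]; group
        _ = α * y * α * (α * b * α) * (α * cb β a * α) := by group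
        _ = _ := by rw [hcβ]
    have h4 : α * y * α * b = b * (α * y * α) * cb β' a := by
      rw [h2]
      cases β'
      · rw [cb_false, mul_one, mul_one]
      · rw [cb_true, mul_assoc _ a, haa, mul_one]
    have hβx : cb β' a * x' = x' * cb β' a := cb_comm (hca x' hx'A).symm β'
    rw [cb_xor haa]
    apply mul_left_cancel (a := b)
    calc b * (x' * (α * y * α)) = b * x' * (α * y * α) := by group
      _ = (α * y * α * b) * x' * cb β a := by rw [h3]; group
      _ = b * (α * y * α) * (cb β' a * x') * cb β a := by rw [h4]; group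
      _ = b * (α * y * α * x') * (cb β' a * cb β a) := by rw [hβx]; group
      _ = b * (α * y * α * x' * (cb β a * cb β' a)) := by
          have : cb β' a * cb β a = cb β a * cb β' a := by cases β <;> cases β' <;> simp [cb]
          rw [this]; group
  have bν0 : b * fQ t w r k n z s 2 = fQ t w r k n z s 2 * b * cb false a := by
    rw [cb_false, mul_one]; exact B.bν
  have bν0' : b * fQ t w r k n z s 3 = fQ t w r k n z s 3 * b * cb false a := by
    rw [cb_false, mul_one]; exact B.bν'
  have ba : b * a = a * b * cb false a := by rw [cb_false, mul_one]; exact hca b B.bA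
  have bk0 : b * k = k * b * cb false a := by rw [cb_false, mul_one]; exact B.bk
  have be0 : b * fQ t w r k n z s 4 = fQ t w r k n z s 4 * b * cb false a := by
    rw [cb_false, mul_one]; exact B.be
  have bt0 : b * t = t * b * cb false a := by rw [cb_false, mul_one]; exact B.bt
  have bt0' : b * (r * t * r⁻¹) = r * t * r⁻¹ * b * cb false a := by
    rw [cb_false, mul_one]; exact B.bt'
  have hνA := hA 2 (by norm_num)
  have hν'A := hA 3 (by norm_num)
  have h0 : x' * z = z * x' := by
    have := gen z true true p.z_mem B.bz (by rw [cz]; exact B.bz)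
    rwa [cz, Bool.xor_self, cb_false, mul_one] at this
  have h1 : x' * k = k * x' := by
    have := gen k false false D.kA bk0 (by rw [ck]; exact bk0)
    rwa [ck, Bool.xor_self, cb_false, mul_one] at this
  have h2 : x' * fQ t w r k n z s 2 = fQ t w r k n z s 2 * x' := by
    have := gen (fQ t w r k n z s 2) false false hνA bν0 (by rw [cν]; exact bν0)
    rwa [cν, Bool.xor_self, cb_false, mul_one] at this
  have h3 : x' * fQ t w r k n z s 3 = fQ t w r k n z s 3 * x' := by
    have := gen (fQ t w r k n z s 3) false false hν'A bν0' (by rw [cν']; exact bν0')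
    rwa [cν', Bool.xor_self, cb_false, mul_one] at this
  have h6 : x' * fQ t w r k n z s 4 = fQ t w r k n z s 4 * x' * a := by
    have h61 : b * (fQ t w r k n z s 4 * z) = fQ t w r k n z s 4 * z * b * cb (false ^^ true) a :=
      comm_mul_right (hca z p.z_mem) be0 B.bz haa
    have := gen (fQ t w r k n z s 4) false (false ^^ true) (hA 6 (by norm_num)) be0
      (by rw [ce]; exact h61)
    rw [ce] at this
    have h62 : x' * (fQ t w r k n z s 4 * z) = fQ t w r k n z s 4 * z * x' * a := this
    apply mul_right_cancel (b := z)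
    calc x' * fQ t w r k n z s 4 * z = x' * (fQ t w r k n z s 4 * z) := by group
      _ = fQ t w r k n z s 4 * (z * x') * a := by rw [h62]; group
      _ = fQ t w r k n z s 4 * x' * (z * a) := by rw [← h0]; group
      _ = fQ t w r k n z s 4 * x' * a * z := by rw [hca z p.z_mem]; group
  have htt : ∀ y ν0 : G, y ∈ A → ν0 ∈ A → b * y = y * b * cb false a → b * ν0 = ν0 * b * cb false a →
      x' * ν0 = ν0 * x' → α * y * α = y * (ν0 * a) → x' * y = y * x' := by
    intro y ν0 hy hν0 e1 e2 e3 e4
    have e5 : b * (y * (ν0 * a)) = y * (ν0 * a) * b * cb (false ^^ (false ^^ false)) a :=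
      comm_mul_right (hca _ (A.mul_mem hν0 p.la.z_mem)) e1
        (comm_mul_right rfl e2 ba haa) haa
    have e6 := gen y false _ hy e1 (by rw [e4]; exact e5)
    rw [e4] at e6
    have e7 : x' * (y * (ν0 * a)) = y * (ν0 * a) * x' := by
      rw [e6]
      show _ * 1 = _
      rw [mul_one]
    have e8 : (ν0 * a) * x' = x' * (ν0 * a) := by
      rw [mul_assoc, ← hca x' hx'A, ← mul_assoc, ← e3, mul_assoc]
    apply mul_right_cancel (b := ν0 * a)
    calc x' * y * (ν0 * a) = x' * (y * (ν0 * a)) := mul_assoc _ _ _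
      _ = y * (ν0 * a) * x' := e7
      _ = y * (ν0 * a * x') := mul_assoc _ _ _
      _ = y * (x' * (ν0 * a)) := by rw [e8]
      _ = y * x' * (ν0 * a) := (mul_assoc _ _ _).symm
  have h5 : x' * t = t * x' := htt t _ D.tA hνA bt0 bν0 h2 ct
  have h4 : x' * (r * t * r⁻¹) = r * t * r⁻¹ * x' :=
    htt _ _ (by have := hA 4 (by norm_num); rwa [ev4] at this) hν'A bt0' bν0' h3 ct'
  -- code of `x'`
  have hcA : Nat.card A = 2 ^ 9 := by rw [p.card_eq, D.card]
  obtain ⟨c, hc256, hcx⟩ := exists_code p.la hcA (fA_mem D B.bA) (fA_gram D B)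
    (u := fun c => key gramA c 8) (fun c hc => Nat.eq_of_beq_eq_true (allB keyA_check c hc)) hx'A
  have bit : ∀ {j : ℕ} (hj : j < 8) {β : Bool}, x' * fA t w r k n z s b j =
      fA t w r k n z s b j * x' * cb β a → xs (fun i => gramA i j) c 8 = β := @fun _ hj _ h =>
    bit_gen p.la (fA_mem D B.bA) (fA_gram D B) hcx hj h
  have g0 := bit (j := 0) (by norm_num) (β := false) (by
    rw [fA_lt (by norm_num), ev0, cb_false, mul_one]; exact h0)
  have g1 := bit (j := 1) (by norm_num) (β := false) (by
    rw [fA_lt (by norm_num), ev1, cb_false, mul_one]; exact h1)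
  have g2 := bit (j := 2) (by norm_num) (β := false) (by
    rw [fA_lt (by norm_num), ev2, cb_false, mul_one]; exact h2)
  have g3 := bit (j := 3) (by norm_num) (β := false) (by
    rw [fA_lt (by norm_num), ev3, cb_false, mul_one]; exact h3)
  have g4 := bit (j := 4) (by norm_num) (β := false) (by
    rw [fA_lt (by norm_num), ev4, cb_false, mul_one]; exact h4)
  have g5 := bit (j := 5) (by norm_num) (β := false) (by
    rw [fA_lt (by norm_num), ev5, cb_false, mul_one]; exact h5)
  have g6 := bit (j := 6) (by norm_num) (β := true) (by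
    rw [fA_lt (by norm_num), ev6, cb_true]; exact h6)
  have h7 := allB alpha_check c hc256
  rw [g0, g1, g2, g3, g4, g5, g6] at h7
  simp only [Bool.or_false, Bool.false_or, Bool.not_true, Bool.or_eq_true] at h7
  have hxk : ∃ (i ε : Bool), x' = cb i z * k * cb ε a := by
    have hio : ∃ i : Bool, io (fA t w r k n z s b) c 8 = cb i z * k := by
      rcases h7 with h | h <;> rw [Nat.eq_of_beq_eq_true h]
      · refine ⟨false, ?_⟩
        show 1 * 1 * fA t w r k n z s b 1 * 1 * 1 * 1 * 1 * 1 * 1 = 1 * k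
        rw [fA_lt (by norm_num), ev1]; simp
      · refine ⟨true, ?_⟩
        show 1 * fA t w r k n z s b 0 * fA t w r k n z s b 1 * 1 * 1 * 1 * 1 * 1 * 1 = z * k
        rw [fA_lt (by norm_num), fA_lt (by norm_num), ev0, ev1]; simp
    obtain ⟨i, hi⟩ := hio
    rcases hcx with h | h
    · exact ⟨i, false, by rw [h, hi, cb_false, mul_one]⟩
    · exact ⟨i, true, by rw [h, hi, cb_true]⟩
  obtain ⟨i, ε, hxe⟩ := hxk
  -- `i = false`
  have hsq : (b * x') * (b * x') = 1 := by
    rw [← hbx]
    calc α * b * α * (α * b * α) = α * b * (α * α) * b * α := by group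
      _ = 1 := by rw [αα, mul_one, mul_assoc α b b, B.b2, mul_one, αα]
  have hbzb : b * z * b = z * a := by
    rw [B.bz, mul_assoc, ← hca b B.bA, ← mul_assoc, mul_assoc z b b, B.b2, mul_one]
  have hkk := R.k2
  have hkz := comm_k R
  have hka := hca k D.kA
  have hza := hca z p.z_mem
  have hi : i = false := by
    cases i
    · rfl
    · exfalso
      apply p.la.z_ne
      have h8 : b * x' * b = z * a * k * cb ε a := by
        rw [hxe, cb_true]
        have h9 : cb ε a * b = b * cb ε a := cb_comm (hca b B.bA).symm ε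
        calc b * (z * k * cb ε a) * b = b * z * k * (cb ε a * b) := by group
          _ = b * z * (k * b) * cb ε a := by rw [h9]; group
          _ = (b * z * b) * k * cb ε a := by rw [← B.bk]; group
          _ = z * a * k * cb ε a := by rw [hbzb]
      have h10 : (b * x') * (b * x') = a := by
        rw [← mul_assoc, h8, hxe, cb_true]
        have hε : cb ε a * cb ε a = 1 := by cases ε <;> simp [cb, haa]
        have h13 : cb ε a * z = z * cb ε a := cb_comm hza.symm ε
        have h14 : cb ε a * k = k * cb ε a := cb_comm hka.symm ε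
        calc z * a * k * cb ε a * (z * k * cb ε a) = z * a * k * (cb ε a * z) * k * cb ε a := by group
          _ = z * a * (k * z) * (cb ε a * k) * cb ε a := by rw [h13]; group
          _ = z * a * z * (k * k) * (cb ε a * cb ε a) := by rw [h14, hkz]; group
          _ = z * (a * z) := by rw [hkk, hε]; group
          _ = (z * z) * a := by rw [← hza]; group
          _ = a := by rw [p.lz.z_sq, one_mul]
      rw [← h10]; exact hsq
  rw [hi, cb_false, one_mul] at hxe
  refine ⟨ε, ?_⟩
  -- `b α b = α k a^ε`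
  have h11 : α * b * α = b * k * cb ε a := by rw [hbx, hxe, mul_assoc]
  have hαk : α * k = k * α := by
    calc α * k = (α * k * α) * α := by rw [mul_assoc _ α α, αα, mul_one]
      _ = k * α := by rw [ck]
  have h12 : cb ε a * α = α * cb ε a := cb_comm αa.symm ε
  calc b * α * b = b * (α * b * α) * α := by
        rw [mul_assoc b (α * b * α) α, mul_assoc _ α α, αα, mul_one, mul_assoc]
    _ = (b * b) * k * (cb ε a * α) := by rw [h11]; group
    _ = (k * α) * cb ε a := by rw [B.b2, h12]; group
    _ = α * k * cb ε a := by rw [hαk]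

/-! ### the choice of the sign -/

/-- the element `b` with its action on `α` -/
structure B2 (p : Pair Q z A a) (t w r k n s b : G) : Prop extends B1 p t w r k n s b where
  bα : b * fQ t w r k n z s 1 * b = fQ t w r k n z s 1 * k

theorem sign_check : (chk (wQ 4 ++ (wQ 1 ++ wQ 4)) (wQ 1 ++ [6]) && (chk (wQ 4 ++ wQ 4) [] &&
    chk ([2] ++ wQ 4) (wQ 4 ++ [2]))) = true := by decide +kernel

theorem exists_B2' [Finite G] {p : Pair Q z A a} (D : Loc p t w r k n s) :
    ∃ k' n' b, ((k' = k ∧ n' = n) ∨ (k' = k * z ∧ n' = n * z)) ∧ Loc p t w r k' n' s ∧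
      B2 p t w r k' n' s b := by
  obtain ⟨b, B⟩ := exists_B1 D
  obtain ⟨ε, hε⟩ := conj_alpha D B
  cases ε
  · refine ⟨k, n, b, Or.inl ⟨rfl, rfl⟩, D, ⟨B, ?_⟩⟩
    rw [hε, cb_false, mul_one]
  · have R := D.rels
    have haa : a * a = 1 := p.la.z_sq
    have hA := wA_mem D
    have hca : ∀ x ∈ A, x * a = a * x := fun x hx => p.la.comm_z x hx
    have hc := sign_check
    simp only [Bool.and_eq_true] at hc
    obtain ⟨c1, c2, c3⟩ := hc
    set e := fQ t w r k n z s 4 with he
    have heA : e ∈ A := hA 6 (by norm_num)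
    have hev6 : ev (lt t w r k n z s 1) (wA 6) = e := rfl
    have hevq : ev (lt t w r k n z s 1) (wQ 4) = e := rfl
    have hez' : ev (lt t w r k n z s 1) [6] = z := by simp [ev, lt]
    have her' : ev (lt t w r k n z s 1) [2] = r := by simp [ev, lt]
    have eαe : e * fQ t w r k n z s 1 * e = fQ t w r k n z s 1 * z := by
      have := ev_of_chk R 1 c1
      rwa [ev_append, ev_append, ev_append, hevq, hez', ← mul_assoc] at this
    have ee : e * e = 1 := by
      have := ev_of_chk R 1 c2
      rwa [ev_append, ev_nil, hevq] at this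
    have er : r * e = e * r := by
      have := ev_of_chk R 1 c3
      rwa [ev_append, ev_append, hevq, her'] at this
    have gA : ∀ {j : ℕ} (hj : j < 7), e * ev (lt t w r k n z s 1) (wA j) =
        ev (lt t w r k n z s 1) (wA j) * e * cb (gramA 6 j) a := @fun j hj => by
      have := gramA_eq D (i := 6) (j := j) (by norm_num) hj
      rwa [hev6] at this
    have g0 : e * z = z * e * cb false a := by
      have := gA (j := 0) (by norm_num); rwa [ev0] at this
    have g1 : e * k = k * e * cb true a := by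
      have := gA (j := 1) (by norm_num); rwa [ev1] at this
    have g2 : e * fQ t w r k n z s 2 = fQ t w r k n z s 2 * e * cb false a := gA (j := 2) (by norm_num)
    have g3 : e * fQ t w r k n z s 3 = fQ t w r k n z s 3 * e * cb false a := gA (j := 3) (by norm_num)
    have g4 : e * (r * t * r⁻¹) = r * t * r⁻¹ * e * cb false a := by
      have := gA (j := 4) (by norm_num); rwa [ev4] at this
    have g5 : e * t = t * e * cb false a := by
      have := gA (j := 5) (by norm_num); rwa [ev5] at this
    have g6 : e * e = e * e * cb false a := by rw [cb_false, mul_one]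
    have f1 : ∀ {x y : G}, x * y = y * x → x * y = y * x * cb false a := fun h => by
      rw [cb_false, mul_one]; exact h
    have f2 : ∀ {x y : G}, x * y = y * x * cb false a → x * y = y * x := fun h => by
      rwa [cb_false, mul_one] at h
    have hea := hca e heA
    have key : ∀ {y : G}, b * y = y * b → e * y = y * e * cb false a → b * e * y = y * (b * e) :=
      fun h1 h2 => f2 (comm_mul hea (f1 h1) h2 haa)
    have hFQ : ∀ i < 8, fQ t w r (k * z) (n * z) z s i = fQ t w r k n z s i := fun i hi => fQ_flip R hi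
    have hbez : b * e * z = z * (b * e) * a := comm_mul (β := true) hea B.bz g0 haa
    have heb : e * b = b * e := B.be.symm
    refine ⟨k * z, n * z, b * e, Or.inr ⟨rfl, rfl⟩, loc_flip D, ⟨⟨A.mul_mem B.bA heA, ?_, hbez, ?_, ?_, ?_, ?_, ?_, ?_, ?_⟩, ?_⟩⟩
    · calc b * e * (b * e) = b * (e * b) * e := by group
        _ = (b * b) * (e * e) := by rw [heb]; group
        _ = 1 := by rw [B.b2, ee, one_mul]
    · exact f2 (comm_mul_right (β := true) (γ := true) (hca z p.z_mem)
        (comm_mul (β := false) (γ := true) hea (f1 B.bk) g1 haa) hbez haa)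
    · rw [hFQ 4 (by norm_num)]; exact key B.be g6
    · rw [hFQ 2 (by norm_num)]; exact key B.bν g2
    · rw [hFQ 3 (by norm_num)]; exact key B.bν' g3
    · exact key B.bt g5
    · exact key B.bt' g4
    · rw [← mul_assoc, B.br, mul_assoc, er, mul_assoc]
    · rw [hFQ 1 (by norm_num)]
      have hbzb : b * z * b = z * a := by
        rw [B.bz, mul_assoc, ← hca b B.bA, ← mul_assoc, mul_assoc z b b, B.b2, mul_one]
      calc b * e * fQ t w r k n z s 1 * (b * e) = b * (e * fQ t w r k n z s 1) * (b * e) := by group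
        _ = b * (e * fQ t w r k n z s 1) * (e * b) := by rw [heb]
        _ = b * (e * fQ t w r k n z s 1 * e) * b := by group
        _ = b * fQ t w r k n z s 1 * (b * b) * z * b := by rw [eαe, B.b2]; group
        _ = (b * fQ t w r k n z s 1 * b) * (b * z * b) := by group
        _ = fQ t w r k n z s 1 * k * (a * z) * a := by rw [hε, hbzb, cb_true]; group
        _ = fQ t w r k n z s 1 * (k * z) * (a * a) := by rw [← hca z p.z_mem]; group
        _ = fQ t w r k n z s 1 * (k * z) := by rw [haa, mul_one]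

theorem exists_B2 [Finite G] {p : Pair Q z A a} (D : Loc p t w r k n s) :
    ∃ k' n' b, Loc p t w r k' n' s ∧ B2 p t w r k' n' s b := by
  obtain ⟨k', n', b, -, h⟩ := exists_B2' D
  exact ⟨k', n', b, h⟩

end

end Cfsg.Agent.TypeOMinusEight.Swap
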