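import Cfsg.Agent.TypeOMinusEight.Invol
import Cfsg.Agent.TypeOMinusEight.Swap

/-!
The involutions of `C₀` lie in `Q` or are `C₀`-conjugate into `A` (helper46).
-/

set_option autoImplicit false
set_option maxRecDepth 100000

namespace Cfsg.Agent.TypeOMinusEight.InvolF

open Cfsg.Agent.SporadicRecognition.CosetCert Cfsg.Agent.TypeO8Minus.Rel
  Cfsg.Agent.Co2Type.Quad Cfsg.Agent.LargeExtra.Base Cfsg.Agent.TypeOMinusEight.Words
  Cfsg.Agent.TypeOMinusEight.Code Cfsg.Agent.TypeOMinusEight.Data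
  Cfsg.Agent.TypeOMinusEight.Basic Cfsg.Agent.TypeOMinusEight.Cent
  Cfsg.Agent.TypeOMinusEight.EGrp Cfsg.Agent.TypeOMinusEight.VCode Cfsg.Agent.TypeOMinusEight.Invol
  Cfsg.Agent.TypeOMinusEight.Swap

/-- equality of words up to the letter `6` -/
def chkz (u v : List ℕ) : Bool := chk u v || chk u (v ++ [6])

/-- check of the action on `V` -/
def chkVT (g T : List ℕ) : Bool :=
  g.all (fun x => Nat.ble x 7) &&
    (List.range 8).all fun i => chkz (g ++ (wQ i ++ iv g)) (iw wQ (T.getD i 0) 8)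

/-- tables of the first eight elements of `⟨t, r, k⟩` on `V` -/
def tabH : List (List ℕ) := [[1, 2, 4, 8, 16, 32, 64, 128], [1, 2, 4, 8, 17, 34, 68, 136],
  [1, 7, 4, 9, 16, 112, 64, 144], [1, 11, 5, 8, 16, 176, 80, 128], [1, 15, 5, 9, 16, 240, 80, 144],
  [1, 7, 4, 9, 17, 119, 68, 153], [1, 11, 5, 8, 17, 187, 85, 136], [1, 15, 5, 9, 17, 255, 85, 153]]

def tabT (j i : ℕ) : ℕ := (tabH.getD j []).getD i 0

theorem tabH_check : (List.range 8).all (fun j => chkVT (hsW j) (tabH.getD j []) &&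
    chk (hsW j ++ hsW j) []) = true := by decide +kernel

def sqc : List ℕ := [4, 4, 4, 4, 4, 4, 4, 4, 12, 8, 13, 9, 12, 12, 8, 8, 13, 13, 9, 9, 12, 8, 13, 9]

theorem sq_check : (List.range 24).all (fun j => Nat.blt j 8 || (!Nat.beq (sqc.getD j 0) 4 &&
    (Nat.blt (sqc.getD j 0) 256 && chkz ((hsW j ++ hsW j) ++ (wQ 2 ++ iv (hsW j ++ hsW j)))
      (iw wQ (sqc.getD j 0) 8)))) = true := by decide +kernel

theorem free_check : (List.range 8).all (fun j => Nat.beq j 0 || (List.range 256).all fun c =>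
    !Nat.beq (tv (tabT j) c) c || (List.range 256).any fun d => Nat.beq (tv (tabT j) d ^^^ d) c) = true := by
  decide +kernel

section

variable {G : Type*} [Group G] {Q A : Subgroup G} {z a : G} {t w r k n s : G} {p : Pair Q z A a}

theorem ev_chkz (R : RelsC t w r k n z s) {u v : List ℕ} (h : chkz u v = true) :
    ev (lt t w r k n z s 1) u = ev (lt t w r k n z s 1) v ∨
    ev (lt t w r k n z s 1) u = ev (lt t w r k n z s 1) v * z := by
  rw [chkz, Bool.or_eq_true] at h
  rcases h with h | h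
  · exact Or.inl (ev_of_chk R 1 h)
  · right
    have := ev_of_chk R 1 h
    rw [ev_append] at this
    rw [this]
    congr 1
    simp [ev, lt]

theorem VC_chkz (R : RelsC t w r k n z s) {u : List ℕ} {c : ℕ} (h : chkz u (iw wQ c 8) = true) :
    VC t w r k n z s c (ev (lt t w r k n z s 1) u) := by
  rcases ev_chkz R h with h | h
  · left; rw [h, ev_iw]; rfl
  · right; rw [h, ev_iw]; rfl

theorem VT_of_chk (R : RelsC t w r k n z s) {g T : List ℕ} (h : chkVT g T = true) :
    VT t w r k n z s (ev (lt t w r k n z s 1) g) (fun i => T.getD i 0) := by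
  rw [chkVT, Bool.and_eq_true] at h
  intro i hi
  have h1 := VC_chkz R (allB h.2 i hi)
  rw [ev_append, ev_append, ev_iv R 1 h.1, ← mul_assoc] at h1
  exact h1

theorem hs_mem_A (D : Loc p t w r k n s) {j : ℕ} (hj : j < 8) : ev (lt t w r k n z s 1) (hsW j) ∈ A := by
  have hk : ev (lt t w r k n z s 1) [4] ∈ A := by
    have : ev (lt t w r k n z s 1) [4] = k := by simp [ev, lt]
    rw [this]; exact D.kA
  have ht : ev (lt t w r k n z s 1) [0] ∈ A := by
    have : ev (lt t w r k n z s 1) [0] = t := by simp [ev, lt]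
    rw [this]; exact D.tA
  have ht' : ev (lt t w r k n z s 1) [2, 0, 3] ∈ A := by
    have : ev (lt t w r k n z s 1) [2, 0, 3] = r * t * r⁻¹ := by simp [ev, lt, mul_assoc]
    rw [this]; exact p.la.conj_mem r (ra D) _ D.tA
  interval_cases j
  · exact A.one_mem
  · exact hk
  · exact ht
  · exact ht'
  · show ev _ ([0] ++ [2, 0, 3]) ∈ A
    rw [ev_append]; exact A.mul_mem ht ht'
  · show ev _ ([4] ++ [0]) ∈ A
    rw [ev_append]; exact A.mul_mem hk ht
  · show ev _ ([4] ++ [2, 0, 3]) ∈ A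
    rw [ev_append]; exact A.mul_mem hk ht'
  · show ev _ ([4] ++ ([0] ++ [2, 0, 3])) ∈ A
    rw [ev_append, ev_append]; exact A.mul_mem hk (A.mul_mem ht ht')

/-- **The involutions of `C₀`.** -/
theorem invol [Finite Q] (D : Loc p t w r k n s) {y : G} (hy : y ∈ C0 t w r k n z s) (hy2 : y * y = 1) :
    y ∈ Q ∨ ∃ g ∈ C0 t w r k n z s, g⁻¹ * y * g ∈ A := by
  have R := D.rels
  have hC0z : ∀ g ∈ C0 t w r k n z s, g * z = z * g := by
    have hle : C0 t w r k n z s ≤ Subgroup.centralizer ({z} : Set G) := by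
      rw [Subgroup.closure_le]
      intro y hy
      simp only [Set.mem_insert_iff, Set.mem_singleton_iff] at hy
      apply Subgroup.mem_centralizer_singleton_iff.2
      rcases hy with rfl | rfl | rfl | rfl | rfl | rfl | rfl
      · exact comm_t R
      · exact comm_w R
      · exact comm_r R
      · exact comm_k R
      · exact comm_n R
      · rfl
      · exact p.lz.comm_z _ D.s_mem
    exact fun g hg => Subgroup.mem_centralizer_singleton_iff.1 (hle hg)
  have hyz := hC0z y hy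
  obtain ⟨c, hc, hfix⟩ := exists_fix D hyz hy2
  obtain ⟨ρ, hρ, hρa⟩ := exists_conj_a D hc
  have hρC := N0_le (z := z) (s := s) hρ
  have hρz := hC0z ρ hρC
  -- `y' = ρ⁻¹ y ρ`
  set y' := ρ⁻¹ * y * ρ with hy'
  have hy'C : y' ∈ C0 t w r k n z s := Subgroup.mul_mem _ (Subgroup.mul_mem _ (Subgroup.inv_mem _ hρC) hy) hρC
  have hy'2 : y' * y' = 1 := by
    rw [hy', show ρ⁻¹ * y * ρ * (ρ⁻¹ * y * ρ) = ρ⁻¹ * (y * y) * ρ by group, hy2]; group
  have hy'z := hC0z y' hy'C
  have hρiz : ρ⁻¹ * z * ρ = z := by rw [mul_assoc, ← hρz]; group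
  have hfix' : VC t w r k n z s 1 (y' * a * y'⁻¹) := by
    have e1 : a = ρ⁻¹ * io (fQ t w r k n z s) c 8 * ρ := by rw [← hρa]; group
    have e2 : y' * a * y'⁻¹ = ρ⁻¹ * (y * io (fQ t w r k n z s) c 8 * y⁻¹) * ρ := by
      rw [e1, hy']; group
    rw [e2]
    rcases hfix with h | h
    · rw [h, ← e1]; exact VC_a D
    · rw [h]
      have e3 : ρ⁻¹ * (io (fQ t w r k n z s) c 8 * z) * ρ = a * z := by
        rw [e1]
        calc _ = ρ⁻¹ * io (fQ t w r k n z s) c 8 * ρ * (ρ⁻¹ * z * ρ) := by group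
          _ = _ := by rw [hρiz]
      rw [e3]
      exact VC_mul_z D (VC_a D)
  obtain ⟨x, hx, q, hq, hxq⟩ := C0_eq D hy'C
  have hxz := comm_N0 R hx
  -- `x` fixes `a` modulo `z`
  have hxa : VC t w r k n z s 1 (x * a * x⁻¹) := by
    have e1 : x * a * x⁻¹ = y' * (q⁻¹ * a * q) * y'⁻¹ := by rw [hxq]; group
    rw [e1]
    have hqi := Q.inv_mem hq
    rcases p.lz.comm q⁻¹ hqi a p.a_mem with h | h
    · have e2 : q⁻¹ * a * q = a := by rw [h]; group
      rw [e2]; exact hfix'
    · have hzq : z * q = q * z := (p.lz.comm_z q hq).symm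
      have e2 : q⁻¹ * a * q = a * z := by
        rw [h]
        calc a * q⁻¹ * z * q = a * q⁻¹ * (z * q) := by group
          _ = a * z := by rw [hzq]; group
      rw [e2]
      have e3 : y' * (a * z) * y'⁻¹ = y' * a * y'⁻¹ * z := by
        have : z * y'⁻¹ = y'⁻¹ * z := by
          calc z * y'⁻¹ = y'⁻¹ * (y' * z) * y'⁻¹ := by group
            _ = y'⁻¹ * z := by rw [hy'z]; group
        calc y' * (a * z) * y'⁻¹ = y' * a * (z * y'⁻¹) := by group
          _ = _ := by rw [this]; group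
      rw [e3]
      exact VC_mul_z D hfix'
  obtain ⟨j, hj, hxj⟩ := N0_stab D hx hxa
  -- `x² ∈ Q`
  have hxx : x * x ∈ Q := by
    have e1 : x * x = (x * q⁻¹ * x⁻¹) * (q⁻¹ * q) * (x * q * x) := by group
    have e2 : x * q * x = q⁻¹ := by
      rw [hxq] at hy'2
      calc x * q * x = (x * q * (x * q)) * q⁻¹ := by group
        _ = q⁻¹ := by rw [hy'2, one_mul]
    rw [e1, e2, inv_mul_cancel, mul_one]
    exact Q.mul_mem (p.lz.conj_mem x hxz _ (Q.inv_mem hq)) (Q.inv_mem hq)
  have hj8 : j < 8 := by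
    by_contra hj8
    have h1 := allB sq_check j hj
    have h2 : Nat.blt j 8 = false := by
      rcases h : Nat.blt j 8 with _ | _
      · rfl
      · exact absurd (Nat.le_of_ble_eq_true h) (by omega)
    rw [h2, Bool.false_or, Bool.and_eq_true, Bool.and_eq_true] at h1
    obtain ⟨h3, h4, h5⟩ := h1
    have h4' : sqc.getD j 0 < 256 := Nat.le_of_ble_eq_true h4
    have hlet : ((hsW j ++ hsW j).all fun x => Nat.ble x 7) = true := by
      rw [List.all_eq_true]
      intro x hx
      have : x ∈ hsW j := by simpa using hx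
      apply Nat.ble_eq_true_of_le
      rcases hs_letters hj x this with h | h | h | h <;> omega
    have h6 := VC_chkz R h5
    rw [ev_append _ (hsW j ++ hsW j), ev_append _ (wQ 2), ev_iv R 1 hlet, ← mul_assoc, ev_append, ← hxj] at h6
    have h7 : VC t w r k n z s 4 (x * x * fQ t w r k n z s 2 * (x * x)⁻¹) := by
      have h8 : fQ t w r k n z s 2 = io (fQ t w r k n z s) 4 8 := f_eq_io R (i := 2) (by norm_num)
      have hf := f_mem D 2 (by norm_num)
      rcases p.lz.comm _ hxx _ hf with h9 | h9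
      · left; rw [h9, ← h8]; group
      · right
        rw [h9, ← h8]
        have : z * (x * x)⁻¹ = (x * x)⁻¹ * z := (p.lz.comm_z _ (Q.inv_mem hxx)).symm
        rw [mul_assoc _ z, this]; group
    have h10 := VC_inj D h4' (by norm_num) h6 h7
    rw [h10] at h3
    exact absurd h3 (by decide)
  have h1 := allB tabH_check j hj8
  rw [Bool.and_eq_true] at h1
  have hxx1 : x * x = 1 := by
    have := ev_of_chk R 1 h1.2
    rwa [ev_append, ev_nil, ← hxj] at this
  have hxi : x⁻¹ = x := inv_eq_of_mul_eq_one_left hxx1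
  by_cases hj0 : j = 0
  · left
    have hx1 : x = 1 := by rw [hxj, hj0]; rfl
    rw [hx1, one_mul] at hxq
    have e : y = ρ * y' * ρ⁻¹ := by rw [hy']; group
    rw [e, hxq]
    exact p.lz.conj_mem ρ hρz q hq
  · right
    have hVT : ∀ i < 8, VC t w r k n z s (tabT j i) (x * fQ t w r k n z s i * x⁻¹) := by
      have := VT_of_chk R h1.1
      rw [← hxj] at this
      exact this
    obtain ⟨c, hc256, hcq⟩ := exists_VC D hq
    have h2 := VC_conj D hxz hVT hcq
    have e2 : x * q * x⁻¹ = q⁻¹ := by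
      rw [hxq] at hy'2
      calc x * q * x⁻¹ = (x * q * (x * q)) * q⁻¹ := by rw [hxi]; group
        _ = q⁻¹ := by rw [hy'2, one_mul]
    rw [e2] at h2
    have htv_lt : ∀ j < 8, ∀ c < 256, tv (tabT j) c < 256 := by
      have : (List.range 8).all (fun j => (List.range 256).all fun c => Nat.blt (tv (tabT j) c) 256) = true := by
        decide +kernel
      exact fun j hj c hc => Nat.le_of_ble_eq_true (allB (allB this j hj) c hc)
    have h3 : tv (tabT j) c = c := VC_inj D (htv_lt j hj8 c hc256) hc256 h2 (VC_inv D hcq)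
    have h4 := allB free_check j hj8
    have hj0' : Nat.beq j 0 = false := by
      rcases h : Nat.beq j 0 with _ | _
      · rfl
      · exact absurd (Nat.eq_of_beq_eq_true h) hj0
    rw [hj0', Bool.false_or] at h4
    have h5 := allB h4 c hc256
    rw [h3, Nat.beq_refl, Bool.not_true, Bool.false_or, List.any_eq_true] at h5
    obtain ⟨d, hd, hdc⟩ := h5
    have hdc' := Nat.eq_of_beq_eq_true hdc
    set v := io (fQ t w r k n z s) d 8 with hv
    have hvQ : v ∈ Q := io_mem (f_mem D) d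
    have h6 : VC t w r k n z s c (x * v * x⁻¹ * v⁻¹) := by
      rw [← hdc']
      exact VC_mul D (VC_conj D hxz hVT (VC_self d)) (VC_inv D (VC_self d))
    have hmem : x * v * x⁻¹ * v⁻¹ ∈ Q := h6.mem D
    have h7 : x * v * x⁻¹ * v⁻¹ = q ∨ x * v * x⁻¹ * v⁻¹ = q * z := by
      rw [← pr_eq_vc D hmem, ← (pr_eq_vc D hq c).2 hcq] at h6
      exact p.lz.pr_eq_pr.1 h6
    have hvz := p.lz.comm_z v hvQ
    have hvy : v⁻¹ * y' * v ∈ A := by
      have hxA : x ∈ A := by rw [hxj]; exact hs_mem_A D hj8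
      rcases h7 with h7 | h7
      · have e : v⁻¹ * y' * v = x := by
          rw [hxq, ← h7]
          calc v⁻¹ * (x * (x * v * x⁻¹ * v⁻¹)) * v = v⁻¹ * (x * x) * v * x⁻¹ := by group
            _ = x := by rw [hxx1, hxi]; group
        rw [e]; exact hxA
      · have hq' : q = x * v * x⁻¹ * v⁻¹ * z := by rw [h7, mul_assoc, p.lz.z_sq, mul_one]
        have e : v⁻¹ * y' * v = x * z := by
          rw [hxq, hq']
          calc v⁻¹ * (x * (x * v * x⁻¹ * v⁻¹ * z)) * v = v⁻¹ * (x * x) * v * x⁻¹ * v⁻¹ * (z * v) := by group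
            _ = x * z := by rw [hxx1, hxi, ← hvz]; group
        rw [e]; exact A.mul_mem hxA p.z_mem
    refine ⟨ρ * v, Subgroup.mul_mem _ hρC (Q_le_C0 D hvQ), ?_⟩
    have e : (ρ * v)⁻¹ * y * (ρ * v) = v⁻¹ * y' * v := by rw [hy']; group
    rw [e]
    exact hvy

end

end Cfsg.Agent.TypeOMinusEight.InvolF
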