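import Cfsg.Agent.TypeOMinusEight.MOne

/-!
The relation `(m w) ^ 4 = 1` (helper46).
-/

set_option autoImplicit false
set_option maxRecDepth 100000

namespace Cfsg.Agent.TypeOMinusEight.MFour

open Cfsg.Agent.SporadicRecognition.CosetCert Cfsg.Agent.TypeO8Minus.Rel
  Cfsg.Agent.Co2Type.Quad Cfsg.Agent.LargeExtra.Base Cfsg.Agent.TypeOMinusEight.Words
  Cfsg.Agent.TypeOMinusEight.Code Cfsg.Agent.TypeOMinusEight.Data
  Cfsg.Agent.TypeOMinusEight.Basic Cfsg.Agent.TypeOMinusEight.Cent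
  Cfsg.Agent.TypeOMinusEight.EGrp Cfsg.Agent.TypeOMinusEight.Swap
  Cfsg.Agent.TypeOMinusEight.EAct Cfsg.Agent.TypeOMinusEight.MOne

section

variable {G : Type*} [Group G] {Q A : Subgroup G} {z a : G} {t w r k n s b m : G}

/-- the tables of `w t`, `t w`, `t r`, `w t w r` -/
def Lwt : List ℕ := cmp Lw Lt
def Ltw : List ℕ := cmp Lt Lw
def Ltr : List ℕ := cmp Lt Lr
def Lwtwr : List ℕ := cmp (cmp (cmp Lw Lt) Lw) Lr
def Lc : List ℕ := cmp (cmp Lm Lw) (cmp Lm Lw)

theorem order_three {L : List ℕ} {x y : G} (R : RelsC t w r k n z s) (hz : z ≠ 1)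
    (hL : (L.all fun x => Nat.blt x 64) = true) (hy : CE t w r k n z s y L) {v : ℕ} (hv : v < 64)
    (hx : x = io (fE t w r k n z s) v 6 * y) (hx3 : x * x * x = 1) (hy3 : y * y * y = 1) :
    v ^^^ (ta L v ^^^ ta L (ta L v)) = 0 := by
  have hxor := fun c d => io_xor (E_sq R) (E_comm R) c d
  refine inj0 hz R (Nat.xor_lt_two_pow (n := 6) hv (Nat.xor_lt_two_pow (n := 6) (ta_lt hL _) (ta_lt hL _))) ?_
  rw [hxor, hxor, ← CE.apply R hy (ta L v), ← CE.apply R hy v]
  set i := io (fE t w r k n z s) v 6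
  calc i * (y * i * y⁻¹ * (y * (y * i * y⁻¹) * y⁻¹)) = (i * y) * (i * y) * (i * y) * (y * y * y)⁻¹ := by group
    _ = 1 := by rw [← hx, hx3, hy3, inv_one, mul_one]

theorem check1 : ∀ v < 64, v ^^^ (ta Ltw v ^^^ ta Ltw (ta Ltw v)) = 0 → bt v 0 = false := by
  decide +kernel

theorem check2 : ∀ v < 64, v ^^^ (ta Lwtwr v ^^^ ta Lwtwr (ta Lwtwr v)) = 0 →
    bt (ta Ltw v) 0 = false := by decide +kernel

theorem check3 : ∀ v < 64, ta (cmp Lm Lw) v = v → ta Lr v = v → bt v 0 = false → v = 0 := by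
  decide +kernel

theorem mw4 [Finite Q] {p : Pair Q z A a} (D : Loc p t w r k n s) (M : M1 p t w r k n s b m) :
    (m * w) ^ 4 = 1 := by
  have R := D.rels
  have hzne := p.lz.z_ne
  have mm := M.m2
  have tt := R.t2
  have ww := R.w2
  have mi : m⁻¹ = m := inv_eq_of_mul_eq_one_left mm
  have ti : t⁻¹ = t := inv_eq_of_mul_eq_one_left tt
  have wi : w⁻¹ = w := inv_eq_of_mul_eq_one_left ww
  have cm := M.cm
  have cw := CE_w R
  have ct := CE_t R
  have cr := CE_r R
  have rw' : r * w = w * r⁻¹ := by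
    have := ev_of_chk R 1 (show chk [2,1] [1,3] = true by decide +kernel)
    simpa [ev, lt] using this
  have riw : r⁻¹ * w = w * r := by
    have := ev_of_chk R 1 (show chk [3,1] [1,2] = true by decide +kernel)
    simpa [ev, lt] using this
  have rim : r⁻¹ * m = m * r⁻¹ := by
    calc r⁻¹ * m = r⁻¹ * (m * r) * r⁻¹ := by group
      _ = r⁻¹ * (r * m) * r⁻¹ := by rw [M.mr]
      _ = m * r⁻¹ := by group
  have cg := CE.mul R cm cw
  have hx : CE t w r k n z s ((m * w) * (m * w) * ((m * w) * (m * w))) Lid :=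
    CE.mul' R (CE.mul R cg cg) (CE.mul R cg cg) (by decide +kernel)
  obtain ⟨v, hv, hxv⟩ := mem_of_CE D hx
  have h1 : ta (cmp Lm Lw) v = v := by
    refine fix_of_comm hzne R cg (by decide +kernel) hv ?_
    rw [← hxv]; group
  have h2 : ta Lr v = v := by
    refine fix_of_comm hzne R cr (by decide +kernel) hv ?_
    rw [← hxv]
    have e1 : Commute r ((m * w) * (m * w)) := by
      show r * ((m * w) * (m * w)) = (m * w) * (m * w) * r
      calc r * ((m * w) * (m * w)) = (r * m) * w * m * w := by group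
        _ = m * (r * w) * m * w := by rw [M.mr]; group
        _ = m * w * (r⁻¹ * m) * w := by rw [rw']; group
        _ = m * w * m * (r⁻¹ * w) := by rw [rim]; group
        _ = (m * w) * (m * w) * r := by rw [riw]; group
    exact (e1.mul_right e1).eq
  have crinv : CE t w r k n z s r⁻¹ (cmp Lr Lr) := by
    have e : r⁻¹ = r * r := by
      rw [inv_eq_iff_mul_eq_one, ← mul_assoc]; exact R.r3
    rw [e]; exact CE.mul R cr cr
  -- `c = (m w)²`
  have cinv : ((m * w) * (m * w))⁻¹ = w * m * (w * m) := by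
    rw [mul_inv_rev, mul_inv_rev, mi, wi]
  have cc : CE t w r k n z s ((m * w) * (m * w)) (cmp (cmp Lm Lw) (cmp Lm Lw)) := CE.mul R cg cg
  have cci : CE t w r k n z s ((m * w) * (m * w))⁻¹ (cmp (cmp Lw Lm) (cmp Lw Lm)) := by
    rw [cinv]; exact CE.mul R (CE.mul R cw cm) (CE.mul R cw cm)
  set c := (m * w) * (m * w) with hc
  have hcr : c * r⁻¹ * c⁻¹ = r⁻¹ := by
    have e1 : c * r⁻¹ = r⁻¹ * c := by
      rw [hc]
      calc (m * w) * (m * w) * r⁻¹ = m * w * m * (w * r⁻¹) := by group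
        _ = m * w * (m * r) * w := by rw [← rw']; group
        _ = m * (w * r) * m * w := by rw [← M.mr]; group
        _ = (m * r⁻¹) * w * m * w := by rw [← riw]; group
        _ = r⁻¹ * ((m * w) * (m * w)) := by rw [← rim]; group
    rw [e1]; group
  have hcw : c * w * c⁻¹ = c * c * w := by
    have e1 : w * c⁻¹ * w = c := by
      rw [cinv, hc]
      calc w * (w * m * (w * m)) * w = (w * w) * m * w * m * w := by group
        _ = m * w * (m * w) := by rw [ww]; group
    calc c * w * c⁻¹ = c * (w * c⁻¹ * (w * w)) := by rw [ww]; group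
      _ = c * (w * c⁻¹ * w) * w := by group
      _ = c * c * w := by rw [e1]
  -- `y₁`
  have hy1 : CE t w r k n z s (c * (w * t) * c⁻¹ * (w * t)) Lid :=
    CE.mul' R (CE.mul R (CE.mul R cc (CE.mul R cw ct)) cci) (CE.mul R cw ct) (by decide +kernel)
  obtain ⟨v1, hv1, hyv1⟩ := mem_of_CE D hy1
  have hy2 : CE t w r k n z s (c * (t * r) * c⁻¹ * (r⁻¹ * (w * (t * w)))) Lid :=
    CE.mul' R (CE.mul R (CE.mul R cc (CE.mul R ct cr)) cci)
      (CE.mul R crinv (CE.mul R cw (CE.mul R ct cw))) (by decide +kernel)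
  obtain ⟨v2, hv2, hyv2⟩ := mem_of_CE D hy2
  have ctw : CE t w r k n z s (t * w) Ltw := CE.mul R ct cw
  have cwtwr : CE t w r k n z s (w * t * w * r) Lwtwr := CE.mul R (CE.mul R (CE.mul R cw ct) cw) cr
  have e1 : c * (w * t) * c⁻¹ = io (fE t w r k n z s) v1 6 * (t * w) := by
    rw [← hyv1]
    calc c * (w * t) * c⁻¹ = c * (w * t) * c⁻¹ * (w * ((t * t) * w)) := by rw [tt, one_mul, ww, mul_one]
      _ = _ := by group
  have e2 : c * (t * r) * c⁻¹ = io (fE t w r k n z s) v2 6 * (w * t * w * r) := by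
    rw [← hyv2]
    calc c * (t * r) * c⁻¹ = c * (t * r) * c⁻¹ * (r⁻¹ * (w * (t * (w * w) * t) * w) * r) := by
            rw [ww, mul_one, tt, mul_one, ww, mul_one]; group
      _ = _ := by group
  have pow3 : ∀ {y : G}, y ^ 3 = 1 → y * y * y = 1 := fun h => by
    rwa [pow_succ, pow_two] at h
  have conj3 : ∀ {y : G}, y ^ 3 = 1 → (c * y * c⁻¹) * (c * y * c⁻¹) * (c * y * c⁻¹) = 1 := by
    intro y h
    have := pow3 h
    calc (c * y * c⁻¹) * (c * y * c⁻¹) * (c * y * c⁻¹) = c * (y * y * y) * c⁻¹ := by group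
      _ = 1 := by rw [this]; group
  have o1 := order_three R hzne (by decide +kernel) ctw hv1 e1 (conj3 R.wt) (by
    have := ev_of_chk R 1 (show chk [0,1,0,1,0,1] [] = true by decide +kernel)
    simpa [ev, lt, mul_assoc] using this)
  have o2 := order_three R hzne (by decide +kernel) cwtwr hv2 e2 (conj3 R.tr) (by
    have := ev_of_chk R 1 (show chk [1,0,1,2,1,0,1,2,1,0,1,2] [] = true by decide +kernel)
    simpa [ev, lt, mul_assoc] using this)
  have b1 := check1 v1 hv1 o1
  have b2 := check2 v2 hv2 o2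
  have hxor := fun c d => io_xor (E_sq R) (E_comm R) c d
  have hvv : v = v1 ^^^ ta Ltw v2 := by
    refine inj hzne R hv (Nat.xor_lt_two_pow (n := 6) hv1 (ta_lt (by decide +kernel) _)) ?_
    rw [hxor, ← CE.apply R ctw, ← hxv]
    apply mul_right_cancel (b := w)
    calc c * c * w = c * w * c⁻¹ := hcw.symm
      _ = (c * (w * t) * c⁻¹) * (c * (t * r) * c⁻¹) * (c * r⁻¹ * c⁻¹) := by
            calc c * w * c⁻¹ = c * (w * (t * t)) * (r * r⁻¹) * c⁻¹ := by rw [tt, mul_one, mul_inv_cancel, mul_one]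
              _ = _ := by group
      _ = io (fE t w r k n z s) v1 6 * (t * w) * (io (fE t w r k n z s) v2 6 * (w * t * w * r)) * r⁻¹ := by
            rw [e1, e2, hcr]
      _ = io (fE t w r k n z s) v1 6 * (t * w * io (fE t w r k n z s) v2 6 * (t * w)⁻¹) *
            (t * (w * w) * t * w) := by group
      _ = _ := by rw [ww, mul_one, tt, one_mul]
  have hv0 : v = 0 := by
    refine check3 v hv h1 h2 ?_
    rw [hvv, bt_xor, b1, b2]; rfl
  rw [hv0, io_code_zero] at hxv
  have : (m * w) ^ 4 = c * c := by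
    rw [hc, pow_succ, pow_succ, pow_two, mul_assoc, mul_assoc, mul_assoc]
  rw [this]; exact hxv

end

end Cfsg.Agent.TypeOMinusEight.MFour
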