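import Cfsg.Agent.TypeOMinusEight.MOne

/-!
The relation `m u m = t` (helper46).
-/

set_option autoImplicit false
set_option maxRecDepth 100000

namespace Cfsg.Agent.TypeOMinusEight.MLast

open Cfsg.Agent.SporadicRecognition.CosetCert Cfsg.Agent.TypeO8Minus.Rel
  Cfsg.Agent.Co2Type.Quad Cfsg.Agent.LargeExtra.Base Cfsg.Agent.TypeOMinusEight.Words
  Cfsg.Agent.TypeOMinusEight.Code Cfsg.Agent.TypeOMinusEight.Data
  Cfsg.Agent.TypeOMinusEight.Basic Cfsg.Agent.TypeOMinusEight.Cent
  Cfsg.Agent.TypeOMinusEight.EGrp Cfsg.Agent.TypeOMinusEight.Swap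
  Cfsg.Agent.TypeOMinusEight.EAct Cfsg.Agent.TypeOMinusEight.MOne

section

variable {G : Type*} [Group G] {Q A : Subgroup G} {z a : G} {t w r k n s b m : G}

theorem last_check0 : (List.range 64).all (fun v => !(Nat.beq (ta Lt v) v && (Nat.beq (ta Le v) v &&
    (Nat.beq (ta Lb v) v && (Nat.beq (ta Lr (ta Lr v)) (v ^^^ ta Lt (ta Lr v)) &&
    Nat.beq (ta Lt (ta Lu1 (v ^^^ ta Lt (ta Lm (ta Lr v))))) (v ^^^ ta Lt (ta Lm (ta Lr v))))))) ||
    Nat.beq v 0) = true := by decide +kernel

theorem last_check (v : ℕ) (hv : v < 64) (h1 : ta Lt v = v) (h2 : ta Le v = v) (h3 : ta Lb v = v)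
    (h4 : ta Lr (ta Lr v) = v ^^^ ta Lt (ta Lr v))
    (h5 : ta Lt (ta Lu1 (v ^^^ ta Lt (ta Lm (ta Lr v)))) = v ^^^ ta Lt (ta Lm (ta Lr v))) : v = 0 := by
  have h := allB last_check0 v hv
  rw [h5, h4, h1, h2, h3] at h
  simp only [Nat.beq_refl, Bool.and_true, Bool.not_true, Bool.false_or] at h
  exact Nat.eq_of_beq_eq_true h

theorem words_check : (chk (wQ 6 ++ wQ 6) [] && (chk (wQ 7 ++ wQ 7) [] && (chk ([7] ++ wQ 6) (wQ 6 ++ [7]) &&
    (chk (wQ 4 ++ wQ 6) (wQ 6 ++ wQ 4) && (chk (wQ 4 ++ [0]) ([0] ++ wQ 4) &&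
    (chk ([2] ++ (wQ 7 ++ [3])) (wQ 6 ++ wQ 7) && (chk ([2] ++ ([2,0,3] ++ [3])) ([0] ++ [2,0,3]) &&
    (chk ([0] ++ ([2,0,3] ++ ([0] ++ [2,0,3]))) [] && (chk ([2,0,3] ++ [2,0,3]) [] &&
    (chk (wQ 6 ++ ([2,0,3] ++ (wQ 6 ++ [2,0,3]))) (wQ 4) &&
    chk ([0] ++ (wQ 7 ++ ([0] ++ wQ 7))) (wQ 4)))))))))))
    = true := by decide +kernel

theorem mum [Finite Q] {p : Pair Q z A a} (D : Loc p t w r k n s) (M : M1 p t w r k n s b m) :
    m * fQ t w r k n z s 6 * m = t := by
  have R := D.rels
  have hzne := p.lz.z_ne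
  have mm := M.m2
  have tt := R.t2
  have hc := words_check
  simp only [Bool.and_eq_true] at hc
  obtain ⟨c1, c2, c3, c4, c5, c6, c7, c8, c9, c10, c11⟩ := hc
  set u := fQ t w r k n z s 6 with hu
  set u' := fQ t w r k n z s 7 with hu'
  set e := fQ t w r k n z s 4 with he
  set t' := r * t * r⁻¹ with ht'
  have hwu : ev (lt t w r k n z s 1) (wQ 6) = u := rfl
  have hwu' : ev (lt t w r k n z s 1) (wQ 7) = u' := rfl
  have hwe : ev (lt t w r k n z s 1) (wQ 4) = e := rfl
  have hwt' : ev (lt t w r k n z s 1) [2,0,3] = t' := by simp [ev, lt, ht', mul_assoc]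
  have hwt : ev (lt t w r k n z s 1) [0] = t := by simp [ev, lt]
  have hws : ev (lt t w r k n z s 1) [7] = s := by simp [ev, lt]
  have hwr : ev (lt t w r k n z s 1) [2] = r := by simp [ev, lt]
  have hwri : ev (lt t w r k n z s 1) [3] = r⁻¹ := by simp [ev, lt]
  have uu : u * u = 1 := by
    have := ev_of_chk R 1 c1
    rwa [ev_append, ev_nil, hwu] at this
  have u'u' : u' * u' = 1 := by
    have := ev_of_chk R 1 c2
    rwa [ev_append, ev_nil, hwu'] at this
  have su : s * u = u * s := by
    have := ev_of_chk R 1 c3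
    rwa [ev_append, ev_append, hwu, hws] at this
  have eu : e * u = u * e := by
    have := ev_of_chk R 1 c4
    rwa [ev_append, ev_append, hwu, hwe] at this
  have et : e * t = t * e := by
    have := ev_of_chk R 1 c5
    rwa [ev_append, ev_append, hwt, hwe] at this
  have ru' : r * u' * r⁻¹ = u * u' := by
    have := ev_of_chk R 1 c6
    rwa [ev_append, ev_append, ev_append, hwr, hwri, hwu, hwu', ← mul_assoc] at this
  have rt' : r * t' * r⁻¹ = t * t' := by
    have := ev_of_chk R 1 c7
    rwa [ev_append, ev_append, ev_append, hwr, hwri, hwt, hwt', ← mul_assoc] at this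
  have htt' : t * (t' * (t * t')) = 1 := by
    have := ev_of_chk R 1 c8
    rwa [ev_append, ev_append, ev_append, hwt, hwt', ev_nil] at this
  have t't' : t' * t' = 1 := by
    have := ev_of_chk R 1 c9
    rwa [ev_append, hwt', ev_nil] at this
  have hut' : u * (t' * (u * t')) = e := by
    have := ev_of_chk R 1 c10
    rwa [ev_append, ev_append, ev_append, hwu, hwt', hwe] at this
  have htu' : t * (u' * (t * u')) = e := by
    have := ev_of_chk R 1 c11
    rwa [ev_append, ev_append, ev_append, hwt, hwu', hwe] at this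
  have ru : r * u * r⁻¹ = u' := by rw [hu, hu', fQ6, fQ7]
  have cm := M.cm
  have ct := CE_t R
  have hx : CE t w r k n z s (m * u * m * t) Lid :=
    CE.mul' R (CE.mul R (CE.mul R cm (CE_u R)) cm) ct (by decide +kernel)
  obtain ⟨v, hv, hxv⟩ := mem_of_CE D hx
  set x := m * u * m * t with hxdef
  have xx : x * x = 1 := by rw [hxv]; exact io_sq (E_sq R) (E_comm R) v
  have mi : m⁻¹ = m := inv_eq_of_mul_eq_one_left mm
  have ti : t⁻¹ = t := inv_eq_of_mul_eq_one_left tt
  -- (i)
  have h1 : ta Lt v = v := by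
    refine fix_of_comm hzne R ct (by decide +kernel) hv ?_
    rw [← hxv]
    have e1 : x * t = m * u * m := by rw [hxdef, mul_assoc, tt, mul_one]
    have e2 : (m * u * m) * (m * u * m) = 1 := by
      calc m * u * m * (m * u * m) = m * u * (m * m) * u * m := by group
        _ = m * (u * u) * m := by rw [mm, mul_one]; group
        _ = 1 := by rw [uu, mul_one, mm]
    calc t * x = (x * x) * t * x := by rw [xx, one_mul]
      _ = x * (x * t) * x := by group
      _ = x * ((m * u * m) * (m * u * m)) * t := by rw [e1, hxdef]; group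
      _ = x * t := by rw [e2, mul_one]
  -- (ii)
  have h2 : ta Le v = v := by
    refine fix_of_comm hzne R (CE_e R) (by decide +kernel) hv ?_
    rw [← hxv]
    have c1 : Commute e m := M.me.symm
    have c2 : Commute e u := eu
    have c3 : Commute e t := et
    exact (((c1.mul_right c2).mul_right c1).mul_right c3).eq
  -- (iii)
  have h3 : ta Lb v = v := by
    refine fix_of_comm hzne R (CE_b D M.B) (by decide +kernel) hv ?_
    rw [← hxv]
    have c1 : Commute b (m * u * m) := by
      show b * (m * u * m) = m * u * m * b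
      rw [← M.msm]
      calc m * s * m * (m * u * m) = m * s * (m * m) * u * m := by group
        _ = m * (s * u) * m := by rw [mm, mul_one]; group
        _ = m * u * (m * m) * s * m := by rw [su, mm]; group
        _ = m * u * m * (m * s * m) := by group
    have c2 : Commute b t := M.B.bt
    exact (c1.mul_right c2).eq
  have cr := CE_r R
  have mri : r * m * r⁻¹ = m := by rw [M.mr]; group
  have x1 : m * u' * m * t' = io (fE t w r k n z s) (ta Lr v) 6 := by
    rw [← CE.apply R cr v, ← hxv, hxdef]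
    calc m * u' * m * t' = (r * m * r⁻¹) * (r * u * r⁻¹) * (r * m * r⁻¹) * (r * t * r⁻¹) := by
          rw [mri, ru]
      _ = r * (m * u * m * t) * r⁻¹ := by group
  have x2 : m * (u * u') * m * (t * t') = io (fE t w r k n z s) (ta Lr (ta Lr v)) 6 := by
    rw [← CE.apply R cr (ta Lr v), ← x1]
    calc m * (u * u') * m * (t * t') = (r * m * r⁻¹) * (r * u' * r⁻¹) * (r * m * r⁻¹) * (r * t' * r⁻¹) := by
          rw [mri, ru', rt']
      _ = r * (m * u' * m * t') * r⁻¹ := by group
  have e1 : m * u * m = x * t := by rw [hxdef, mul_assoc (m * u * m) t t, tt, mul_one]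
  have hxor := fun c d => io_xor (E_sq R) (E_comm R) c d
  have Lt64 : (Lt.all fun x => Nat.blt x 64) = true := by decide +kernel
  have Lr64 : (Lr.all fun x => Nat.blt x 64) = true := by decide +kernel
  have xlt : ∀ {c d : ℕ}, c < 64 → d < 64 → c ^^^ d < 64 := fun h h' => Nat.xor_lt_two_pow (n := 6) h h'
  -- (iv)
  have h4 : ta Lr (ta Lr v) = v ^^^ ta Lt (ta Lr v) := by
    refine inj hzne R (ta_lt Lr64 _) (xlt hv (ta_lt Lt64 _)) ?_
    rw [hxor, ← x2, ← hxv, ← CE.apply R ct, ← x1, ti]
    have e2 : m * (u * u') * m = (m * u * m) * (m * u' * m) := by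
      calc m * (u * u') * m = m * u * (m * m) * u' * m := by rw [mm]; group
        _ = _ := by group
    rw [e2, e1]
    calc x * t * (m * u' * m) * (t * t') = x * t * (m * u' * m) * (t' * t') * (t * t') := by
            rw [t't', mul_one]
      _ = x * (t * (m * u' * m * t') * t) * (t * (t' * (t * t'))) := by
            have : (t : G) * (t * (t' * (t * t'))) = t' * (t * t') := by rw [← mul_assoc, tt, one_mul]
            calc x * t * (m * u' * m) * (t' * t') * (t * t') =
                  x * (t * (m * u' * m * t')) * (t' * (t * t')) := by group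
              _ = x * (t * (m * u' * m * t')) * (t * (t * (t' * (t * t')))) := by rw [this]
              _ = _ := by group
      _ = x * (t * (m * u' * m * t') * t) := by rw [htt', mul_one]
  -- (v)
  have h5 : ta Lt (ta Lu1 (v ^^^ ta Lt (ta Lm (ta Lr v)))) = v ^^^ ta Lt (ta Lm (ta Lr v)) := by
    refine inj hzne R (ta_lt Lt64 _) (xlt hv (ta_lt Lt64 _)) ?_
    set c2 := v ^^^ ta Lt (ta Lm (ta Lr v)) with hc2
    have x1x1 : (m * u' * m * t') * (m * u' * m * t') = 1 := by
      rw [x1]; exact io_sq (E_sq R) (E_comm R) _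
    have e2 : (m * u' * m) * (m * u' * m) = 1 := by
      calc m * u' * m * (m * u' * m) = m * u' * (m * m) * u' * m := by group
        _ = m * (u' * u') * m := by rw [mm, mul_one]; group
        _ = 1 := by rw [u'u', mul_one, mm]
    have e3 : m * u' * m * t' = t' * (m * u' * m) := by
      calc m * u' * m * t' = (m * u' * m * t') * ((t' * t') * ((m * u' * m) * (m * u' * m))) := by
              rw [t't', e2, one_mul, mul_one]
        _ = (m * u' * m) * (t' * t') * t' * ((m * u' * m) * (m * u' * m)) := by group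
        _ = (m * u' * m) * t' * ((m * u' * m) * (m * u' * m)) := by rw [t't', mul_one]
        _ = ((m * u' * m * t') * (m * u' * m * t')) * (t' * (m * u' * m)) := by
              calc _ = (m * u' * m * t') * (m * u' * m) * 1 * (m * u' * m) := by group
                _ = _ := by rw [← t't']; group
        _ = t' * (m * u' * m) := by rw [x1x1, one_mul]
    have e4 : m * t' * m = (m * (m * u' * m * t') * m⁻¹) * u' := by
      rw [e3, mi]
      calc m * t' * m = m * t' * m * (u' * u') := by rw [u'u', mul_one]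
        _ = m * (t' * (m * u' * (m * m))) * u' := by rw [mm]; group
        _ = m * (t' * (m * u' * m)) * m * u' := by group
    rw [x1, CE.apply R cm] at e4
    have y1 : m * (u * t') * m = io (fE t w r k n z s) c2 6 * (t * u') := by
      calc m * (u * t') * m = m * u * (m * m) * t' * m := by rw [mm]; group
        _ = (m * u * m) * (m * t' * m) := by group
        _ = x * (t * io (fE t w r k n z s) (ta Lm (ta Lr v)) 6 * t⁻¹) * (t * u') := by
              rw [e1, e4]; group
        _ = _ := by rw [CE.apply R ct, hc2, hxor, ← hxv]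
    have y2 : (m * (u * t') * m) * (m * (u * t') * m) = e := by
      calc m * (u * t') * m * (m * (u * t') * m) = m * (u * t') * (m * m) * (u * t') * m := by group
        _ = m * (u * (t' * (u * t'))) * m := by rw [mm]; group
        _ = e * (m * m) := by rw [hut', M.me, mul_assoc]
        _ = e := by rw [mm, mul_one]
    rw [y1] at y2
    have y3 : t * (u' * io (fE t w r k n z s) c2 6 * u'⁻¹) * t⁻¹ =
        io (fE t w r k n z s) (ta Lt (ta Lu1 c2)) 6 := by
      rw [CE.apply R (CE_u1 R), CE.apply R ct]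
    have y4 : io (fE t w r k n z s) c2 6 * io (fE t w r k n z s) (ta Lt (ta Lu1 c2)) 6 * e = e := by
      rw [← y3]
      refine Eq.trans ?_ y2
      rw [← htu']
      group
    have y5 : io (fE t w r k n z s) c2 6 * io (fE t w r k n z s) (ta Lt (ta Lu1 c2)) 6 = 1 :=
      mul_eq_right.1 y4
    calc io (fE t w r k n z s) (ta Lt (ta Lu1 c2)) 6 =
          (io (fE t w r k n z s) c2 6 * io (fE t w r k n z s) c2 6) *
            io (fE t w r k n z s) (ta Lt (ta Lu1 c2)) 6 := by
              rw [io_sq (E_sq R) (E_comm R), one_mul]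
      _ = io (fE t w r k n z s) c2 6 := by rw [mul_assoc, y5, mul_one]
  have hv0 := last_check v hv h1 h2 h3 h4 h5
  rw [hv0, io_code_zero] at hxv
  calc m * u * m = x * t := e1
    _ = t := by rw [hxv, one_mul]

end

end Cfsg.Agent.TypeOMinusEight.MLast
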