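import Cfsg.Agent.TypeOMinusEight.EAct

/-!
The element `m = s b s` and its first relations (helper46).
-/

set_option autoImplicit false
set_option maxRecDepth 100000

namespace Cfsg.Agent.TypeOMinusEight.MOne

open Cfsg.Agent.SporadicRecognition.CosetCert Cfsg.Agent.TypeO8Minus.Rel
  Cfsg.Agent.Co2Type.Quad Cfsg.Agent.LargeExtra.Base Cfsg.Agent.TypeOMinusEight.Words
  Cfsg.Agent.TypeOMinusEight.Code Cfsg.Agent.TypeOMinusEight.Data
  Cfsg.Agent.TypeOMinusEight.Basic Cfsg.Agent.TypeOMinusEight.Cent
  Cfsg.Agent.TypeOMinusEight.EGrp Cfsg.Agent.TypeOMinusEight.Swap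
  Cfsg.Agent.TypeOMinusEight.EAct

section

variable {G : Type*} [Group G] {Q A : Subgroup G} {z a : G} {t w r k n s b : G}

theorem CE_b {p : Pair Q z A a} (D : Loc p t w r k n s) (B : B2 p t w r k n s b) :
    CE t w r k n z s b Lb := by
  have R := D.rels
  have hbi : b⁻¹ = b := inv_eq_of_mul_eq_one_left B.b2
  have hc : ∀ i < 6, b * fE t w r k n z s i = fE t w r k n z s i * b →
      b * fE t w r k n z s i * b⁻¹ = io (fE t w r k n z s) (2 ^ i) 6 := by
    intro i hi h
    rw [← fE_eq_io R hi, h]; group
  have hba : b * a = a * b := p.la.comm_z b B.bA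
  intro i hi
  interval_cases i
  · show b * fE t w r k n z s 0 * b⁻¹ = 1 * fE t w r k n z s 0 * fE t w r k n z s 1 * 1 * 1 * 1 * 1
    have h1 : z * b * a * b = z * a := by
      rw [mul_assoc z b a, hba, mul_assoc, mul_assoc a b b, B.b2, mul_one]
    rw [fE0, fE1, f0 D, B.bz, hbi, h1]
    simp
  · refine hc 1 (by norm_num) ?_
    rw [fE1, f0 D]; exact hba
  · show b * fE t w r k n z s 2 * b⁻¹ = 1 * 1 * 1 * fE t w r k n z s 2 * 1 * 1 * fE t w r k n z s 5
    rw [fE2, fE5, hbi, B.bα]
    simp
  · exact hc 3 (by norm_num) B.bν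
  · exact hc 4 (by norm_num) B.bν'
  · refine hc 5 (by norm_num) ?_
    rw [fE5]; exact B.bk

/-- what is known about `m` -/
structure M1 (p : Pair Q z A a) (t w r k n s b m : G) : Prop where
  B : B2 p t w r k n s b
  m2 : m * m = 1
  sms : s * m * s = b
  msm : m * s * m = b
  cm : CE t w r k n z s m Lm
  mr : r * m = m * r
  me : m * fQ t w r k n z s 4 = fQ t w r k n z s 4 * m
  ms : IsConj m s

theorem fix_bs : ∀ c < 64, ta (cmp Lb Ls) c = c → ta Lr c = c → c = 0 := by decide +kernel

theorem braid {b s : G} (bb : b * b = 1) (ss : s * s = 1) (h : b * s * (b * s) * (b * s) = 1) :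
    b * s * b = s * b * s := by
  have h5 : s * b * s * b * s = b := by
    calc s * b * s * b * s = (b * b) * (s * b * s * b * s) := by rw [bb, one_mul]
      _ = b * (b * s * (b * s) * (b * s)) := by group
      _ = b := by rw [h, mul_one]
  calc b * s * b = (s * b * s * b * s) * s * b := by rw [h5]
    _ = s * b * s * b * (s * s) * b := by group
    _ = s * b * s * (b * b) := by rw [ss]; group
    _ = s * b * s := by rw [bb, mul_one]

theorem exists_M1 [Finite Q] {p : Pair Q z A a} (D : Loc p t w r k n s) (B : B2 p t w r k n s b) :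
    M1 p t w r k n s b (s * b * s) := by
  have R := D.rels
  have cs := CE_s R
  have cb' := CE_b D B
  have ss := R.s2
  have bb := B.b2
  have sr : r * s = s * r := by
    simpa [ev, lt, mul_assoc] using ev_of_chk R 1 (show chk [2, 7] [7, 2] = true by decide +kernel)
  have se : s * fQ t w r k n z s 4 = fQ t w r k n z s 4 * s := by
    have := ev_of_chk R 1 (show chk ([7] ++ wQ 4) (wQ 4 ++ [7]) = true by decide +kernel)
    rw [ev_append, ev_append, ev_cons, ev_nil, mul_one] at this
    exact this
  have hbs := CE.mul R cb' cs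
  have hx : CE t w r k n z s (b * s * (b * s) * (b * s)) Lid :=
    CE.mul' R (CE.mul R hbs hbs) hbs (by decide +kernel)
  obtain ⟨c, hc, hxc⟩ := mem_of_CE D hx
  have hc0 : c = 0 := by
    refine fix_bs c hc ?_ ?_
    · refine fix_of_comm p.lz.z_ne R hbs (by decide +kernel) hc ?_
      rw [← hxc]; group
    · refine fix_of_comm p.lz.z_ne R (CE_r R) (by decide +kernel) hc ?_
      rw [← hxc]
      have h1 : r * (b * s) = (b * s) * r := by
        rw [← mul_assoc, B.br, mul_assoc, sr, mul_assoc]
      have h2 : Commute r (b * s) := h1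
      exact ((h2.mul_right h2).mul_right h2).eq
  have h3 : b * s * (b * s) * (b * s) = 1 := by rw [hxc, hc0, io_code_zero]
  have h4 : b * s * b = s * b * s := braid B.b2 R.s2 h3
  refine
    { B := B
      m2 := ?_
      sms := ?_
      msm := ?_
      cm := CE.mul' R (CE.mul R cs cb') cs (by decide +kernel)
      mr := ?_
      me := ?_
      ms := ?_ }
  · calc s * b * s * (s * b * s) = s * b * (s * s) * b * s := by group
      _ = s * (b * b) * s := by rw [ss, mul_one]; group
      _ = 1 := by rw [bb, mul_one, ss]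
  · calc s * (s * b * s) * s = (s * s) * b * (s * s) := by group
      _ = b := by rw [ss, one_mul, mul_one]
  · calc s * b * s * s * (s * b * s) = s * b * (s * s) * (s * b * s) := by group
      _ = s * (b * s * b) * s := by rw [ss]; group
      _ = (s * s) * b * (s * s) := by rw [h4]; group
      _ = b := by rw [ss, one_mul, mul_one]
  · calc r * (s * b * s) = (r * s) * b * s := by group
      _ = s * (r * b) * s := by rw [sr]; group
      _ = s * b * (r * s) := by rw [B.br]; group
      _ = s * b * s * r := by rw [sr]; group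
  · calc s * b * s * fQ t w r k n z s 4 = s * b * (s * fQ t w r k n z s 4) := by group
      _ = s * (b * fQ t w r k n z s 4) * s := by rw [se]; group
      _ = (s * fQ t w r k n z s 4) * b * s := by rw [B.be]; group
      _ = fQ t w r k n z s 4 * (s * b * s) := by rw [se]; group
  · rw [← h4]
    refine (isConj_iff.2 ⟨b, ?_⟩ : IsConj s (b * s * b)).symm
    rw [inv_eq_of_mul_eq_one_left bb]

end

end Cfsg.Agent.TypeOMinusEight.MOne
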