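import Cfsg.Agent.TypeOMinusEight.MLast

/-!
The relation `(n m) ^ 3 = 1` (helper46).
-/

set_option autoImplicit false
set_option maxRecDepth 100000

namespace Cfsg.Agent.TypeOMinusEight.MThree

open Cfsg.Agent.SporadicRecognition.CosetCert Cfsg.Agent.TypeO8Minus.Rel
  Cfsg.Agent.Co2Type.Quad Cfsg.Agent.LargeExtra.Base Cfsg.Agent.TypeOMinusEight.Words
  Cfsg.Agent.TypeOMinusEight.Code Cfsg.Agent.TypeOMinusEight.Data
  Cfsg.Agent.TypeOMinusEight.Basic Cfsg.Agent.TypeOMinusEight.Cent
  Cfsg.Agent.TypeOMinusEight.EGrp Cfsg.Agent.TypeOMinusEight.Swap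
  Cfsg.Agent.TypeOMinusEight.EAct Cfsg.Agent.TypeOMinusEight.MOne Cfsg.Agent.TypeOMinusEight.MLast

section

variable {G : Type*} [Group G] {Q A : Subgroup G} {z a : G} {t w r k n s b m : G}

/-- `y = g³` commutes with `x₀` if `x₀ → x₁ → x₂ → x₀` under `g` -/
theorem cube_comm {g x0 x1 x2 : G} (h0 : g * x0 * g⁻¹ = x1) (h1 : g * x1 * g⁻¹ = x2)
    (h2 : g * x2 * g⁻¹ = x0) : g * g * g * x0 = x0 * (g * g * g) := by
  calc g * g * g * x0 = g * (g * (g * x0 * g⁻¹) * g⁻¹) * g⁻¹ * (g * g * g) := by group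
    _ = x0 * (g * g * g) := by rw [h0, h1, h2]

/-- the element `a α` is not `z`, nor one of the thirty elements -/
theorem aalpha [Finite Q] {p : Pair Q z A a} (D : Loc p t w r k n s)
    (h : IsConj z (fQ t w r k n z s 0 * fQ t w r k n z s 1)) : False := by
  have R := D.rels
  have hmem : fQ t w r k n z s 0 * fQ t w r k n z s 1 ∈ Q :=
    Q.mul_mem (f_mem D 0 (by norm_num)) (f_mem D 1 (by norm_num))
  have hio : fQ t w r k n z s 0 * fQ t w r k n z s 1 = io (fQ t w r k n z s) 3 8 := by
    show _ = 1 * fQ t w r k n z s 0 * fQ t w r k n z s 1 * 1 * 1 * 1 * 1 * 1 * 1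
    simp
  have key : ∀ (c : ℕ), (io (fQ t w r k n z s) 3 8 = io (fQ t w r k n z s) c 8 ∨
      io (fQ t w r k n z s) 3 8 = io (fQ t w r k n z s) c 8 * z) → ∀ j < 8,
      xs (fun i => gramQ i j) c 8 = xs (fun i => gramQ i j) 3 8 := by
    intro c hc j hj
    exact bit_of_comm p.lz R D.s_mem hc hj (io_gramQ p.lz R D.s_mem 3 hj)
  rcases D.zQ _ hmem h with h1 | ⟨c, hc, h1⟩
  · rw [hio] at h1
    have h2 := key 0 (Or.inr (by rw [io_code_zero, one_mul]; exact h1)) 4 (by norm_num)
    exact absurd h2 (by decide)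
  · rw [hio] at h1
    have h2 := key c h1
    have hchk : ∀ c ∈ S15, xs (fun i => gramQ i 4) c 8 = xs (fun i => gramQ i 4) 3 8 →
      xs (fun i => gramQ i 5) c 8 = xs (fun i => gramQ i 5) 3 8 →
      xs (fun i => gramQ i 6) c 8 = xs (fun i => gramQ i 6) 3 8 →
      xs (fun i => gramQ i 7) c 8 = xs (fun i => gramQ i 7) 3 8 →
      xs (fun i => gramQ i 0) c 8 = xs (fun i => gramQ i 0) 3 8 →
      xs (fun i => gramQ i 1) c 8 = xs (fun i => gramQ i 1) 3 8 →
      xs (fun i => gramQ i 2) c 8 = xs (fun i => gramQ i 2) 3 8 →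
      xs (fun i => gramQ i 3) c 8 = xs (fun i => gramQ i 3) 3 8 → False := by decide +kernel
    exact hchk c hc (h2 4 (by norm_num)) (h2 5 (by norm_num)) (h2 6 (by norm_num)) (h2 7 (by norm_num))
      (h2 0 (by norm_num)) (h2 1 (by norm_num)) (h2 2 (by norm_num)) (h2 3 (by norm_num))

theorem wchk : (chk ([5] ++ (wQ 0 ++ [5])) (wQ 4) && (chk ([5] ++ (wQ 4 ++ [5])) (wQ 0) &&
    (chk ([5] ++ (wQ 2 ++ [5])) (wQ 6) && (chk ([5] ++ (wQ 6 ++ [5])) (wQ 2) &&
    (chk ([5] ++ ([0] ++ [5])) [0] && (chk ([2] ++ [5]) ([5] ++ [2]) &&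
    (chk ([4] ++ (wQ 3 ++ [4])) (wQ 3) &&
    (chk ([5,4,5]) ([4,5,4]))))))))) = true := by decide +kernel

/-- independence of `z, a, e` -/
theorem indep [Finite Q] {p : Pair Q z A a} (D : Loc p t w r k n s) {i j l i' j' l' : Bool}
    (h : cb i z * (cb j (fQ t w r k n z s 0) * cb l (fQ t w r k n z s 4)) =
      cb i' z * (cb j' (fQ t w r k n z s 0) * cb l' (fQ t w r k n z s 4))) :
    i = i' ∧ j = j' ∧ l = l' := by
  have R := D.rels
  let C : Bool → Bool → ℕ := fun j l => cond j (cond l 17 1) (cond l 16 0)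
  have hC : ∀ j l, cb j (fQ t w r k n z s 0) * cb l (fQ t w r k n z s 4) =
      io (fQ t w r k n z s) (C j l) 8 := by
    intro j l
    cases j <;> cases l
    · show (1 : G) * 1 = io (fQ t w r k n z s) 0 8
      rw [io_code_zero, one_mul]
    · rw [show C false true = 16 from rfl]
      show 1 * fQ t w r k n z s 4 = 1 * 1 * 1 * 1 * 1 * fQ t w r k n z s 4 * 1 * 1 * 1
      simp
    · rw [show C true false = 1 from rfl]
      show fQ t w r k n z s 0 * 1 = 1 * fQ t w r k n z s 0 * 1 * 1 * 1 * 1 * 1 * 1 * 1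
      simp
    · rw [show C true true = 17 from rfl]
      show fQ t w r k n z s 0 * fQ t w r k n z s 4 =
        1 * fQ t w r k n z s 0 * 1 * 1 * 1 * fQ t w r k n z s 4 * 1 * 1 * 1
      simp
  rw [hC, hC] at h
  have hz := fun c => p.lz.comm_z _ (io_mem (f_mem D) c)
  have hzz : z * z = 1 := p.lz.z_sq
  have h1 : io (fQ t w r k n z s) (C j l) 8 = io (fQ t w r k n z s) (C j' l') 8 ∨
      io (fQ t w r k n z s) (C j l) 8 = io (fQ t w r k n z s) (C j' l') 8 * z := by
    cases i <;> cases i'
    · left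
      rwa [cb_false, one_mul, one_mul] at h
    · right
      rw [cb_false, one_mul, cb_true] at h
      rw [h, hz]
    · right
      rw [cb_false, one_mul, cb_true] at h
      rw [← h, ← hz, mul_assoc, hzz, mul_one]
    · left
      exact mul_left_cancel h
  have key : ∀ k < 8, xs (fun i => gramQ i k) (C j' l') 8 = xs (fun i => gramQ i k) (C j l) 8 :=
    fun k hk => bit_of_comm p.lz R D.s_mem h1 hk (io_gramQ p.lz R D.s_mem _ hk)
  have h2 : j = j' ∧ l = l' := by
    have k5 := key 5 (by norm_num)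
    have k1 := key 1 (by norm_num)
    have : ∀ j j' l l' : Bool,
      xs (fun i => gramQ i 5) (cond j' (cond l' 17 1) (cond l' 16 0)) 8 =
      xs (fun i => gramQ i 5) (cond j (cond l 17 1) (cond l 16 0)) 8 →
      xs (fun i => gramQ i 1) (cond j' (cond l' 17 1) (cond l' 16 0)) 8 =
      xs (fun i => gramQ i 1) (cond j (cond l 17 1) (cond l 16 0)) 8 →
      j = j' ∧ l = l' := by decide
    exact this j j' l l' k5 k1
  refine ⟨?_, h2⟩
  rw [h2.1, h2.2] at h
  exact cb_inj p.lz.z_ne (mul_right_cancel h)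

theorem nm3 [Finite Q] {p : Pair Q z A a} (D : Loc p t w r k n s) (M : M1 p t w r k n s b m) :
    (n * m) ^ 3 = 1 := by
  have R := D.rels
  have hzne := p.lz.z_ne
  have mm := M.m2
  have nn := R.n2
  have kk := R.k2
  have zz := R.z2
  have haa : a * a = 1 := p.la.z_sq
  have mi : m⁻¹ = m := inv_eq_of_mul_eq_one_left mm
  have ni : n⁻¹ = n := inv_eq_of_mul_eq_one_left nn
  have hc := wchk
  simp only [Bool.and_eq_true] at hc
  obtain ⟨c1, c2, c3, c4, c5, c6, c7, c8⟩ := hc
  set u := fQ t w r k n z s 6 with hu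
  set u' := fQ t w r k n z s 7 with hu'
  set e := fQ t w r k n z s 4 with he
  set ν := fQ t w r k n z s 2 with hν
  set ν' := fQ t w r k n z s 3 with hν'
  set t' := r * t * r⁻¹ with ht'
  have hwu : ev (lt t w r k n z s 1) (wQ 6) = u := rfl
  have hwe : ev (lt t w r k n z s 1) (wQ 4) = e := rfl
  have hwν : ev (lt t w r k n z s 1) (wQ 2) = ν := rfl
  have hwa : ev (lt t w r k n z s 1) (wQ 0) = a := f0 D
  have hwt : ev (lt t w r k n z s 1) [0] = t := by simp [ev, lt]
  have hwn : ev (lt t w r k n z s 1) [5] = n := by simp [ev, lt]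
  have hwr : ev (lt t w r k n z s 1) [2] = r := by simp [ev, lt]
  have nan : n * a * n = e := by
    have := ev_of_chk R 1 c1
    rwa [ev_append, ev_append, hwn, hwa, hwe, ← mul_assoc] at this
  have nen : n * e * n = a := by
    have := ev_of_chk R 1 c2
    rwa [ev_append, ev_append, hwn, hwa, hwe, ← mul_assoc] at this
  have nνn : n * ν * n = u := by
    have := ev_of_chk R 1 c3
    rwa [ev_append, ev_append, hwn, hwν, hwu, ← mul_assoc] at this
  have nun : n * u * n = ν := by
    have := ev_of_chk R 1 c4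
    rwa [ev_append, ev_append, hwn, hwν, hwu, ← mul_assoc] at this
  have ntn : n * t * n = t := by
    have := ev_of_chk R 1 c5
    rwa [ev_append, ev_append, hwn, hwt, ← mul_assoc] at this
  have rn : r * n = n * r := by
    have := ev_of_chk R 1 c6
    rwa [ev_append, ev_append, hwn, hwr] at this
  have nzn : n * z * n = z := by rw [comm_n R, mul_assoc, nn, mul_one]
  -- the action of `m`
  have cmi : ∀ i < 6, ∀ j < 6, Lm.getD i 0 = 2 ^ j → m * fE t w r k n z s i * m = fE t w r k n z s j := by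
    intro i hi j hj h
    have := M.cm i hi
    rw [h, ← fE_eq_io R hj, mi] at this
    exact this
  have mzm : m * z * m = a := by
    have := cmi 0 (by norm_num) 1 (by norm_num) rfl
    rwa [fE0, fE1, f0 D] at this
  have mam : m * a * m = z := by
    have := cmi 1 (by norm_num) 0 (by norm_num) rfl
    rwa [fE0, fE1, f0 D] at this
  have mνm : m * ν * m = ν := cmi 3 (by norm_num) 3 (by norm_num) rfl
  have mkm : m * k * m = fQ t w r k n z s 1 := by
    have := cmi 5 (by norm_num) 2 (by norm_num) rfl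
    rwa [fE5, fE2] at this
  have mem' : m * e * m = e := by rw [M.me, mul_assoc, mm, mul_one]
  have mum : m * u * m = t := mum D M
  have mtm : m * t * m = u := by
    rw [← mum]
    calc m * (m * u * m) * m = (m * m) * u * (m * m) := by group
      _ = u := by rw [mm, one_mul, mul_one]
  set g := n * m with hg
  have gi : g⁻¹ = m * n := by rw [hg, mul_inv_rev, mi, ni]
  have gc : ∀ {x y y' : G}, m * x * m = y → n * y * n = y' → g * x * g⁻¹ = y' := by
    intro x y y' h1 h2
    rw [gi, hg, ← h2, ← h1]; group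
  have rg : r * g = g * r := by
    rw [hg]
    calc r * (n * m) = (r * n) * m := by group
      _ = n * (r * m) := by rw [rn]; group
      _ = n * m * r := by rw [M.mr]; group
  have rgi : r * g * r⁻¹ = g := by rw [rg]; group
  have rgi' : r * g⁻¹ * r⁻¹ = g⁻¹ := by
    calc r * g⁻¹ * r⁻¹ = (r * g * r⁻¹)⁻¹ := by group
      _ = g⁻¹ := by rw [rgi]
  have gr : ∀ {x y : G}, g * x * g⁻¹ = y → g * (r * x * r⁻¹) * g⁻¹ = r * y * r⁻¹ := by
    intro x y h
    calc g * (r * x * r⁻¹) * g⁻¹ = (r * g * r⁻¹) * (r * x * r⁻¹) * (r * g⁻¹ * r⁻¹) := by rw [rgi, rgi']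
      _ = r * (g * x * g⁻¹) * r⁻¹ := by group
      _ = r * y * r⁻¹ := by rw [h]
  have gz : g * z * g⁻¹ = e := gc mzm nan
  have ge : g * e * g⁻¹ = a := gc mem' nen
  have ga : g * a * g⁻¹ = z := gc mam nzn
  have gν : g * ν * g⁻¹ = u := gc mνm nνn
  have gu : g * u * g⁻¹ = t := gc mum ntn
  have gt : g * t * g⁻¹ = ν := gc mtm nun
  have rνr : r * ν * r⁻¹ = ν' := by rw [hν, hν', fQ2, fQ3]
  have rur : r * u * r⁻¹ = u' := by rw [hu, hu', fQ6, fQ7]
  have gν' : g * ν' * g⁻¹ = u' := by rw [← rνr, ← rur]; exact gr gν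
  have gu' : g * u' * g⁻¹ = t' := by rw [← rur]; exact gr gu
  have gt' : g * t' * g⁻¹ = ν' := by rw [← rνr]; exact gr gt
  obtain ⟨i, j, l, hy⟩ := six D (x := g * g * g) (cube_comm gz ge ga) (by
    intro i hi
    simp only [List.mem_cons, List.not_mem_nil, or_false] at hi
    rcases hi with rfl | rfl | rfl | rfl | rfl | rfl
    · rw [f0 D]; exact cube_comm ga gz ge
    · exact cube_comm gν gu gt
    · exact cube_comm gν' gu' gt'
    · exact cube_comm ge ga gz
    · exact cube_comm gu gt gν
    · exact cube_comm gu' gt' gν')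
  -- `i = j = l`
  have cg : ∀ (β : Bool) {x y : G}, g * x * g⁻¹ = y → g * cb β x * g⁻¹ = cb β y := by
    intro β x y h
    cases β
    · rw [cb_false, cb_false]; group
    · exact h
  have hze : z * e = e * z := (p.lz.comm_z _ (f_mem D 4 (by norm_num))).symm
  have hza : z * a = a * z := (p.lz.comm_z _ p.a_mem).symm
  have heA : e ∈ A := by rw [he, fQ4]; exact D.e_mem
  have hae : a * e = e * a := (p.la.comm_z _ heA).symm
  have ee : e * e = 1 := by
    have := ev_of_chk R 1 (show chk (wQ 4 ++ wQ 4) [] = true by decide +kernel)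
    rwa [ev_append, ev_nil] at this
  have hy2 : g * (g * g * g) * g⁻¹ = g * g * g := by group
  have hy3 : g * (g * g * g) * g⁻¹ = cb j z * (cb l (fQ t w r k n z s 0) * cb i e) := by
    rw [hy, f0 D]
    have e1 : cb i e * (cb j z * cb l a) = cb j z * (cb l a * cb i e) := by
      have h1 : cb i e * cb j z = cb j z * cb i e := by
        rw [cb_comm (cb_comm hze j).symm i]
      have h2 : cb i e * cb l a = cb l a * cb i e := by
        rw [cb_comm (cb_comm hae l).symm i]
      rw [← mul_assoc, h1, mul_assoc, h2]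
    calc g * (cb i z * (cb j a * cb l e)) * g⁻¹ =
          (g * cb i z * g⁻¹) * ((g * cb j a * g⁻¹) * (g * cb l e * g⁻¹)) := by group
      _ = cb i e * (cb j z * cb l a) := by rw [cg i gz, cg j ga, cg l ge]
      _ = _ := e1
  have hij := indep D (hy3.symm.trans (hy2.trans hy))
  have h3 : (n * m) ^ 3 = g * g * g := by rw [pow_succ, pow_two]
  rw [h3, hy]
  cases i
  · have hj : j = false := hij.1
    have hl : l = false := hij.2.1.trans hj
    rw [hj, hl, cb_false, cb_false, cb_false, one_mul, one_mul]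
  · exfalso
    have hj : j = true := hij.1
    have hl : l = true := hij.2.1.trans hj
    rw [hj, hl, cb_true, cb_true, cb_true, f0 D] at hy
    have f1 : n * m * n = z * (a * e) * (m * n * m) := by
      rw [← hy, hg]
      calc n * m * n = n * m * n * (m * (n * (m * m) * n) * m) := by rw [mm, mul_one, nn, mul_one, mm, mul_one]
        _ = n * m * (n * m) * (n * m) * (m * n * m) := by group
    have f2 : m * (z * (a * e) * (m * n * m)) * m = a * (z * e) * n := by
      calc m * (z * (a * e) * (m * n * m)) * m = (m * z * m) * (m⁻¹ * a * m) * (m⁻¹ * e * m) * n * (m * m) := by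
              group
        _ = a * (z * e) * n := by rw [mi, mzm, mam, mem', mm]; group
    have f3 : a * (a * (z * e) * n) * a = z * n := by
      calc a * (a * (z * e) * n) * a = (a * a) * z * e * ((n * a * n) * n⁻¹) := by group
        _ = z * n := by rw [haa, nan, ni, one_mul]
                        calc z * e * (e * n) = z * (e * e) * n := by group
                          _ = z * n := by rw [ee, mul_one]
    have g1 : IsConj z m := (conj_z_s D).trans M.ms.symm
    have g2 : IsConj m (z * (a * e) * (m * n * m)) := by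
      rw [← f1]; exact isConj_iff.2 ⟨n, by rw [ni]⟩
    have g3 : IsConj (z * (a * e) * (m * n * m)) (a * (z * e) * n) := by
      rw [← f2]; exact isConj_iff.2 ⟨m, by rw [mi]⟩
    have g4 : IsConj (a * (z * e) * n) (z * n) := by
      rw [← f3]; exact isConj_iff.2 ⟨a, by rw [inv_eq_of_mul_eq_one_left haa]⟩
    have ki : k⁻¹ = k := inv_eq_of_mul_eq_one_left kk
    have g5 : IsConj (z * k) (z * n) := by
      refine isConj_iff.2 ⟨k * n, ?_⟩
      have h1 : k * n * k * (k * n)⁻¹ = n := by
        have h2 : (k * n) * (k * n) * (k * n) = 1 := by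
          have := R.kn
          rwa [pow_succ, pow_two] at this
        calc k * n * k * (k * n)⁻¹ = (k * n) * (k * (n⁻¹ * k⁻¹)) := by group
          _ = (k * n) * (k * n) * (k * n) * n⁻¹ := by rw [ni, ki]; rw [mul_assoc _ (k * n) n, mul_assoc k n n, nn, mul_one]; group
          _ = n := by rw [h2, ni, one_mul]
      have hknz : k * n * z = z * (k * n) := by
        rw [mul_assoc, comm_n R, ← mul_assoc, comm_k R, mul_assoc]
      calc k * n * (z * k) * (k * n)⁻¹ = (k * n * z) * k * (k * n)⁻¹ := by group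
        _ = z * (k * n * k * (k * n)⁻¹) := by rw [hknz]; group
        _ = z * n := by rw [h1]
    have g6 : IsConj (z * k) (fQ t w r k n z s 0 * fQ t w r k n z s 1) := by
      refine isConj_iff.2 ⟨m, ?_⟩
      rw [mi, f0 D, ← mzm, ← mkm]
      calc m * (z * k) * m = m * z * 1 * k * m := by group
        _ = m * z * m * (m * k * m) := by rw [← mm]; group
    exact aalpha D ((g1.trans (g2.trans (g3.trans g4))).trans (g5.symm.trans g6))

end

end Cfsg.Agent.TypeOMinusEight.MThree
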