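import Cfsg.Agent.TypeOMinusEight.MThree
import Cfsg.Agent.TypeOMinusEight.MFour

/-!
All relations: the element `m` (helper46).
-/

set_option autoImplicit false
set_option maxRecDepth 100000

namespace Cfsg.Agent.TypeOMinusEight.Relations

open Cfsg.Agent.SporadicRecognition.CosetCert Cfsg.Agent.TypeO8Minus.Rel
  Cfsg.Agent.Co2Type.Quad Cfsg.Agent.LargeExtra.Base Cfsg.Agent.TypeOMinusEight.Words
  Cfsg.Agent.TypeOMinusEight.Code Cfsg.Agent.TypeOMinusEight.Data
  Cfsg.Agent.TypeOMinusEight.Basic Cfsg.Agent.TypeOMinusEight.Cent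
  Cfsg.Agent.TypeOMinusEight.EGrp Cfsg.Agent.TypeOMinusEight.Swap
  Cfsg.Agent.TypeOMinusEight.EAct Cfsg.Agent.TypeOMinusEight.MOne Cfsg.Agent.TypeOMinusEight.MLast
  Cfsg.Agent.TypeOMinusEight.MThree Cfsg.Agent.TypeOMinusEight.MFour

section

variable {G : Type*} [Group G] {Q A : Subgroup G} {z a : G} {t w r k n s b m : G}

theorem rels_of_M1 [Finite Q] {p : Pair Q z A a} (D : Loc p t w r k n s)
    (M : M1 p t w r k n s b m) : Rels t w r k n z s m ∧ s * m * s ∈ A ∧ m * z * m = a := by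
  have R := D.rels
  have mm := M.m2
  have ss := R.s2
  have mi : m⁻¹ = m := inv_eq_of_mul_eq_one_left mm
  have cmi : ∀ i < 6, ∀ j < 6, Lm.getD i 0 = 2 ^ j → m * fE t w r k n z s i * m = fE t w r k n z s j := by
    intro i hi j hj h
    have := M.cm i hi
    rw [h, ← fE_eq_io R hj, mi] at this
    exact this
  have mzm : m * z * m = a := by
    have := cmi 0 (by norm_num) 1 (by norm_num) rfl
    rwa [fE0, fE1, f0 D] at this
  have mkm : m * k * m = n * s * n := by
    have := cmi 5 (by norm_num) 2 (by norm_num) rfl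
    rwa [fE5, fE2, fQ1] at this
  have me : m * (w * s * w) = w * s * w * m := by
    have := M.me
    rwa [fQ4] at this
  have mum := mum D M
  rw [fQ6] at mum
  have ee : (w * s * w) * (w * s * w) = 1 := by
    have := ev_of_chk R 1 (show chk [1,7,1,1,7,1] [] = true by decide +kernel)
    simpa [ev, lt, mul_assoc] using this
  refine ⟨⟨R, mm, ?_, nm3 D M, ?_, ?_, ?_, mw4 D M, ?_⟩, ?_, mzm⟩
  · -- `(s m)³ = 1`
    have h1 : s * m * s = m * s * m := M.sms.trans M.msm.symm
    calc (s * m) ^ 3 = (s * m * s) * (m * s * m) := by rw [pow_succ, pow_two]; group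
      _ = (m * s * m) * (m * s * m) := by rw [h1]
      _ = m * s * (m * m) * s * m := by group
      _ = m * (s * s) * m := by rw [mm]; group
      _ = 1 := by rw [ss, mul_one, mm]
  · -- `m r⁻¹ m r = 1`
    have h1 : r⁻¹ * m = m * r⁻¹ := by
      calc r⁻¹ * m = r⁻¹ * (m * r) * r⁻¹ := by group
        _ = r⁻¹ * (r * m) * r⁻¹ := by rw [M.mr]
        _ = m * r⁻¹ := by group
    calc m * r⁻¹ * m * r = m * (r⁻¹ * m) * r := by group
      _ = m * m := by rw [h1]; group
      _ = 1 := mm
  · rw [mkm]; exact R.ks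
  · calc (w * s * w * m) ^ 2 = (w * s * w) * (m * (w * s * w)) * m := by rw [pow_two]; group
      _ = ((w * s * w) * (w * s * w)) * (m * m) := by rw [me]; group
      _ = 1 := by rw [ee, mm, mul_one]
  · rw [mum]; exact R.t2
  · rw [M.sms]; exact M.B.bA

/-- **All relations**: the element `m`, and how `k`, `n` change. -/
theorem exists_m' [Finite G] {p : Pair Q z A a} (D : Loc p t w r k n s) :
    ∃ k' n' m, ((k' = k ∧ n' = n) ∨ (k' = k * z ∧ n' = n * z)) ∧ Loc p t w r k' n' s ∧
      Rels t w r k' n' z s m ∧ s * m * s ∈ A ∧ m * z * m = a := by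
  obtain ⟨k', n', b, h, D', B⟩ := exists_B2' D
  exact ⟨k', n', s * b * s, h, D', rels_of_M1 D' (exists_M1 D' B)⟩

/-- **All relations**: the element `m`. -/
theorem exists_m [Finite G] {p : Pair Q z A a} (D : Loc p t w r k n s) :
    ∃ k' n' m, Loc p t w r k' n' s ∧ Rels t w r k' n' z s m ∧ s * m * s ∈ A ∧ m * z * m = a := by
  obtain ⟨k', n', b, D', B⟩ := exists_B2 D
  exact ⟨k', n', s * b * s, D', rels_of_M1 D' (exists_M1 D' B)⟩

end

end Cfsg.Agent.TypeOMinusEight.Relations
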