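import Cfsg.Agent.TypeOMinusEight.EGrp

/-!
Codes for the vectors of `V = Q / ⟨z⟩` (helper46).
-/

set_option autoImplicit false
set_option maxRecDepth 100000

namespace Cfsg.Agent.TypeOMinusEight.VCode

open Cfsg.Agent.SporadicRecognition.CosetCert Cfsg.Agent.TypeO8Minus.Rel
  Cfsg.Agent.Co2Type.Quad Cfsg.Agent.LargeExtra.Base Cfsg.Agent.TypeOMinusEight.Words
  Cfsg.Agent.TypeOMinusEight.Code Cfsg.Agent.TypeOMinusEight.Data
  Cfsg.Agent.TypeOMinusEight.Basic Cfsg.Agent.TypeOMinusEight.Cent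
  Cfsg.Agent.TypeOMinusEight.EGrp

section

variable {G : Type*} [Group G] {Q A : Subgroup G} {z a : G} {t w r k n s : G} {p : Pair Q z A a}

/-- `x` has the code `c` modulo `z` -/
def VC (t w r k n z s : G) (c : ℕ) (x : G) : Prop :=
  x = io (fQ t w r k n z s) c 8 ∨ x = io (fQ t w r k n z s) c 8 * z

theorem VC.mem (D : Loc p t w r k n s) {c : ℕ} {x : G} (h : VC t w r k n z s c x) : x ∈ Q := by
  rcases h with h | h <;> rw [h]
  · exact io_mem (f_mem D) c
  · exact Q.mul_mem (io_mem (f_mem D) c) p.lz.z_mem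

theorem exists_VC [Finite Q] (D : Loc p t w r k n s) {x : G} (hx : x ∈ Q) :
    ∃ c < 256, VC t w r k n z s c x := code_Q p.lz D.rels D.card D.s_mem hx

/-- the vector of a code -/
noncomputable def vc (D : Loc p t w r k n s) (c : ℕ) : p.lz.V :=
  p.lz.pr ⟨io (fQ t w r k n z s) c 8, io_mem (f_mem D) c⟩

theorem pr_eq_vc (D : Loc p t w r k n s) {x : G} (hx : x ∈ Q) (c : ℕ) :
    p.lz.pr ⟨x, hx⟩ = vc D c ↔ VC t w r k n z s c x := p.lz.pr_eq_pr

/-- the vectors of the partial products -/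
theorem pr_io_xor (D : Loc p t w r k n s) (c d : ℕ) :
    ∀ n' (_ : n' ≤ 8) (h1 : io (fQ t w r k n z s) (c ^^^ d) n' ∈ Q) (h2 : io (fQ t w r k n z s) c n' ∈ Q)
      (h3 : io (fQ t w r k n z s) d n' ∈ Q),
      p.lz.pr ⟨_, h1⟩ = p.lz.pr ⟨_, h2⟩ + p.lz.pr ⟨_, h3⟩ := by
  intro n'
  induction n' with
  | zero =>
    intro _ h1 h2 h3
    rw [← p.lz.pr_mul, p.lz.pr_eq_pr]
    left
    show (1 : G) = 1 * 1
    rw [one_mul]
  | succ n' ih =>
    intro hn h1 h2 h3
    have hf : fQ t w r k n z s n' ∈ Q := f_mem D n' (by omega)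
    have hm : ∀ c, io (fQ t w r k n z s) c n' ∈ Q := fun c => io_mem (fun i hi => f_mem D i (by omega)) c
    have hcb : ∀ b : Bool, cb b (fQ t w r k n z s n') ∈ Q := by
      intro b; cases b
      · exact Q.one_mem
      · exact hf
    have key : ∀ (c : ℕ) (h : io (fQ t w r k n z s) c (n' + 1) ∈ Q), p.lz.pr ⟨_, h⟩ =
        p.lz.pr ⟨_, hm c⟩ + p.lz.pr ⟨_, hcb (bt c n')⟩ := by
      intro c h
      rw [← p.lz.pr_mul]
      rfl
    rw [key, key, key, ih (by omega) (hm _) (hm _) (hm _)]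
    have hb : p.lz.pr ⟨_, hcb (bt (c ^^^ d) n')⟩ = p.lz.pr ⟨_, hcb (bt c n')⟩ +
        p.lz.pr ⟨_, hcb (bt d n')⟩ := by
      have h0 : p.lz.pr ⟨cb false (fQ t w r k n z s n'), hcb false⟩ = 0 := by
        rw [← p.lz.pr_one]
        rfl
      rw [← p.lz.pr_mul, p.lz.pr_eq_pr]
      show cb (bt (c ^^^ d) n') (fQ t w r k n z s n') = cb (bt c n') _ * cb (bt d n') _ ∨
        cb (bt (c ^^^ d) n') (fQ t w r k n z s n') = cb (bt c n') _ * cb (bt d n') _ * z
      rw [bt_xor]
      cases bt c n' <;> cases bt d n'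
      · left; simp [cb]
      · left; simp [cb]
      · left; simp [cb]
      · show (1 : G) = _ * _ ∨ (1 : G) = _ * _ * z
        rcases p.lz.sq _ hf with h | h
        · left; exact h.symm
        · right
          show (1 : G) = fQ t w r k n z s n' * fQ t w r k n z s n' * z
          rw [h, p.lz.z_sq]
    rw [hb]
    abel

theorem vc_xor (D : Loc p t w r k n s) (c d : ℕ) : vc D (c ^^^ d) = vc D c + vc D d :=
  pr_io_xor D c d 8 le_rfl _ _ _

theorem vc_zero (D : Loc p t w r k n s) : vc D 0 = 0 := by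
  have := vc_xor D 0 0
  rw [Nat.xor_self] at this
  exact left_eq_add.1 this

theorem bits_of_VC (D : Loc p t w r k n s) {c d : ℕ} {x : G} (h1 : VC t w r k n z s c x)
    (h2 : VC t w r k n z s d x) (j : ℕ) (hj : j < 8) :
    xs (fun i => gramQ i j) c 8 = xs (fun i => gramQ i j) d 8 := by
  have hx := h1.mem D
  rcases p.lz.comm x hx _ (f_mem D j hj) with h | h
  · rw [bit_of_comm p.lz D.rels D.s_mem h1 hj (β := false) (by rw [cb_false, mul_one]; exact h),
      bit_of_comm p.lz D.rels D.s_mem h2 hj (β := false) (by rw [cb_false, mul_one]; exact h)]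
  · rw [bit_of_comm p.lz D.rels D.s_mem h1 hj (β := true) (by rw [cb_true]; exact h),
      bit_of_comm p.lz D.rels D.s_mem h2 hj (β := true) (by rw [cb_true]; exact h)]

theorem VC_inj (D : Loc p t w r k n s) {c d : ℕ} {x : G} (hc : c < 256) (hd : d < 256)
    (h1 : VC t w r k n z s c x) (h2 : VC t w r k n z s d x) : c = d := by
  have h3 : key gramQ c 8 = key gramQ d 8 := key_congr 8 (bits_of_VC D h1 h2)
  rw [← Nat.eq_of_beq_eq_true (allB key_check c hc), ← Nat.eq_of_beq_eq_true (allB key_check d hd), h3]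

theorem vc_inj (D : Loc p t w r k n s) {c d : ℕ} (hc : c < 256) (hd : d < 256) (h : vc D c = vc D d) :
    c = d := VC_inj D hc hd (Or.inl rfl) ((pr_eq_vc D (io_mem (f_mem D) c) d).1 h)

theorem VC_self (c : ℕ) : VC t w r k n z s c (io (fQ t w r k n z s) c 8) := Or.inl rfl

theorem VC_mul (D : Loc p t w r k n s) {c d : ℕ} {x y : G} (h1 : VC t w r k n z s c x)
    (h2 : VC t w r k n z s d y) : VC t w r k n z s (c ^^^ d) (x * y) := by
  have hx := h1.mem D
  have hy := h2.mem D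
  rw [← pr_eq_vc D (Q.mul_mem hx hy), vc_xor, ← (pr_eq_vc D hx c).2 h1, ← (pr_eq_vc D hy d).2 h2,
    ← p.lz.pr_mul]
  rfl

theorem VC_inv (D : Loc p t w r k n s) {c : ℕ} {x : G} (h1 : VC t w r k n z s c x) :
    VC t w r k n z s c x⁻¹ := by
  have hx := h1.mem D
  rw [← pr_eq_vc D (Q.inv_mem hx), ← (pr_eq_vc D hx c).2 h1]
  have : p.lz.pr ⟨x⁻¹, Q.inv_mem hx⟩ = p.lz.pr (⟨x, hx⟩ : Q)⁻¹ := rfl
  rw [this, p.lz.pr_inv, p.lz.neg_eq]

theorem VC_mul_z (D : Loc p t w r k n s) {c : ℕ} {x : G} (h1 : VC t w r k n z s c x) :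
    VC t w r k n z s c (x * z) := by
  rcases h1 with h | h
  · right; rw [h]
  · left; rw [h, mul_assoc, p.lz.z_sq, mul_one]

/-- image of a code -/
def tv (T : ℕ → ℕ) (c : ℕ) : ℕ := ap T c 8

/-- action on codes: `g f_i g⁻¹ ≡ T_i` -/
theorem VC_conj (D : Loc p t w r k n s) {g : G} (hg : g * z = z * g) {T : ℕ → ℕ}
    (hT : ∀ i < 8, VC t w r k n z s (T i) (g * fQ t w r k n z s i * g⁻¹)) {c : ℕ} {x : G}
    (h : VC t w r k n z s c x) : VC t w r k n z s (tv T c) (g * x * g⁻¹) := by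
  have hgz : g * z * g⁻¹ = z := by rw [hg]; group
  have key : ∀ n' ≤ 8, VC t w r k n z s (ap T c n') (g * io (fQ t w r k n z s) c n' * g⁻¹) := by
    intro n'
    induction n' with
    | zero =>
      intro _
      rw [io_zero, mul_one, mul_inv_cancel]
      left
      exact (io_code_zero _ 8).symm
    | succ n' ih =>
      intro hn
      rw [io_succ, ap_succ]
      have e : g * (io (fQ t w r k n z s) c n' * cb (bt c n') (fQ t w r k n z s n')) * g⁻¹ =
          (g * io (fQ t w r k n z s) c n' * g⁻¹) * (g * cb (bt c n') (fQ t w r k n z s n') * g⁻¹) := by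
        group
      rw [e]
      refine VC_mul D (ih (by omega)) ?_
      cases bt c n'
      · rw [cb_false, mul_one, mul_inv_cancel]
        left
        exact (io_code_zero _ 8).symm
      · exact hT n' (by omega)
  rcases h with h | h
  · rw [h]; exact key 8 le_rfl
  · rw [h]
    have e : g * (io (fQ t w r k n z s) c 8 * z) * g⁻¹ = g * io (fQ t w r k n z s) c 8 * g⁻¹ * z := by
      calc _ = (g * io (fQ t w r k n z s) c 8 * g⁻¹) * (g * z * g⁻¹) := by group
        _ = _ := by rw [hgz]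
    rw [e]
    exact VC_mul_z D (key 8 le_rfl)

/-- `g` acts on the codes as `T` -/
def VT (t w r k n z s : G) (g : G) (T : ℕ → ℕ) : Prop :=
  ∀ i < 8, VC t w r k n z s (T i) (g * fQ t w r k n z s i * g⁻¹)

theorem VT_word (R : RelsC t w r k n z s) {g T : List ℕ} (hc : chkConj wQ 8 g T = true) :
    VT t w r k n z s (ev (lt t w r k n z s 1) g) (fun i => T.getD i 0) := by
  intro i hi
  left
  exact conj_of_chk R 1 hc i hi

end

end Cfsg.Agent.TypeOMinusEight.VCode
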