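import Cfsg.Agent.TypeO8Minus.Ident

/-!
The word principle: a word identity between the letters `t w r k n z s` which holds in the model holds for all
elements with `RelsC` (helper46).
-/

set_option autoImplicit false
set_option maxRecDepth 100000

namespace Cfsg.Agent.TypeOMinusEight.Words

open Cfsg.Agent.SporadicRecognition Cfsg.Agent.SporadicRecognition.CosetCert
  Cfsg.Agent.SporadicRecognition.CosetChain Cfsg.Agent.TypeO8Minus Cfsg.Agent.TypeO8Minus.Rel
  Cfsg.Agent.TypeO8Minus.Model Cfsg.Agent.LieClassical.OrthCore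

section words

variable {G : Type*} [Group G] {t w r k n z s : G}

theorem rels_ev (h : RelsC t w r k n z s) (m : G) :
    ∀ x ∈ ELbData.rels, ev (lt t w r k n z s m) x = 1 := by
  intro x hx
  simp only [ELbData.rels, List.mem_cons, List.not_mem_nil, or_false] at hx
  rcases hx with rfl | rfl | rfl | rfl | rfl | rfl | rfl | rfl | rfl | rfl | rfl | rfl | rfl | rfl | rfl | rfl | rfl | rfl | rfl | rfl | rfl | rfl | rfl | rfl | rfl
  · simpa [ev, lt, pow_succ, mul_assoc] using h.r3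
  · simpa [ev, lt, pow_succ, mul_assoc] using h.wr
  · simpa [ev, lt, pow_succ, mul_assoc] using h.kt
  · simpa [ev, lt, pow_succ, mul_assoc] using h.kw
  · simpa [ev, lt, pow_succ, mul_assoc] using h.kr
  · simpa [ev, lt, pow_succ, mul_assoc] using h.nt
  · simpa [ev, lt, pow_succ, mul_assoc] using h.nw
  · simpa [ev, lt, pow_succ, mul_assoc] using h.nr
  · simpa [ev, lt, pow_succ, mul_assoc] using h.zt
  · simpa [ev, lt, pow_succ, mul_assoc] using h.zw
  · simpa [ev, lt, pow_succ, mul_assoc] using h.zr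
  · simpa [ev, lt, pow_succ, mul_assoc] using h.zk
  · simpa [ev, lt, pow_succ, mul_assoc] using h.zn
  · simpa [ev, lt, pow_succ, mul_assoc] using h.zs
  · simpa [ev, lt, pow_succ, mul_assoc] using h.sr
  · simpa [ev, lt, pow_succ, mul_assoc] using h.wt
  · simpa [ev, lt, pow_succ, mul_assoc] using h.tr
  · simpa [ev, lt, pow_succ, mul_assoc] using h.kn
  · simpa [ev, lt, pow_succ, mul_assoc] using h.ks
  · simpa [ev, lt, pow_succ, mul_assoc] using h.trtr
  · simpa [ev, lt, pow_succ, mul_assoc] using h.swt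
  · simpa [ev, lt, pow_succ, mul_assoc] using h.sw
  · simpa [ev, lt, pow_succ, mul_assoc] using h.sn
  · have h1 : (s * n * w * s * w * n) ^ 2 * z = 1 := by rw [h.zz, h.z2]
    simpa [ev, lt, pow_succ, mul_assoc] using h1
  · simpa [ev, lt, pow_succ, mul_assoc] using h.five

theorem inv_b (h : RelsC t w r k n z s) (m : G) : ∀ x, x < ELbData.C.k → ELbData.C.inv x < ELbData.C.k ∧
    lt t w r k n z s m x * lt t w r k n z s m (ELbData.C.inv x) = 1 := by
  intro x hx
  have hx' : x < 8 := hx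
  interval_cases x
  · exact ⟨by decide, h.t2⟩
  · exact ⟨by decide, h.w2⟩
  · exact ⟨by decide, mul_inv_cancel r⟩
  · exact ⟨by decide, inv_mul_cancel r⟩
  · exact ⟨by decide, h.k2⟩
  · exact ⟨by decide, h.n2⟩
  · exact ⟨by decide, h.z2⟩
  · exact ⟨by decide, h.s2⟩

theorem inv_c (h : RelsC t w r k n z s) (m : G) : ∀ x, x < ELcData.C.k → ELcData.C.inv x < ELcData.C.k ∧
    lt t w r k n z s m x * lt t w r k n z s m (ELcData.C.inv x) = 1 := by
  intro x hx
  have hx' : x < 6 := hx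
  interval_cases x
  · exact ⟨by decide, h.t2⟩
  · exact ⟨by decide, h.w2⟩
  · exact ⟨by decide, mul_inv_cancel r⟩
  · exact ⟨by decide, inv_mul_cancel r⟩
  · exact ⟨by decide, h.k2⟩
  · exact ⟨by decide, h.n2⟩

theorem inv_d (h : RelsC t w r k n z s) (m : G) : ∀ x, x < ELdData.C.k → ELdData.C.inv x < ELdData.C.k ∧
    lt t w r k n z s m x * lt t w r k n z s m (ELdData.C.inv x) = 1 := by
  intro x hx
  have hx' : x < 4 := hx
  interval_cases x
  · exact ⟨by decide, h.t2⟩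
  · exact ⟨by decide, h.w2⟩
  · exact ⟨by decide, mul_inv_cancel r⟩
  · exact ⟨by decide, inv_mul_cancel r⟩

theorem card_d (h : RelsC t w r k n z s) (m : G) :
    Finite (Subgroup.closure (lt t w r k n z s m '' {x | x < 4})) ∧
    Nat.card (Subgroup.closure (lt t w r k n z s m '' {x | x < 4})) ≤ 60 * 1 := by
  have := card_step ELdData.C (lt t w r k n z s m) ELdData.rels [] ⊥ (inv_d h m)
    (fun x hx _ => rels_ev h m x ((show ∀ x ∈ ELdData.rels, x ∈ ELbData.rels by decide) x hx))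
    (by simp) (by decide +kernel) ELdAll.part inferInstance
  have h1 : Nat.card (⊥ : Subgroup G) = 1 := by simp
  rw [h1] at this
  exact this

theorem card_c (h : RelsC t w r k n z s) (m : G) :
    Finite (Subgroup.closure (lt t w r k n z s m '' {x | x < 6})) ∧
    Nat.card (Subgroup.closure (lt t w r k n z s m '' {x | x < 6})) ≤ 6 * (60 * 1) := by
  have := card_step ELcData.C (lt t w r k n z s m) ELcData.rels ELcData.subw
    (Subgroup.closure (lt t w r k n z s m '' {x | x < 4})) (inv_c h m)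
    (fun x hx _ => rels_ev h m x ((show ∀ x ∈ ELcData.rels, x ∈ ELbData.rels by decide) x hx))
    (fun x hx _ => sub_letters _ 4 ELcData.subw (by decide) x hx) (by decide +kernel)
    ELcAll.part (card_d h m).1
  exact ⟨this.1, this.2.trans (Nat.mul_le_mul_left _ (card_d h m).2)⟩

theorem card_b (h : RelsC t w r k n z s) (m : G) :
    Finite (Subgroup.closure (lt t w r k n z s m '' {x | x < 8})) ∧
    Nat.card (Subgroup.closure (lt t w r k n z s m '' {x | x < 8})) ≤ 512 * (6 * (60 * 1)) := by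
  have := card_step ELbData.C (lt t w r k n z s m) ELbData.rels ELbData.subw
    (Subgroup.closure (lt t w r k n z s m '' {x | x < 6})) (inv_b h m)
    (fun x hx _ => rels_ev h m x hx)
    (fun x hx _ => sub_letters _ 6 ELbData.subw (by decide) x hx) (by decide +kernel)
    ELbAll.part (card_c h m).1
  exact ⟨this.1, this.2.trans (Nat.mul_le_mul_left _ (card_c h m).2)⟩

/-- the subgroup of the model -/
noncomputable abbrev CM : Subgroup (V ≃ₗ[ZMod 2] V) := Subgroup.closure (ltM '' {x | x < 8})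

theorem card_CM : 512 * (6 * 60) ≤ Nat.card CM := by
  have h := Model.rels
  have := card_step ELaData.C ltM ELaData.rels ELaData.subw CM (Rel.inv_a h)
    (fun x hx _ => Rel.rels_ev h x hx)
    (fun x hx _ => sub_letters _ 8 ELaData.subw (by decide) x hx) (by decide +kernel)
    ELaAll.part (card_b h.toRelsC mM).1
  have h2 : Nat.card (Subgroup.closure (ltM '' {x | x < ELaData.C.k})) = 197406720 := by
    rw [← Ident.card_E, ← Gener.X_eq]
    have : Subgroup.closure (ltM '' {x | x < ELaData.C.k}) = Gener.X := Rel.closure_eq _ _ _ _ _ _ _ _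
    rw [this]
  have h3 := this.2
  rw [h2] at h3
  have : 1071 * (512 * (6 * 60)) = 197406720 := by norm_num
  omega

theorem RelsC_prod {H : Type*} [Group H] (h : RelsC t w r k n z s)
    {t' w' r' k' n' z' s' : H} (h' : RelsC t' w' r' k' n' z' s') :
    RelsC (t, t') (w, w') (r, r') (k, k') (n, n') (z, z') (s, s') where
  t2 := Prod.ext h.t2 h'.t2
  w2 := Prod.ext h.w2 h'.w2
  k2 := Prod.ext h.k2 h'.k2
  n2 := Prod.ext h.n2 h'.n2
  z2 := Prod.ext h.z2 h'.z2
  s2 := Prod.ext h.s2 h'.s2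
  r3 := Prod.ext h.r3 h'.r3
  wr := Prod.ext h.wr h'.wr
  wt := Prod.ext h.wt h'.wt
  tr := Prod.ext h.tr h'.tr
  trtr := Prod.ext h.trtr h'.trtr
  kn := Prod.ext h.kn h'.kn
  kt := Prod.ext h.kt h'.kt
  kw := Prod.ext h.kw h'.kw
  kr := Prod.ext h.kr h'.kr
  nt := Prod.ext h.nt h'.nt
  nw := Prod.ext h.nw h'.nw
  nr := Prod.ext h.nr h'.nr
  zt := Prod.ext h.zt h'.zt
  zw := Prod.ext h.zw h'.zw
  zr := Prod.ext h.zr h'.zr
  zk := Prod.ext h.zk h'.zk
  zn := Prod.ext h.zn h'.zn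
  zs := Prod.ext h.zs h'.zs
  sr := Prod.ext h.sr h'.sr
  ks := Prod.ext h.ks h'.ks
  swt := Prod.ext h.swt h'.swt
  sw := Prod.ext h.sw h'.sw
  sn := Prod.ext h.sn h'.sn
  five := Prod.ext h.five h'.five
  zz := Prod.ext h.zz h'.zz

theorem lt_pair (t w r k n z s m : G) (x : ℕ) :
    lt (t, tM) (w, wM) (r, rM) (k, kM) (n, nM) (z, zM) (s, sM) (m, mM) x =
      (lt t w r k n z s m x, ltM x) := by
  rcases x with _ | _ | _ | _ | _ | _ | _ | _ | x <;> rfl

theorem ev_pair (t w r k n z s m : G) (u : List ℕ) :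
    ev (lt (t, tM) (w, wM) (r, rM) (k, kM) (n, nM) (z, zM) (s, sM) (m, mM)) u =
      (ev (lt t w r k n z s m) u, ev ltM u) := by
  induction u with
  | nil => rfl
  | cons x u ih => rw [ev_cons, ev_cons, ev_cons, ih, lt_pair]; rfl

theorem ev_mem_closure {H : Type*} [Group H] (g : ℕ → H) {u : List ℕ} {j : ℕ} (hu : ∀ x ∈ u, x < j) :
    ev g u ∈ Subgroup.closure (g '' {x | x < j}) := by
  induction u with
  | nil => exact Subgroup.one_mem _
  | cons x u ih =>
    rw [ev_cons]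
    exact Subgroup.mul_mem _ (Subgroup.subset_closure ⟨x, hu x (by simp), rfl⟩)
      (ih fun y hy => hu y (by simp [hy]))

/-- **The word principle.** -/
theorem ev_eq (h : RelsC t w r k n z s) (m : G) {u v : List ℕ} (hu : ∀ x ∈ u, x < 8)
    (hv : ∀ x ∈ v, x < 8) (huv : ev ltM u = ev ltM v) :
    ev (lt t w r k n z s m) u = ev (lt t w r k n z s m) v := by
  classical
  set L := lt (t, tM) (w, wM) (r, rM) (k, kM) (n, nM) (z, zM) (s, sM) (m, mM) with hL
  set Γ := Subgroup.closure (L '' {x | x < 8}) with hΓ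
  obtain ⟨hfin, hcard⟩ := card_b (RelsC_prod h Model.rels.toRelsC) (m, mM)
  rw [← hL, ← hΓ] at hfin hcard
  let f : Γ →* CM := ((MonoidHom.snd G (V ≃ₗ[ZMod 2] V)).comp Γ.subtype).codRestrict CM (by
    have hle : Γ ≤ CM.comap (MonoidHom.snd G (V ≃ₗ[ZMod 2] V)) := by
      rw [hΓ, Subgroup.closure_le]
      rintro _ ⟨x, hx, rfl⟩
      show (L x).2 ∈ CM
      rw [hL, lt_pair]
      exact Subgroup.subset_closure ⟨x, hx, rfl⟩
    exact fun x => hle x.2)
  have hfs : Function.Surjective f := by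
    have hle : CM ≤ Γ.map (MonoidHom.snd G (V ≃ₗ[ZMod 2] V)) := by
      rw [Subgroup.closure_le]
      rintro _ ⟨x, hx, rfl⟩
      refine ⟨L x, Subgroup.subset_closure ⟨x, hx, rfl⟩, ?_⟩
      rw [hL, lt_pair]
      rfl
    rintro ⟨y, hy⟩
    obtain ⟨x, hx, rfl⟩ := hle hy
    exact ⟨⟨x, hx⟩, rfl⟩
  have hfC : Finite CM := Finite.of_surjective f hfs
  have hinj : Function.Injective f := by
    have := Fintype.ofFinite Γ
    have := Fintype.ofFinite CM
    have h1 : Nat.card Γ ≤ Nat.card CM := hcard.trans card_CM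
    have h2 : Fintype.card CM = Fintype.card Γ := by
      apply le_antisymm
      · exact Fintype.card_le_of_surjective f hfs
      · rwa [← Nat.card_eq_fintype_card, ← Nat.card_eq_fintype_card]
    exact ((Fintype.bijective_iff_surjective_and_card f).2 ⟨hfs, h2.symm⟩).1
  have hmem : ∀ u : List ℕ, (∀ x ∈ u, x < 8) → (ev (lt t w r k n z s m) u, ev ltM u) ∈ Γ := by
    intro u hu
    rw [← ev_pair]
    exact ev_mem_closure L hu
  have key : (⟨_, hmem u hu⟩ : Γ) = ⟨_, hmem v hv⟩ := by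
    apply hinj
    apply Subtype.ext
    exact huv
  exact congrArg (fun x : Γ => (x : G × (V ≃ₗ[ZMod 2] V)).1) key

/-- fast tables of the letters: byte `c` of `big x` is the image of the code `c` -/
def big (x : ℕ) : ℕ :=
  bif Nat.beq x 0 then 0x3b3a39383f3e3d3c33323130373635342b2a29282f2e2d2c2322212027262524dfdedddcdbdad9d8d7d6d5d4d3d2d1d0cfcecdcccbcac9c8c7c6c5c4c3c2c1c07f7e7d7c7b7a797877767574737271706f6e6d6c6b6a696867666564636261609b9a99989f9e9d9c93929190979695948b8a89888f8e8d8c8382818087868584bfbebdbcbbbab9b8b7b6b5b4b3b2b1b0afaeadacabaaa9a8a7a6a5a4a3a2a1a05b5a59585f5e5d5c53525150575655544b4a49484f4e4d4c4342414047464544fbfaf9f8fffefdfcf3f2f1f0f7f6f5f4ebeae9e8efeeedece3e2e1e0e7e6e5e41f1e1d1c1b1a191817161514131211100f0e0d0c0b0a09080706050403020100 else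
  bif Nat.beq x 1 then 0xfffefdfcdfdedddcf7f6f5f4d7d6d5d4efeeedeccfcecdcce7e6e5e4c7c6c5c4fbfaf9f8dbdad9d8f3f2f1f0d3d2d1d0ebeae9e8cbcac9c8e3e2e1e0c3c2c1c07f7e7d7c5f5e5d5c77767574575655546f6e6d6c4f4e4d4c67666564474645447b7a79785b5a595873727170535251506b6a69684b4a49486362616043424140bfbebdbc9f9e9d9cb7b6b5b497969594afaeadac8f8e8d8ca7a6a5a487868584bbbab9b89b9a9998b3b2b1b093929190abaaa9a88b8a8988a3a2a1a0838281803f3e3d3c1f1e1d1c37363534171615142f2e2d2c0f0e0d0c27262524070605043b3a39381b1a191833323130131211102b2a29280b0a09082322212003020100 else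
  bif Nat.beq x 2 then 0xbfbebdbcbbbab9b8b7b6b5b4b3b2b1b0afaeadacabaaa9a8a7a6a5a4a3a2a1a09f9e9d9c9b9a999897969594939291908f8e8d8c8b8a898887868584838281807f7e7d7c7b7a797877767574737271706f6e6d6c6b6a696867666564636261605f5e5d5c5b5a595857565554535251504f4e4d4c4b4a49484746454443424140fffefdfcfbfaf9f8f7f6f5f4f3f2f1f0efeeedecebeae9e8e7e6e5e4e3e2e1e0dfdedddcdbdad9d8d7d6d5d4d3d2d1d0cfcecdcccbcac9c8c7c6c5c4c3c2c1c03f3e3d3c3b3a393837363534333231302f2e2d2c2b2a292827262524232221201f1e1d1c1b1a191817161514131211100f0e0d0c0b0a09080706050403020100 else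
  bif Nat.beq x 3 then 0x7f7e7d7c7b7a797877767574737271706f6e6d6c6b6a696867666564636261605f5e5d5c5b5a595857565554535251504f4e4d4c4b4a49484746454443424140fffefdfcfbfaf9f8f7f6f5f4f3f2f1f0efeeedecebeae9e8e7e6e5e4e3e2e1e0dfdedddcdbdad9d8d7d6d5d4d3d2d1d0cfcecdcccbcac9c8c7c6c5c4c3c2c1c0bfbebdbcbbbab9b8b7b6b5b4b3b2b1b0afaeadacabaaa9a8a7a6a5a4a3a2a1a09f9e9d9c9b9a999897969594939291908f8e8d8c8b8a898887868584838281803f3e3d3c3b3a393837363534333231302f2e2d2c2b2a292827262524232221201f1e1d1c1b1a191817161514131211100f0e0d0c0b0a09080706050403020100 else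
  bif Nat.beq x 4 then 0xeeefedeceaebe9e8f6f7f5f4f2f3f1f0fefffdfcfafbf9f8e6e7e5e4e2e3e1e0cecfcdcccacbc9c8d6d7d5d4d2d3d1d0dedfdddcdadbd9d8c6c7c5c4c2c3c1c0aeafadacaaaba9a8b6b7b5b4b2b3b1b0bebfbdbcbabbb9b8a6a7a5a4a2a3a1a08e8f8d8c8a8b898896979594929391909e9f9d9c9a9b999886878584828381806e6f6d6c6a6b696876777574727371707e7f7d7c7a7b797866676564626361604e4f4d4c4a4b494856575554525351505e5f5d5c5a5b595846474544424341402e2f2d2c2a2b292836373534323331303e3f3d3c3a3b393826272524222321200e0f0d0c0a0b090816171514121311101e1f1d1c1a1b19180607050402030100 else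
  bif Nat.beq x 5 then 0xfffdfefcfbf9faf8efedeeecebe9eae8f7f5f6f4f3f1f2f0e7e5e6e4e3e1e2e0dfdddedcdbd9dad8cfcdcecccbc9cac8d7d5d6d4d3d1d2d0c7c5c6c4c3c1c2c0bfbdbebcbbb9bab8afadaeacaba9aaa8b7b5b6b4b3b1b2b0a7a5a6a4a3a1a2a09f9d9e9c9b999a988f8d8e8c8b898a88979596949391929087858684838182807f7d7e7c7b797a786f6d6e6c6b696a68777576747371727067656664636162605f5d5e5c5b595a584f4d4e4c4b494a48575556545351525047454644434142403f3d3e3c3b393a382f2d2e2c2b292a28373536343331323027252624232122201f1d1e1c1b191a180f0d0e0c0b090a0817151614131112100705060403010200 else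
  bif Nat.beq x 6 then 0xfcfdfefff8f9fafbf6f7f4f5f2f3f0f1edecefeee9e8ebeae7e6e5e4e3e2e1e0dcdddedfd8d9dadbd6d7d4d5d2d3d0d1cdcccfcec9c8cbcac7c6c5c4c3c2c1c0bcbdbebfb8b9babbb6b7b4b5b2b3b0b1adacafaea9a8abaaa7a6a5a4a3a2a1a09c9d9e9f98999a9b96979495929390918d8c8f8e89888b8a87868584838281807c7d7e7f78797a7b76777475727370716d6c6f6e69686b6a67666564636261605c5d5e5f58595a5b56575455525350514d4c4f4e49484b4a47464544434241403c3d3e3f38393a3b36373435323330312d2c2f2e29282b2a27262524232221201c1d1e1f18191a1b16171415121310110d0c0f0e09080b0a0706050403020100 else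
  bif Nat.beq x 7 then 0xdddcdfdedbdad9d8d5d4d7d6d3d2d1d0edecefeeebeae9e8e5e4e7e6e3e2e1e0fdfcfffefbfaf9f8f5f4f7f6f3f2f1f0cdcccfcecbcac9c8c5c4c7c6c3c2c1c09d9c9f9e9b9a99989594979693929190adacafaeabaaa9a8a5a4a7a6a3a2a1a0bdbcbfbebbbab9b8b5b4b7b6b3b2b1b08d8c8f8e8b8a898885848786838281805d5c5f5e5b5a595855545756535251506d6c6f6e6b6a696865646766636261607d7c7f7e7b7a797875747776737271704d4c4f4e4b4a494845444746434241401d1c1f1e1b1a191815141716131211102d2c2f2e2b2a292825242726232221203d3c3f3e3b3a393835343736333231300d0c0f0e0b0a09080504070603020100 else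
  0xfffefbfafdfcf9f8f7f6f3f2f5f4f1f0dfdedbdadddcd9d8d7d6d3d2d5d4d1d0efeeebeaedece9e8e7e6e3e2e5e4e1e0cfcecbcacdccc9c8c7c6c3c2c5c4c1c0bfbebbbabdbcb9b8b7b6b3b2b5b4b1b09f9e9b9a9d9c99989796939295949190afaeabaaadaca9a8a7a6a3a2a5a4a1a08f8e8b8a8d8c898887868382858481807f7e7b7a7d7c797877767372757471705f5e5b5a5d5c595857565352555451506f6e6b6a6d6c696867666362656461604f4e4b4a4d4c494847464342454441403f3e3b3a3d3c393837363332353431301f1e1b1a1d1c191817161312151411102f2e2b2a2d2c292827262322252421200f0e0b0a0d0c09080706030205040100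

/-- image of a code, fast version -/
def ap1 (x c : ℕ) : ℕ := Nat.land (Nat.shiftRight (big x) (Nat.mul 8 c)) 255

theorem ap1_check : (List.range 9).all (fun x => (List.range 256).all fun c =>
    Nat.beq (ap1 x c) (app (tab x) c)) = true := by decide +kernel

theorem ap1_eq {x c : ℕ} (hx : x < 9) (hc : c < 256) : ap1 x c = app (tab x) c :=
  Nat.eq_of_beq_eq_true (allB_sound (allB_sound ap1_check x hx) c hc)

/-- image of a code under a word, fast version -/
def wd1 (u : List ℕ) (c : ℕ) : ℕ := u.foldr ap1 c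

theorem wd1_eq {u : List ℕ} (hu : ∀ x ∈ u, x < 9) {c : ℕ} (hc : c < 256) : wd1 u c = wd u c := by
  induction u with
  | nil => rfl
  | cons x u ih =>
    have h1 := ih fun y hy => hu y (by simp [hy])
    show ap1 x (wd1 u c) = app (tab x) (wd u c)
    rw [h1, ap1_eq (hu x (by simp)) (wd_lt (fun y hy => hu y (by simp [hy])) hc)]

/-- the checker -/
def chk (u v : List ℕ) : Bool :=
  u.all (fun x => Nat.ble x 7) && (v.all (fun x => Nat.ble x 7) &&
    [1, 2, 4, 8, 16, 32, 64, 128].all fun i => Nat.beq (wd1 u i) (wd1 v i))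

theorem ev_of_chk (h : RelsC t w r k n z s) (m : G) {u v : List ℕ} (hc : chk u v = true) :
    ev (lt t w r k n z s m) u = ev (lt t w r k n z s m) v := by
  rw [chk, Bool.and_eq_true, Bool.and_eq_true] at hc
  obtain ⟨h1, h2, h3⟩ := hc
  have h1' : ∀ x ∈ u, x < 8 := fun x hx => Nat.lt_succ_of_le (Nat.le_of_ble_eq_true (List.all_eq_true.1 h1 x hx))
  have h2' : ∀ x ∈ v, x < 8 := fun x hx => Nat.lt_succ_of_le (Nat.le_of_ble_eq_true (List.all_eq_true.1 h2 x hx))
  have h1'' : ∀ x ∈ u, x < 9 := fun x hx => Nat.lt_of_lt_of_le (h1' x hx) (by norm_num)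
  have h2'' : ∀ x ∈ v, x < 9 := fun x hx => Nat.lt_of_lt_of_le (h2' x hx) (by norm_num)
  refine ev_eq h m h1' h2' ?_
  apply ext_code
  intro i hi
  have hc : 1 <<< i < 256 := by interval_cases i <;> decide
  rw [ev_vec h1'' hc, ev_vec h2'' hc, ← wd1_eq h1'' hc, ← wd1_eq h2'' hc]
  have h4 : (1 <<< i) ∈ [1, 2, 4, 8, 16, 32, 64, 128] := by interval_cases i <;> decide
  rw [Nat.eq_of_beq_eq_true (List.all_eq_true.1 h3 _ h4)]

end words

end Cfsg.Agent.TypeOMinusEight.Words
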